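import Cfsg.Agent.Lib.Spor.Fi24.Defs

set_option autoImplicit false
set_option maxRecDepth 100000
set_option Elab.async false
set_option exponentiation.threshold 100000

namespace Cfsg.Agent.Spor.Fi24
open Cfsg.Agent.PG

theorem cl9_0_0 : chkOn A 19 0 1 (cl9_l) = true := by decide +kernel

theorem cl9_0_1 : chkOn A 19 1 1 (cl9_l) = true := by decide +kernel

theorem cl9_0_2 : chkOn A 19 2 1 (cl9_l) = true := by decide +kernel

theorem cl9_0_3 : chkOn A 19 3 1 (cl9_l) = true := by decide +kernel

theorem cl9_0_4 : chkOn A 19 4 1 (cl9_l) = true := by decide +kernel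

theorem cl9_0_5 : chkOn A 19 5 1 (cl9_l) = true := by decide +kernel

theorem cl9_0_6 : chkOn A 19 6 1 (cl9_l) = true := by decide +kernel

theorem cl9_0_7 : chkOn A 19 7 1 (cl9_l) = true := by decide +kernel

theorem cl9_0_8 : chkOn A 19 8 1 (cl9_l) = true := by decide +kernel

theorem cl9_0_9 : chkOn A 19 9 1 (cl9_l) = true := by decide +kernel

theorem cl9_0_10 : chkOn A 19 10 1 (cl9_l) = true := by decide +kernel

theorem cl9_0_11 : chkOn A 19 11 1 (cl9_l) = true := by decide +kernel

theorem cl9_0_12 : chkOn A 19 12 1 (cl9_l) = true := by decide +kernel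

theorem cl9_0_13 : chkOn A 19 13 1 (cl9_l) = true := by decide +kernel

theorem cl9_0_14 : chkOn A 19 14 1 (cl9_l) = true := by decide +kernel

theorem cl9_0_15 : chkOn A 19 15 1 (cl9_l) = true := by decide +kernel

theorem cl9_0_16 : chkOn A 19 16 1 (cl9_l) = true := by decide +kernel

theorem cl9_0_17 : chkOn A 19 17 1 (cl9_l) = true := by decide +kernel

theorem cl9_0_18 : chkOn A 19 18 1 (cl9_l) = true := by decide +kernel

theorem ok9 : plainOK A 12 13 0 tr9 ce9 = true := by decide +kernel

theorem orb9 : orbCardB A 16 12 0 2 2 = true := by decide +kernel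

theorem cl8_0_0 : chkOn A 19 0 1 (cl8_l) = true := by decide +kernel

theorem cl8_0_1 : chkOn A 19 1 1 (cl8_l) = true := by decide +kernel

theorem cl8_0_2 : chkOn A 19 2 1 (cl8_l) = true := by decide +kernel

theorem cl8_0_3 : chkOn A 19 3 1 (cl8_l) = true := by decide +kernel

theorem cl8_0_4 : chkOn A 19 4 1 (cl8_l) = true := by decide +kernel

theorem cl8_0_5 : chkOn A 19 5 1 (cl8_l) = true := by decide +kernel

theorem cl8_0_6 : chkOn A 19 6 1 (cl8_l) = true := by decide +kernel

theorem cl8_0_7 : chkOn A 19 7 1 (cl8_l) = true := by decide +kernel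

theorem cl8_0_8 : chkOn A 19 8 1 (cl8_l) = true := by decide +kernel

theorem cl8_0_9 : chkOn A 19 9 1 (cl8_l) = true := by decide +kernel

theorem cl8_0_10 : chkOn A 19 10 1 (cl8_l) = true := by decide +kernel

theorem cl8_0_11 : chkOn A 19 11 1 (cl8_l) = true := by decide +kernel

theorem cl8_0_12 : chkOn A 19 12 1 (cl8_l) = true := by decide +kernel

theorem cl8_0_13 : chkOn A 19 13 1 (cl8_l) = true := by decide +kernel

theorem cl8_0_14 : chkOn A 19 14 1 (cl8_l) = true := by decide +kernel

theorem cl8_0_15 : chkOn A 19 15 1 (cl8_l) = true := by decide +kernel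

theorem cl8_0_16 : chkOn A 19 16 1 (cl8_l) = true := by decide +kernel

theorem cl8_0_17 : chkOn A 19 17 1 (cl8_l) = true := by decide +kernel

theorem cl8_0_18 : chkOn A 19 18 1 (cl8_l) = true := by decide +kernel

theorem ok8 : plainOK A 10 12 31254 tr8 ce8 = true := by decide +kernel

theorem orb8 : orbCardB A 16 10 31254 2 4 = true := by decide +kernel

theorem cl7_0_0 : chkOn A 19 0 1 ((cl7_l).take 15) = true := by decide +kernel

theorem cl7_0_1 : chkOn A 19 1 1 ((cl7_l).take 15) = true := by decide +kernel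

theorem cl7_0_2 : chkOn A 19 2 1 ((cl7_l).take 15) = true := by decide +kernel

theorem cl7_0_3 : chkOn A 19 3 1 ((cl7_l).take 15) = true := by decide +kernel

theorem cl7_0_4 : chkOn A 19 4 1 ((cl7_l).take 15) = true := by decide +kernel

theorem cl7_0_5 : chkOn A 19 5 1 ((cl7_l).take 15) = true := by decide +kernel

theorem cl7_0_6 : chkOn A 19 6 1 ((cl7_l).take 15) = true := by decide +kernel

theorem cl7_0_7 : chkOn A 19 7 1 ((cl7_l).take 15) = true := by decide +kernel

theorem cl7_0_8 : chkOn A 19 8 1 ((cl7_l).take 15) = true := by decide +kernel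

theorem cl7_0_9 : chkOn A 19 9 1 ((cl7_l).take 15) = true := by decide +kernel

theorem cl7_0_10 : chkOn A 19 10 1 ((cl7_l).take 15) = true := by decide +kernel

theorem cl7_0_11 : chkOn A 19 11 1 ((cl7_l).take 15) = true := by decide +kernel

theorem cl7_0_12 : chkOn A 19 12 1 ((cl7_l).take 15) = true := by decide +kernel

theorem cl7_0_13 : chkOn A 19 13 1 ((cl7_l).take 15) = true := by decide +kernel

theorem cl7_0_14 : chkOn A 19 14 1 ((cl7_l).take 15) = true := by decide +kernel

theorem cl7_0_15 : chkOn A 19 15 1 ((cl7_l).take 15) = true := by decide +kernel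

theorem cl7_0_16 : chkOn A 19 16 1 ((cl7_l).take 15) = true := by decide +kernel

theorem cl7_0_17 : chkOn A 19 17 1 ((cl7_l).take 15) = true := by decide +kernel

theorem cl7_0_18 : chkOn A 19 18 1 ((cl7_l).take 15) = true := by decide +kernel

theorem cl7_1_0 : chkOn A 19 0 1 (((cl7_l).drop 15).take 8) = true := by decide +kernel

theorem cl7_1_1 : chkOn A 19 1 1 (((cl7_l).drop 15).take 8) = true := by decide +kernel

theorem cl7_1_2 : chkOn A 19 2 1 (((cl7_l).drop 15).take 8) = true := by decide +kernel

theorem cl7_1_3 : chkOn A 19 3 1 (((cl7_l).drop 15).take 8) = true := by decide +kernel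

theorem cl7_1_4 : chkOn A 19 4 1 (((cl7_l).drop 15).take 8) = true := by decide +kernel

theorem cl7_1_5 : chkOn A 19 5 1 (((cl7_l).drop 15).take 8) = true := by decide +kernel

theorem cl7_1_6 : chkOn A 19 6 1 (((cl7_l).drop 15).take 8) = true := by decide +kernel

theorem cl7_1_7 : chkOn A 19 7 1 (((cl7_l).drop 15).take 8) = true := by decide +kernel

theorem cl7_1_8 : chkOn A 19 8 1 (((cl7_l).drop 15).take 8) = true := by decide +kernel

theorem cl7_1_9 : chkOn A 19 9 1 (((cl7_l).drop 15).take 8) = true := by decide +kernel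

theorem cl7_1_10 : chkOn A 19 10 1 (((cl7_l).drop 15).take 8) = true := by decide +kernel

theorem cl7_1_11 : chkOn A 19 11 1 (((cl7_l).drop 15).take 8) = true := by decide +kernel

theorem cl7_1_12 : chkOn A 19 12 1 (((cl7_l).drop 15).take 8) = true := by decide +kernel

theorem cl7_1_13 : chkOn A 19 13 1 (((cl7_l).drop 15).take 8) = true := by decide +kernel

theorem cl7_1_14 : chkOn A 19 14 1 (((cl7_l).drop 15).take 8) = true := by decide +kernel

theorem cl7_1_15 : chkOn A 19 15 1 (((cl7_l).drop 15).take 8) = true := by decide +kernel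

theorem cl7_1_16 : chkOn A 19 16 1 (((cl7_l).drop 15).take 8) = true := by decide +kernel

theorem cl7_1_17 : chkOn A 19 17 1 (((cl7_l).drop 15).take 8) = true := by decide +kernel

theorem cl7_1_18 : chkOn A 19 18 1 (((cl7_l).drop 15).take 8) = true := by decide +kernel

theorem cl7_2_0 : chkOn A 19 0 1 (((cl7_l).drop 15).drop 8) = true := by decide +kernel

theorem cl7_2_1 : chkOn A 19 1 1 (((cl7_l).drop 15).drop 8) = true := by decide +kernel

theorem cl7_2_2 : chkOn A 19 2 1 (((cl7_l).drop 15).drop 8) = true := by decide +kernel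

theorem cl7_2_3 : chkOn A 19 3 1 (((cl7_l).drop 15).drop 8) = true := by decide +kernel

theorem cl7_2_4 : chkOn A 19 4 1 (((cl7_l).drop 15).drop 8) = true := by decide +kernel

theorem cl7_2_5 : chkOn A 19 5 1 (((cl7_l).drop 15).drop 8) = true := by decide +kernel

theorem cl7_2_6 : chkOn A 19 6 1 (((cl7_l).drop 15).drop 8) = true := by decide +kernel

theorem cl7_2_7 : chkOn A 19 7 1 (((cl7_l).drop 15).drop 8) = true := by decide +kernel

theorem cl7_2_8 : chkOn A 19 8 1 (((cl7_l).drop 15).drop 8) = true := by decide +kernel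

theorem cl7_2_9 : chkOn A 19 9 1 (((cl7_l).drop 15).drop 8) = true := by decide +kernel

theorem cl7_2_10 : chkOn A 19 10 1 (((cl7_l).drop 15).drop 8) = true := by decide +kernel

theorem cl7_2_11 : chkOn A 19 11 1 (((cl7_l).drop 15).drop 8) = true := by decide +kernel

theorem cl7_2_12 : chkOn A 19 12 1 (((cl7_l).drop 15).drop 8) = true := by decide +kernel

theorem cl7_2_13 : chkOn A 19 13 1 (((cl7_l).drop 15).drop 8) = true := by decide +kernel

theorem cl7_2_14 : chkOn A 19 14 1 (((cl7_l).drop 15).drop 8) = true := by decide +kernel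

theorem cl7_2_15 : chkOn A 19 15 1 (((cl7_l).drop 15).drop 8) = true := by decide +kernel

theorem cl7_2_16 : chkOn A 19 16 1 (((cl7_l).drop 15).drop 8) = true := by decide +kernel

theorem cl7_2_17 : chkOn A 19 17 1 (((cl7_l).drop 15).drop 8) = true := by decide +kernel


end Cfsg.Agent.Spor.Fi24
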