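import Cfsg.Agent.Lib.Spor.Fi24.Defs

set_option autoImplicit false
set_option maxRecDepth 100000
set_option Elab.async false
set_option exponentiation.threshold 100000

namespace Cfsg.Agent.Spor.Fi24
open Cfsg.Agent.PG

theorem cl7_2_18 : chkOn A 19 18 1 (((cl7_l).drop 15).drop 8) = true := by decide +kernel

theorem ok7 : plainOK A 9 10 550 tr7 ce7 = true := by decide +kernel

theorem orb7 : orbCardB A 16 9 550 3 6 = true := by decide +kernel

theorem cl6_0_0 : chkOn A 19 0 1 ((cl6_l).take 12) = true := by decide +kernel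

theorem cl6_0_1 : chkOn A 19 1 1 ((cl6_l).take 12) = true := by decide +kernel

theorem cl6_0_2 : chkOn A 19 2 1 ((cl6_l).take 12) = true := by decide +kernel

theorem cl6_0_3 : chkOn A 19 3 1 ((cl6_l).take 12) = true := by decide +kernel

theorem cl6_0_4 : chkOn A 19 4 1 ((cl6_l).take 12) = true := by decide +kernel

theorem cl6_0_5 : chkOn A 19 5 1 ((cl6_l).take 12) = true := by decide +kernel

theorem cl6_0_6 : chkOn A 19 6 1 ((cl6_l).take 12) = true := by decide +kernel

theorem cl6_0_7 : chkOn A 19 7 1 ((cl6_l).take 12) = true := by decide +kernel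

theorem cl6_0_8 : chkOn A 19 8 1 ((cl6_l).take 12) = true := by decide +kernel

theorem cl6_0_9 : chkOn A 19 9 1 ((cl6_l).take 12) = true := by decide +kernel

theorem cl6_0_10 : chkOn A 19 10 1 ((cl6_l).take 12) = true := by decide +kernel

theorem cl6_0_11 : chkOn A 19 11 1 ((cl6_l).take 12) = true := by decide +kernel

theorem cl6_0_12 : chkOn A 19 12 1 ((cl6_l).take 12) = true := by decide +kernel

theorem cl6_0_13 : chkOn A 19 13 1 ((cl6_l).take 12) = true := by decide +kernel

theorem cl6_0_14 : chkOn A 19 14 1 ((cl6_l).take 12) = true := by decide +kernel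

theorem cl6_0_15 : chkOn A 19 15 1 ((cl6_l).take 12) = true := by decide +kernel

theorem cl6_0_16 : chkOn A 19 16 1 ((cl6_l).take 12) = true := by decide +kernel

theorem cl6_0_17 : chkOn A 19 17 1 ((cl6_l).take 12) = true := by decide +kernel

theorem cl6_0_18 : chkOn A 19 18 1 ((cl6_l).take 12) = true := by decide +kernel

theorem cl6_1_0 : chkOn A 19 0 1 (((cl6_l).drop 12).take 6) = true := by decide +kernel

theorem cl6_1_1 : chkOn A 19 1 1 (((cl6_l).drop 12).take 6) = true := by decide +kernel

theorem cl6_1_2 : chkOn A 19 2 1 (((cl6_l).drop 12).take 6) = true := by decide +kernel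

theorem cl6_1_3 : chkOn A 19 3 1 (((cl6_l).drop 12).take 6) = true := by decide +kernel

theorem cl6_1_4 : chkOn A 19 4 1 (((cl6_l).drop 12).take 6) = true := by decide +kernel

theorem cl6_1_5 : chkOn A 19 5 1 (((cl6_l).drop 12).take 6) = true := by decide +kernel

theorem cl6_1_6 : chkOn A 19 6 1 (((cl6_l).drop 12).take 6) = true := by decide +kernel

theorem cl6_1_7 : chkOn A 19 7 1 (((cl6_l).drop 12).take 6) = true := by decide +kernel

theorem cl6_1_8 : chkOn A 19 8 1 (((cl6_l).drop 12).take 6) = true := by decide +kernel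

theorem cl6_1_9 : chkOn A 19 9 1 (((cl6_l).drop 12).take 6) = true := by decide +kernel

theorem cl6_1_10 : chkOn A 19 10 1 (((cl6_l).drop 12).take 6) = true := by decide +kernel

theorem cl6_1_11 : chkOn A 19 11 1 (((cl6_l).drop 12).take 6) = true := by decide +kernel

theorem cl6_1_12 : chkOn A 19 12 1 (((cl6_l).drop 12).take 6) = true := by decide +kernel

theorem cl6_1_13 : chkOn A 19 13 1 (((cl6_l).drop 12).take 6) = true := by decide +kernel

theorem cl6_1_14 : chkOn A 19 14 1 (((cl6_l).drop 12).take 6) = true := by decide +kernel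

theorem cl6_1_15 : chkOn A 19 15 1 (((cl6_l).drop 12).take 6) = true := by decide +kernel

theorem cl6_1_16 : chkOn A 19 16 1 (((cl6_l).drop 12).take 6) = true := by decide +kernel

theorem cl6_1_17 : chkOn A 19 17 1 (((cl6_l).drop 12).take 6) = true := by decide +kernel

theorem cl6_1_18 : chkOn A 19 18 1 (((cl6_l).drop 12).take 6) = true := by decide +kernel

theorem cl6_2_0 : chkOn A 19 0 1 ((((cl6_l).drop 12).drop 6).take 5) = true := by decide +kernel

theorem cl6_2_1 : chkOn A 19 1 1 ((((cl6_l).drop 12).drop 6).take 5) = true := by decide +kernel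

theorem cl6_2_2 : chkOn A 19 2 1 ((((cl6_l).drop 12).drop 6).take 5) = true := by decide +kernel

theorem cl6_2_3 : chkOn A 19 3 1 ((((cl6_l).drop 12).drop 6).take 5) = true := by decide +kernel

theorem cl6_2_4 : chkOn A 19 4 1 ((((cl6_l).drop 12).drop 6).take 5) = true := by decide +kernel

theorem cl6_2_5 : chkOn A 19 5 1 ((((cl6_l).drop 12).drop 6).take 5) = true := by decide +kernel

theorem cl6_2_6 : chkOn A 19 6 1 ((((cl6_l).drop 12).drop 6).take 5) = true := by decide +kernel

theorem cl6_2_7 : chkOn A 19 7 1 ((((cl6_l).drop 12).drop 6).take 5) = true := by decide +kernel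

theorem cl6_2_8 : chkOn A 19 8 1 ((((cl6_l).drop 12).drop 6).take 5) = true := by decide +kernel

theorem cl6_2_9 : chkOn A 19 9 1 ((((cl6_l).drop 12).drop 6).take 5) = true := by decide +kernel

theorem cl6_2_10 : chkOn A 19 10 1 ((((cl6_l).drop 12).drop 6).take 5) = true := by decide +kernel

theorem cl6_2_11 : chkOn A 19 11 1 ((((cl6_l).drop 12).drop 6).take 5) = true := by decide +kernel

theorem cl6_2_12 : chkOn A 19 12 1 ((((cl6_l).drop 12).drop 6).take 5) = true := by decide +kernel

theorem cl6_2_13 : chkOn A 19 13 1 ((((cl6_l).drop 12).drop 6).take 5) = true := by decide +kernel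

theorem cl6_2_14 : chkOn A 19 14 1 ((((cl6_l).drop 12).drop 6).take 5) = true := by decide +kernel

theorem cl6_2_15 : chkOn A 19 15 1 ((((cl6_l).drop 12).drop 6).take 5) = true := by decide +kernel

theorem cl6_2_16 : chkOn A 19 16 1 ((((cl6_l).drop 12).drop 6).take 5) = true := by decide +kernel

theorem cl6_2_17 : chkOn A 19 17 1 ((((cl6_l).drop 12).drop 6).take 5) = true := by decide +kernel

theorem cl6_2_18 : chkOn A 19 18 1 ((((cl6_l).drop 12).drop 6).take 5) = true := by decide +kernel

theorem cl6_3_0 : chkOn A 19 0 1 ((((cl6_l).drop 12).drop 6).drop 5) = true := by decide +kernel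

theorem cl6_3_1 : chkOn A 19 1 1 ((((cl6_l).drop 12).drop 6).drop 5) = true := by decide +kernel

theorem cl6_3_2 : chkOn A 19 2 1 ((((cl6_l).drop 12).drop 6).drop 5) = true := by decide +kernel

theorem cl6_3_3 : chkOn A 19 3 1 ((((cl6_l).drop 12).drop 6).drop 5) = true := by decide +kernel

theorem cl6_3_4 : chkOn A 19 4 1 ((((cl6_l).drop 12).drop 6).drop 5) = true := by decide +kernel

theorem cl6_3_5 : chkOn A 19 5 1 ((((cl6_l).drop 12).drop 6).drop 5) = true := by decide +kernel

theorem cl6_3_6 : chkOn A 19 6 1 ((((cl6_l).drop 12).drop 6).drop 5) = true := by decide +kernel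

theorem cl6_3_7 : chkOn A 19 7 1 ((((cl6_l).drop 12).drop 6).drop 5) = true := by decide +kernel


end Cfsg.Agent.Spor.Fi24
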