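import Cfsg.Agent.Lib.Spor.Fi24.Defs

set_option autoImplicit false
set_option maxRecDepth 100000
set_option Elab.async false
set_option exponentiation.threshold 100000

namespace Cfsg.Agent.Spor.Fi24
open Cfsg.Agent.PG

theorem cl2_1_11 : chkOn A 19 11 1 (((cl2_l).drop 2).take 3) = true := by decide +kernel

theorem cl2_1_12 : chkOn A 19 12 1 (((cl2_l).drop 2).take 3) = true := by decide +kernel

theorem cl2_1_13 : chkOn A 19 13 1 (((cl2_l).drop 2).take 3) = true := by decide +kernel

theorem cl2_1_14 : chkOn A 19 14 1 (((cl2_l).drop 2).take 3) = true := by decide +kernel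

theorem cl2_1_15 : chkOn A 19 15 1 (((cl2_l).drop 2).take 3) = true := by decide +kernel

theorem cl2_1_16 : chkOn A 19 16 1 (((cl2_l).drop 2).take 3) = true := by decide +kernel

theorem cl2_1_17 : chkOn A 19 17 1 (((cl2_l).drop 2).take 3) = true := by decide +kernel

theorem cl2_1_18 : chkOn A 19 18 1 (((cl2_l).drop 2).take 3) = true := by decide +kernel

theorem cl2_2_0 : chkOn A 19 0 1 ((((cl2_l).drop 2).drop 3).take 11) = true := by decide +kernel

theorem cl2_2_1 : chkOn A 19 1 1 ((((cl2_l).drop 2).drop 3).take 11) = true := by decide +kernel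

theorem cl2_2_2 : chkOn A 19 2 1 ((((cl2_l).drop 2).drop 3).take 11) = true := by decide +kernel

theorem cl2_2_3 : chkOn A 19 3 1 ((((cl2_l).drop 2).drop 3).take 11) = true := by decide +kernel

theorem cl2_2_4 : chkOn A 19 4 1 ((((cl2_l).drop 2).drop 3).take 11) = true := by decide +kernel

theorem cl2_2_5 : chkOn A 19 5 1 ((((cl2_l).drop 2).drop 3).take 11) = true := by decide +kernel

theorem cl2_2_6 : chkOn A 19 6 1 ((((cl2_l).drop 2).drop 3).take 11) = true := by decide +kernel

theorem cl2_2_7 : chkOn A 19 7 1 ((((cl2_l).drop 2).drop 3).take 11) = true := by decide +kernel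

theorem cl2_2_8 : chkOn A 19 8 1 ((((cl2_l).drop 2).drop 3).take 11) = true := by decide +kernel

theorem cl2_2_9 : chkOn A 19 9 1 ((((cl2_l).drop 2).drop 3).take 11) = true := by decide +kernel

theorem cl2_2_10 : chkOn A 19 10 1 ((((cl2_l).drop 2).drop 3).take 11) = true := by decide +kernel

theorem cl2_2_11 : chkOn A 19 11 1 ((((cl2_l).drop 2).drop 3).take 11) = true := by decide +kernel

theorem cl2_2_12 : chkOn A 19 12 1 ((((cl2_l).drop 2).drop 3).take 11) = true := by decide +kernel

theorem cl2_2_13 : chkOn A 19 13 1 ((((cl2_l).drop 2).drop 3).take 11) = true := by decide +kernel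

theorem cl2_2_14 : chkOn A 19 14 1 ((((cl2_l).drop 2).drop 3).take 11) = true := by decide +kernel

theorem cl2_2_15 : chkOn A 19 15 1 ((((cl2_l).drop 2).drop 3).take 11) = true := by decide +kernel

theorem cl2_2_16 : chkOn A 19 16 1 ((((cl2_l).drop 2).drop 3).take 11) = true := by decide +kernel

theorem cl2_2_17 : chkOn A 19 17 1 ((((cl2_l).drop 2).drop 3).take 11) = true := by decide +kernel

theorem cl2_2_18 : chkOn A 19 18 1 ((((cl2_l).drop 2).drop 3).take 11) = true := by decide +kernel

theorem cl2_3_0 : chkOn A 19 0 1 (((((cl2_l).drop 2).drop 3).drop 11).take 2) = true := by decide +kernel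

theorem cl2_3_1 : chkOn A 19 1 1 (((((cl2_l).drop 2).drop 3).drop 11).take 2) = true := by decide +kernel

theorem cl2_3_2 : chkOn A 19 2 1 (((((cl2_l).drop 2).drop 3).drop 11).take 2) = true := by decide +kernel

theorem cl2_3_3 : chkOn A 19 3 1 (((((cl2_l).drop 2).drop 3).drop 11).take 2) = true := by decide +kernel

theorem cl2_3_4 : chkOn A 19 4 1 (((((cl2_l).drop 2).drop 3).drop 11).take 2) = true := by decide +kernel

theorem cl2_3_5 : chkOn A 19 5 1 (((((cl2_l).drop 2).drop 3).drop 11).take 2) = true := by decide +kernel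

theorem cl2_3_6 : chkOn A 19 6 1 (((((cl2_l).drop 2).drop 3).drop 11).take 2) = true := by decide +kernel

theorem cl2_3_7 : chkOn A 19 7 1 (((((cl2_l).drop 2).drop 3).drop 11).take 2) = true := by decide +kernel

theorem cl2_3_8 : chkOn A 19 8 1 (((((cl2_l).drop 2).drop 3).drop 11).take 2) = true := by decide +kernel

theorem cl2_3_9 : chkOn A 19 9 1 (((((cl2_l).drop 2).drop 3).drop 11).take 2) = true := by decide +kernel

theorem cl2_3_10 : chkOn A 19 10 1 (((((cl2_l).drop 2).drop 3).drop 11).take 2) = true := by decide +kernel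

theorem cl2_3_11 : chkOn A 19 11 1 (((((cl2_l).drop 2).drop 3).drop 11).take 2) = true := by decide +kernel

theorem cl2_3_12 : chkOn A 19 12 1 (((((cl2_l).drop 2).drop 3).drop 11).take 2) = true := by decide +kernel

theorem cl2_3_13 : chkOn A 19 13 1 (((((cl2_l).drop 2).drop 3).drop 11).take 2) = true := by decide +kernel

theorem cl2_3_14 : chkOn A 19 14 1 (((((cl2_l).drop 2).drop 3).drop 11).take 2) = true := by decide +kernel

theorem cl2_3_15 : chkOn A 19 15 1 (((((cl2_l).drop 2).drop 3).drop 11).take 2) = true := by decide +kernel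

theorem cl2_3_16 : chkOn A 19 16 1 (((((cl2_l).drop 2).drop 3).drop 11).take 2) = true := by decide +kernel

theorem cl2_3_17 : chkOn A 19 17 1 (((((cl2_l).drop 2).drop 3).drop 11).take 2) = true := by decide +kernel

theorem cl2_3_18 : chkOn A 19 18 1 (((((cl2_l).drop 2).drop 3).drop 11).take 2) = true := by decide +kernel

theorem cl2_4_0 : chkOn A 19 0 1 ((((((cl2_l).drop 2).drop 3).drop 11).drop 2).take 2) = true := by decide +kernel

theorem cl2_4_1 : chkOn A 19 1 1 ((((((cl2_l).drop 2).drop 3).drop 11).drop 2).take 2) = true := by decide +kernel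

theorem cl2_4_2 : chkOn A 19 2 1 ((((((cl2_l).drop 2).drop 3).drop 11).drop 2).take 2) = true := by decide +kernel

theorem cl2_4_3 : chkOn A 19 3 1 ((((((cl2_l).drop 2).drop 3).drop 11).drop 2).take 2) = true := by decide +kernel

theorem cl2_4_4 : chkOn A 19 4 1 ((((((cl2_l).drop 2).drop 3).drop 11).drop 2).take 2) = true := by decide +kernel

theorem cl2_4_5 : chkOn A 19 5 1 ((((((cl2_l).drop 2).drop 3).drop 11).drop 2).take 2) = true := by decide +kernel

theorem cl2_4_6 : chkOn A 19 6 1 ((((((cl2_l).drop 2).drop 3).drop 11).drop 2).take 2) = true := by decide +kernel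

theorem cl2_4_7 : chkOn A 19 7 1 ((((((cl2_l).drop 2).drop 3).drop 11).drop 2).take 2) = true := by decide +kernel

theorem cl2_4_8 : chkOn A 19 8 1 ((((((cl2_l).drop 2).drop 3).drop 11).drop 2).take 2) = true := by decide +kernel

theorem cl2_4_9 : chkOn A 19 9 1 ((((((cl2_l).drop 2).drop 3).drop 11).drop 2).take 2) = true := by decide +kernel

theorem cl2_4_10 : chkOn A 19 10 1 ((((((cl2_l).drop 2).drop 3).drop 11).drop 2).take 2) = true := by decide +kernel

theorem cl2_4_11 : chkOn A 19 11 1 ((((((cl2_l).drop 2).drop 3).drop 11).drop 2).take 2) = true := by decide +kernel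

theorem cl2_4_12 : chkOn A 19 12 1 ((((((cl2_l).drop 2).drop 3).drop 11).drop 2).take 2) = true := by decide +kernel

theorem cl2_4_13 : chkOn A 19 13 1 ((((((cl2_l).drop 2).drop 3).drop 11).drop 2).take 2) = true := by decide +kernel

theorem cl2_4_14 : chkOn A 19 14 1 ((((((cl2_l).drop 2).drop 3).drop 11).drop 2).take 2) = true := by decide +kernel

theorem cl2_4_15 : chkOn A 19 15 1 ((((((cl2_l).drop 2).drop 3).drop 11).drop 2).take 2) = true := by decide +kernel

theorem cl2_4_16 : chkOn A 19 16 1 ((((((cl2_l).drop 2).drop 3).drop 11).drop 2).take 2) = true := by decide +kernel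

theorem cl2_4_17 : chkOn A 19 17 1 ((((((cl2_l).drop 2).drop 3).drop 11).drop 2).take 2) = true := by decide +kernel

theorem cl2_4_18 : chkOn A 19 18 1 ((((((cl2_l).drop 2).drop 3).drop 11).drop 2).take 2) = true := by decide +kernel

theorem cl2_5_0 : chkOn A 19 0 1 (((((((cl2_l).drop 2).drop 3).drop 11).drop 2).drop 2).take 2) = true := by decide +kernel

theorem cl2_5_1 : chkOn A 19 1 1 (((((((cl2_l).drop 2).drop 3).drop 11).drop 2).drop 2).take 2) = true := by decide +kernel

theorem cl2_5_2 : chkOn A 19 2 1 (((((((cl2_l).drop 2).drop 3).drop 11).drop 2).drop 2).take 2) = true := by decide +kernel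

theorem cl2_5_3 : chkOn A 19 3 1 (((((((cl2_l).drop 2).drop 3).drop 11).drop 2).drop 2).take 2) = true := by decide +kernel

theorem cl2_5_4 : chkOn A 19 4 1 (((((((cl2_l).drop 2).drop 3).drop 11).drop 2).drop 2).take 2) = true := by decide +kernel

theorem cl2_5_5 : chkOn A 19 5 1 (((((((cl2_l).drop 2).drop 3).drop 11).drop 2).drop 2).take 2) = true := by decide +kernel


end Cfsg.Agent.Spor.Fi24
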