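import Cfsg.Agent.Lib.Spor.Fi24.Defs

set_option autoImplicit false
set_option maxRecDepth 100000
set_option Elab.async false
set_option exponentiation.threshold 100000

namespace Cfsg.Agent.Spor.Fi24
open Cfsg.Agent.PG

theorem cl2_5_6 : chkOn A 19 6 1 (((((((cl2_l).drop 2).drop 3).drop 11).drop 2).drop 2).take 2) = true := by decide +kernel

theorem cl2_5_7 : chkOn A 19 7 1 (((((((cl2_l).drop 2).drop 3).drop 11).drop 2).drop 2).take 2) = true := by decide +kernel

theorem cl2_5_8 : chkOn A 19 8 1 (((((((cl2_l).drop 2).drop 3).drop 11).drop 2).drop 2).take 2) = true := by decide +kernel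

theorem cl2_5_9 : chkOn A 19 9 1 (((((((cl2_l).drop 2).drop 3).drop 11).drop 2).drop 2).take 2) = true := by decide +kernel

theorem cl2_5_10 : chkOn A 19 10 1 (((((((cl2_l).drop 2).drop 3).drop 11).drop 2).drop 2).take 2) = true := by decide +kernel

theorem cl2_5_11 : chkOn A 19 11 1 (((((((cl2_l).drop 2).drop 3).drop 11).drop 2).drop 2).take 2) = true := by decide +kernel

theorem cl2_5_12 : chkOn A 19 12 1 (((((((cl2_l).drop 2).drop 3).drop 11).drop 2).drop 2).take 2) = true := by decide +kernel

theorem cl2_5_13 : chkOn A 19 13 1 (((((((cl2_l).drop 2).drop 3).drop 11).drop 2).drop 2).take 2) = true := by decide +kernel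

theorem cl2_5_14 : chkOn A 19 14 1 (((((((cl2_l).drop 2).drop 3).drop 11).drop 2).drop 2).take 2) = true := by decide +kernel

theorem cl2_5_15 : chkOn A 19 15 1 (((((((cl2_l).drop 2).drop 3).drop 11).drop 2).drop 2).take 2) = true := by decide +kernel

theorem cl2_5_16 : chkOn A 19 16 1 (((((((cl2_l).drop 2).drop 3).drop 11).drop 2).drop 2).take 2) = true := by decide +kernel

theorem cl2_5_17 : chkOn A 19 17 1 (((((((cl2_l).drop 2).drop 3).drop 11).drop 2).drop 2).take 2) = true := by decide +kernel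

theorem cl2_5_18 : chkOn A 19 18 1 (((((((cl2_l).drop 2).drop 3).drop 11).drop 2).drop 2).take 2) = true := by decide +kernel

theorem cl2_6_0 : chkOn A 19 0 1 ((((((((cl2_l).drop 2).drop 3).drop 11).drop 2).drop 2).drop 2).take 1) = true := by decide +kernel

theorem cl2_6_1 : chkOn A 19 1 1 ((((((((cl2_l).drop 2).drop 3).drop 11).drop 2).drop 2).drop 2).take 1) = true := by decide +kernel

theorem cl2_6_2 : chkOn A 19 2 1 ((((((((cl2_l).drop 2).drop 3).drop 11).drop 2).drop 2).drop 2).take 1) = true := by decide +kernel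

theorem cl2_6_3 : chkOn A 19 3 1 ((((((((cl2_l).drop 2).drop 3).drop 11).drop 2).drop 2).drop 2).take 1) = true := by decide +kernel

theorem cl2_6_4 : chkOn A 19 4 1 ((((((((cl2_l).drop 2).drop 3).drop 11).drop 2).drop 2).drop 2).take 1) = true := by decide +kernel

theorem cl2_6_5 : chkOn A 19 5 1 ((((((((cl2_l).drop 2).drop 3).drop 11).drop 2).drop 2).drop 2).take 1) = true := by decide +kernel

theorem cl2_6_6 : chkOn A 19 6 1 ((((((((cl2_l).drop 2).drop 3).drop 11).drop 2).drop 2).drop 2).take 1) = true := by decide +kernel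

theorem cl2_6_7 : chkOn A 19 7 1 ((((((((cl2_l).drop 2).drop 3).drop 11).drop 2).drop 2).drop 2).take 1) = true := by decide +kernel

theorem cl2_6_8 : chkOn A 19 8 1 ((((((((cl2_l).drop 2).drop 3).drop 11).drop 2).drop 2).drop 2).take 1) = true := by decide +kernel

theorem cl2_6_9 : chkOn A 19 9 1 ((((((((cl2_l).drop 2).drop 3).drop 11).drop 2).drop 2).drop 2).take 1) = true := by decide +kernel

theorem cl2_6_10 : chkOn A 19 10 1 ((((((((cl2_l).drop 2).drop 3).drop 11).drop 2).drop 2).drop 2).take 1) = true := by decide +kernel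

theorem cl2_6_11 : chkOn A 19 11 1 ((((((((cl2_l).drop 2).drop 3).drop 11).drop 2).drop 2).drop 2).take 1) = true := by decide +kernel

theorem cl2_6_12 : chkOn A 19 12 1 ((((((((cl2_l).drop 2).drop 3).drop 11).drop 2).drop 2).drop 2).take 1) = true := by decide +kernel

theorem cl2_6_13 : chkOn A 19 13 1 ((((((((cl2_l).drop 2).drop 3).drop 11).drop 2).drop 2).drop 2).take 1) = true := by decide +kernel

theorem cl2_6_14 : chkOn A 19 14 1 ((((((((cl2_l).drop 2).drop 3).drop 11).drop 2).drop 2).drop 2).take 1) = true := by decide +kernel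

theorem cl2_6_15 : chkOn A 19 15 1 ((((((((cl2_l).drop 2).drop 3).drop 11).drop 2).drop 2).drop 2).take 1) = true := by decide +kernel

theorem cl2_6_16 : chkOn A 19 16 1 ((((((((cl2_l).drop 2).drop 3).drop 11).drop 2).drop 2).drop 2).take 1) = true := by decide +kernel

theorem cl2_6_17 : chkOn A 19 17 1 ((((((((cl2_l).drop 2).drop 3).drop 11).drop 2).drop 2).drop 2).take 1) = true := by decide +kernel

theorem cl2_6_18 : chkOn A 19 18 1 ((((((((cl2_l).drop 2).drop 3).drop 11).drop 2).drop 2).drop 2).take 1) = true := by decide +kernel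

theorem cl2_7_0 : chkOn A 19 0 1 (((((((((cl2_l).drop 2).drop 3).drop 11).drop 2).drop 2).drop 2).drop 1).take 1) = true := by decide +kernel

theorem cl2_7_1 : chkOn A 19 1 1 (((((((((cl2_l).drop 2).drop 3).drop 11).drop 2).drop 2).drop 2).drop 1).take 1) = true := by decide +kernel

theorem cl2_7_2 : chkOn A 19 2 1 (((((((((cl2_l).drop 2).drop 3).drop 11).drop 2).drop 2).drop 2).drop 1).take 1) = true := by decide +kernel

theorem cl2_7_3 : chkOn A 19 3 1 (((((((((cl2_l).drop 2).drop 3).drop 11).drop 2).drop 2).drop 2).drop 1).take 1) = true := by decide +kernel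

theorem cl2_7_4 : chkOn A 19 4 1 (((((((((cl2_l).drop 2).drop 3).drop 11).drop 2).drop 2).drop 2).drop 1).take 1) = true := by decide +kernel

theorem cl2_7_5 : chkOn A 19 5 1 (((((((((cl2_l).drop 2).drop 3).drop 11).drop 2).drop 2).drop 2).drop 1).take 1) = true := by decide +kernel

theorem cl2_7_6 : chkOn A 19 6 1 (((((((((cl2_l).drop 2).drop 3).drop 11).drop 2).drop 2).drop 2).drop 1).take 1) = true := by decide +kernel

theorem cl2_7_7 : chkOn A 19 7 1 (((((((((cl2_l).drop 2).drop 3).drop 11).drop 2).drop 2).drop 2).drop 1).take 1) = true := by decide +kernel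

theorem cl2_7_8 : chkOn A 19 8 1 (((((((((cl2_l).drop 2).drop 3).drop 11).drop 2).drop 2).drop 2).drop 1).take 1) = true := by decide +kernel

theorem cl2_7_9 : chkOn A 19 9 1 (((((((((cl2_l).drop 2).drop 3).drop 11).drop 2).drop 2).drop 2).drop 1).take 1) = true := by decide +kernel

theorem cl2_7_10 : chkOn A 19 10 1 (((((((((cl2_l).drop 2).drop 3).drop 11).drop 2).drop 2).drop 2).drop 1).take 1) = true := by decide +kernel

theorem cl2_7_11 : chkOn A 19 11 1 (((((((((cl2_l).drop 2).drop 3).drop 11).drop 2).drop 2).drop 2).drop 1).take 1) = true := by decide +kernel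

theorem cl2_7_12 : chkOn A 19 12 1 (((((((((cl2_l).drop 2).drop 3).drop 11).drop 2).drop 2).drop 2).drop 1).take 1) = true := by decide +kernel

theorem cl2_7_13 : chkOn A 19 13 1 (((((((((cl2_l).drop 2).drop 3).drop 11).drop 2).drop 2).drop 2).drop 1).take 1) = true := by decide +kernel

theorem cl2_7_14 : chkOn A 19 14 1 (((((((((cl2_l).drop 2).drop 3).drop 11).drop 2).drop 2).drop 2).drop 1).take 1) = true := by decide +kernel

theorem cl2_7_15 : chkOn A 19 15 1 (((((((((cl2_l).drop 2).drop 3).drop 11).drop 2).drop 2).drop 2).drop 1).take 1) = true := by decide +kernel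

theorem cl2_7_16 : chkOn A 19 16 1 (((((((((cl2_l).drop 2).drop 3).drop 11).drop 2).drop 2).drop 2).drop 1).take 1) = true := by decide +kernel

theorem cl2_7_17 : chkOn A 19 17 1 (((((((((cl2_l).drop 2).drop 3).drop 11).drop 2).drop 2).drop 2).drop 1).take 1) = true := by decide +kernel

theorem cl2_7_18 : chkOn A 19 18 1 (((((((((cl2_l).drop 2).drop 3).drop 11).drop 2).drop 2).drop 2).drop 1).take 1) = true := by decide +kernel

theorem cl2_8_0 : chkOn A 19 0 1 ((((((((((cl2_l).drop 2).drop 3).drop 11).drop 2).drop 2).drop 2).drop 1).drop 1).take 2) = true := by decide +kernel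

theorem cl2_8_1 : chkOn A 19 1 1 ((((((((((cl2_l).drop 2).drop 3).drop 11).drop 2).drop 2).drop 2).drop 1).drop 1).take 2) = true := by decide +kernel

theorem cl2_8_2 : chkOn A 19 2 1 ((((((((((cl2_l).drop 2).drop 3).drop 11).drop 2).drop 2).drop 2).drop 1).drop 1).take 2) = true := by decide +kernel

theorem cl2_8_3 : chkOn A 19 3 1 ((((((((((cl2_l).drop 2).drop 3).drop 11).drop 2).drop 2).drop 2).drop 1).drop 1).take 2) = true := by decide +kernel

theorem cl2_8_4 : chkOn A 19 4 1 ((((((((((cl2_l).drop 2).drop 3).drop 11).drop 2).drop 2).drop 2).drop 1).drop 1).take 2) = true := by decide +kernel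

theorem cl2_8_5 : chkOn A 19 5 1 ((((((((((cl2_l).drop 2).drop 3).drop 11).drop 2).drop 2).drop 2).drop 1).drop 1).take 2) = true := by decide +kernel

theorem cl2_8_6 : chkOn A 19 6 1 ((((((((((cl2_l).drop 2).drop 3).drop 11).drop 2).drop 2).drop 2).drop 1).drop 1).take 2) = true := by decide +kernel

theorem cl2_8_7 : chkOn A 19 7 1 ((((((((((cl2_l).drop 2).drop 3).drop 11).drop 2).drop 2).drop 2).drop 1).drop 1).take 2) = true := by decide +kernel

theorem cl2_8_8 : chkOn A 19 8 1 ((((((((((cl2_l).drop 2).drop 3).drop 11).drop 2).drop 2).drop 2).drop 1).drop 1).take 2) = true := by decide +kernel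

theorem cl2_8_9 : chkOn A 19 9 1 ((((((((((cl2_l).drop 2).drop 3).drop 11).drop 2).drop 2).drop 2).drop 1).drop 1).take 2) = true := by decide +kernel

theorem cl2_8_10 : chkOn A 19 10 1 ((((((((((cl2_l).drop 2).drop 3).drop 11).drop 2).drop 2).drop 2).drop 1).drop 1).take 2) = true := by decide +kernel

theorem cl2_8_11 : chkOn A 19 11 1 ((((((((((cl2_l).drop 2).drop 3).drop 11).drop 2).drop 2).drop 2).drop 1).drop 1).take 2) = true := by decide +kernel

theorem cl2_8_12 : chkOn A 19 12 1 ((((((((((cl2_l).drop 2).drop 3).drop 11).drop 2).drop 2).drop 2).drop 1).drop 1).take 2) = true := by decide +kernel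

theorem cl2_8_13 : chkOn A 19 13 1 ((((((((((cl2_l).drop 2).drop 3).drop 11).drop 2).drop 2).drop 2).drop 1).drop 1).take 2) = true := by decide +kernel

theorem cl2_8_14 : chkOn A 19 14 1 ((((((((((cl2_l).drop 2).drop 3).drop 11).drop 2).drop 2).drop 2).drop 1).drop 1).take 2) = true := by decide +kernel

theorem cl2_8_15 : chkOn A 19 15 1 ((((((((((cl2_l).drop 2).drop 3).drop 11).drop 2).drop 2).drop 2).drop 1).drop 1).take 2) = true := by decide +kernel

theorem cl2_8_16 : chkOn A 19 16 1 ((((((((((cl2_l).drop 2).drop 3).drop 11).drop 2).drop 2).drop 2).drop 1).drop 1).take 2) = true := by decide +kernel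

theorem cl2_8_17 : chkOn A 19 17 1 ((((((((((cl2_l).drop 2).drop 3).drop 11).drop 2).drop 2).drop 2).drop 1).drop 1).take 2) = true := by decide +kernel

theorem cl2_8_18 : chkOn A 19 18 1 ((((((((((cl2_l).drop 2).drop 3).drop 11).drop 2).drop 2).drop 2).drop 1).drop 1).take 2) = true := by decide +kernel

theorem cl2_9_0 : chkOn A 19 0 1 ((((((((((cl2_l).drop 2).drop 3).drop 11).drop 2).drop 2).drop 2).drop 1).drop 1).drop 2) = true := by decide +kernel

theorem cl2_9_1 : chkOn A 19 1 1 ((((((((((cl2_l).drop 2).drop 3).drop 11).drop 2).drop 2).drop 2).drop 1).drop 1).drop 2) = true := by decide +kernel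

theorem cl2_9_2 : chkOn A 19 2 1 ((((((((((cl2_l).drop 2).drop 3).drop 11).drop 2).drop 2).drop 2).drop 1).drop 1).drop 2) = true := by decide +kernel

theorem cl2_9_3 : chkOn A 19 3 1 ((((((((((cl2_l).drop 2).drop 3).drop 11).drop 2).drop 2).drop 2).drop 1).drop 1).drop 2) = true := by decide +kernel

theorem cl2_9_4 : chkOn A 19 4 1 ((((((((((cl2_l).drop 2).drop 3).drop 11).drop 2).drop 2).drop 2).drop 1).drop 1).drop 2) = true := by decide +kernel

theorem cl2_9_5 : chkOn A 19 5 1 ((((((((((cl2_l).drop 2).drop 3).drop 11).drop 2).drop 2).drop 2).drop 1).drop 1).drop 2) = true := by decide +kernel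

theorem cl2_9_6 : chkOn A 19 6 1 ((((((((((cl2_l).drop 2).drop 3).drop 11).drop 2).drop 2).drop 2).drop 1).drop 1).drop 2) = true := by decide +kernel

theorem cl2_9_7 : chkOn A 19 7 1 ((((((((((cl2_l).drop 2).drop 3).drop 11).drop 2).drop 2).drop 2).drop 1).drop 1).drop 2) = true := by decide +kernel

theorem cl2_9_8 : chkOn A 19 8 1 ((((((((((cl2_l).drop 2).drop 3).drop 11).drop 2).drop 2).drop 2).drop 1).drop 1).drop 2) = true := by decide +kernel

theorem cl2_9_9 : chkOn A 19 9 1 ((((((((((cl2_l).drop 2).drop 3).drop 11).drop 2).drop 2).drop 2).drop 1).drop 1).drop 2) = true := by decide +kernel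

theorem cl2_9_10 : chkOn A 19 10 1 ((((((((((cl2_l).drop 2).drop 3).drop 11).drop 2).drop 2).drop 2).drop 1).drop 1).drop 2) = true := by decide +kernel

theorem cl2_9_11 : chkOn A 19 11 1 ((((((((((cl2_l).drop 2).drop 3).drop 11).drop 2).drop 2).drop 2).drop 1).drop 1).drop 2) = true := by decide +kernel

theorem cl2_9_12 : chkOn A 19 12 1 ((((((((((cl2_l).drop 2).drop 3).drop 11).drop 2).drop 2).drop 2).drop 1).drop 1).drop 2) = true := by decide +kernel

theorem cl2_9_13 : chkOn A 19 13 1 ((((((((((cl2_l).drop 2).drop 3).drop 11).drop 2).drop 2).drop 2).drop 1).drop 1).drop 2) = true := by decide +kernel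

theorem cl2_9_14 : chkOn A 19 14 1 ((((((((((cl2_l).drop 2).drop 3).drop 11).drop 2).drop 2).drop 2).drop 1).drop 1).drop 2) = true := by decide +kernel

theorem cl2_9_15 : chkOn A 19 15 1 ((((((((((cl2_l).drop 2).drop 3).drop 11).drop 2).drop 2).drop 2).drop 1).drop 1).drop 2) = true := by decide +kernel

theorem cl2_9_16 : chkOn A 19 16 1 ((((((((((cl2_l).drop 2).drop 3).drop 11).drop 2).drop 2).drop 2).drop 1).drop 1).drop 2) = true := by decide +kernel


end Cfsg.Agent.Spor.Fi24
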