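import Cfsg.Agent.Lib.Spor.Fi24.Defs

set_option autoImplicit false
set_option maxRecDepth 100000
set_option Elab.async false
set_option exponentiation.threshold 100000

namespace Cfsg.Agent.Spor.Fi24
open Cfsg.Agent.PG

theorem cl2_9_17 : chkOn A 19 17 1 ((((((((((cl2_l).drop 2).drop 3).drop 11).drop 2).drop 2).drop 2).drop 1).drop 1).drop 2) = true := by decide +kernel

theorem cl2_9_18 : chkOn A 19 18 1 ((((((((((cl2_l).drop 2).drop 3).drop 11).drop 2).drop 2).drop 2).drop 1).drop 1).drop 2) = true := by decide +kernel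

theorem ok2 : dcShape A 4 6 584 2853 (korb A 5 2853 5) cj2 reps2 = true := by decide +kernel

theorem ok2_0 : allL ((reps2).take 1) (repOK A (4 + 1) 2853 (korb A 5 2853 5)) = true := by decide +kernel

theorem ok2_1 : allL (((reps2).drop 1).take 1) (repOK A (4 + 1) 2853 (korb A 5 2853 5)) = true := by decide +kernel

theorem ok2_2 : allL (((reps2).drop 1).drop 1) (repOK A (4 + 1) 2853 (korb A 5 2853 5)) = true := by decide +kernel

theorem orb2 : orbCardB A 16 4 584 5 3510 = true := by decide +kernel

theorem cl1_0_0 : chkOn A 19 0 1 ((cl1_l).take 2) = true := by decide +kernel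

theorem cl1_0_1 : chkOn A 19 1 1 ((cl1_l).take 2) = true := by decide +kernel

theorem cl1_0_2 : chkOn A 19 2 1 ((cl1_l).take 2) = true := by decide +kernel

theorem cl1_0_3 : chkOn A 19 3 1 ((cl1_l).take 2) = true := by decide +kernel

theorem cl1_0_4 : chkOn A 19 4 1 ((cl1_l).take 2) = true := by decide +kernel

theorem cl1_0_5 : chkOn A 19 5 1 ((cl1_l).take 2) = true := by decide +kernel

theorem cl1_0_6 : chkOn A 19 6 1 ((cl1_l).take 2) = true := by decide +kernel

theorem cl1_0_7 : chkOn A 19 7 1 ((cl1_l).take 2) = true := by decide +kernel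

theorem cl1_0_8 : chkOn A 19 8 1 ((cl1_l).take 2) = true := by decide +kernel

theorem cl1_0_9 : chkOn A 19 9 1 ((cl1_l).take 2) = true := by decide +kernel

theorem cl1_0_10 : chkOn A 19 10 1 ((cl1_l).take 2) = true := by decide +kernel

theorem cl1_0_11 : chkOn A 19 11 1 ((cl1_l).take 2) = true := by decide +kernel

theorem cl1_0_12 : chkOn A 19 12 1 ((cl1_l).take 2) = true := by decide +kernel

theorem cl1_0_13 : chkOn A 19 13 1 ((cl1_l).take 2) = true := by decide +kernel

theorem cl1_0_14 : chkOn A 19 14 1 ((cl1_l).take 2) = true := by decide +kernel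

theorem cl1_0_15 : chkOn A 19 15 1 ((cl1_l).take 2) = true := by decide +kernel

theorem cl1_0_16 : chkOn A 19 16 1 ((cl1_l).take 2) = true := by decide +kernel

theorem cl1_0_17 : chkOn A 19 17 1 ((cl1_l).take 2) = true := by decide +kernel

theorem cl1_0_18 : chkOn A 19 18 1 ((cl1_l).take 2) = true := by decide +kernel

theorem cl1_1_0 : chkOn A 19 0 1 (((cl1_l).drop 2).take 2) = true := by decide +kernel

theorem cl1_1_1 : chkOn A 19 1 1 (((cl1_l).drop 2).take 2) = true := by decide +kernel

theorem cl1_1_2 : chkOn A 19 2 1 (((cl1_l).drop 2).take 2) = true := by decide +kernel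

theorem cl1_1_3 : chkOn A 19 3 1 (((cl1_l).drop 2).take 2) = true := by decide +kernel

theorem cl1_1_4 : chkOn A 19 4 1 (((cl1_l).drop 2).take 2) = true := by decide +kernel

theorem cl1_1_5 : chkOn A 19 5 1 (((cl1_l).drop 2).take 2) = true := by decide +kernel

theorem cl1_1_6 : chkOn A 19 6 1 (((cl1_l).drop 2).take 2) = true := by decide +kernel

theorem cl1_1_7 : chkOn A 19 7 1 (((cl1_l).drop 2).take 2) = true := by decide +kernel

theorem cl1_1_8 : chkOn A 19 8 1 (((cl1_l).drop 2).take 2) = true := by decide +kernel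

theorem cl1_1_9 : chkOn A 19 9 1 (((cl1_l).drop 2).take 2) = true := by decide +kernel

theorem cl1_1_10 : chkOn A 19 10 1 (((cl1_l).drop 2).take 2) = true := by decide +kernel

theorem cl1_1_11 : chkOn A 19 11 1 (((cl1_l).drop 2).take 2) = true := by decide +kernel

theorem cl1_1_12 : chkOn A 19 12 1 (((cl1_l).drop 2).take 2) = true := by decide +kernel

theorem cl1_1_13 : chkOn A 19 13 1 (((cl1_l).drop 2).take 2) = true := by decide +kernel

theorem cl1_1_14 : chkOn A 19 14 1 (((cl1_l).drop 2).take 2) = true := by decide +kernel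

theorem cl1_1_15 : chkOn A 19 15 1 (((cl1_l).drop 2).take 2) = true := by decide +kernel

theorem cl1_1_16 : chkOn A 19 16 1 (((cl1_l).drop 2).take 2) = true := by decide +kernel

theorem cl1_1_17 : chkOn A 19 17 1 (((cl1_l).drop 2).take 2) = true := by decide +kernel

theorem cl1_1_18 : chkOn A 19 18 1 (((cl1_l).drop 2).take 2) = true := by decide +kernel

theorem cl1_2_0 : chkOn A 19 0 1 ((((cl1_l).drop 2).drop 2).take 2) = true := by decide +kernel

theorem cl1_2_1 : chkOn A 19 1 1 ((((cl1_l).drop 2).drop 2).take 2) = true := by decide +kernel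

theorem cl1_2_2 : chkOn A 19 2 1 ((((cl1_l).drop 2).drop 2).take 2) = true := by decide +kernel

theorem cl1_2_3 : chkOn A 19 3 1 ((((cl1_l).drop 2).drop 2).take 2) = true := by decide +kernel

theorem cl1_2_4 : chkOn A 19 4 1 ((((cl1_l).drop 2).drop 2).take 2) = true := by decide +kernel

theorem cl1_2_5 : chkOn A 19 5 1 ((((cl1_l).drop 2).drop 2).take 2) = true := by decide +kernel

theorem cl1_2_6 : chkOn A 19 6 1 ((((cl1_l).drop 2).drop 2).take 2) = true := by decide +kernel

theorem cl1_2_7 : chkOn A 19 7 1 ((((cl1_l).drop 2).drop 2).take 2) = true := by decide +kernel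

theorem cl1_2_8 : chkOn A 19 8 1 ((((cl1_l).drop 2).drop 2).take 2) = true := by decide +kernel

theorem cl1_2_9 : chkOn A 19 9 1 ((((cl1_l).drop 2).drop 2).take 2) = true := by decide +kernel

theorem cl1_2_10 : chkOn A 19 10 1 ((((cl1_l).drop 2).drop 2).take 2) = true := by decide +kernel

theorem cl1_2_11 : chkOn A 19 11 1 ((((cl1_l).drop 2).drop 2).take 2) = true := by decide +kernel

theorem cl1_2_12 : chkOn A 19 12 1 ((((cl1_l).drop 2).drop 2).take 2) = true := by decide +kernel

theorem cl1_2_13 : chkOn A 19 13 1 ((((cl1_l).drop 2).drop 2).take 2) = true := by decide +kernel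

theorem cl1_2_14 : chkOn A 19 14 1 ((((cl1_l).drop 2).drop 2).take 2) = true := by decide +kernel

theorem cl1_2_15 : chkOn A 19 15 1 ((((cl1_l).drop 2).drop 2).take 2) = true := by decide +kernel

theorem cl1_2_16 : chkOn A 19 16 1 ((((cl1_l).drop 2).drop 2).take 2) = true := by decide +kernel

theorem cl1_2_17 : chkOn A 19 17 1 ((((cl1_l).drop 2).drop 2).take 2) = true := by decide +kernel

theorem cl1_2_18 : chkOn A 19 18 1 ((((cl1_l).drop 2).drop 2).take 2) = true := by decide +kernel

theorem cl1_3_0 : chkOn A 19 0 1 (((((cl1_l).drop 2).drop 2).drop 2).take 8) = true := by decide +kernel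


end Cfsg.Agent.Spor.Fi24
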