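import Cfsg.Agent.Lib.Spor.Fi24.Defs

set_option autoImplicit false
set_option maxRecDepth 100000
set_option Elab.async false
set_option exponentiation.threshold 100000

namespace Cfsg.Agent.Spor.Fi24
open Cfsg.Agent.PG

theorem cl1_3_1 : chkOn A 19 1 1 (((((cl1_l).drop 2).drop 2).drop 2).take 8) = true := by decide +kernel

theorem cl1_3_2 : chkOn A 19 2 1 (((((cl1_l).drop 2).drop 2).drop 2).take 8) = true := by decide +kernel

theorem cl1_3_3 : chkOn A 19 3 1 (((((cl1_l).drop 2).drop 2).drop 2).take 8) = true := by decide +kernel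

theorem cl1_3_4 : chkOn A 19 4 1 (((((cl1_l).drop 2).drop 2).drop 2).take 8) = true := by decide +kernel

theorem cl1_3_5 : chkOn A 19 5 1 (((((cl1_l).drop 2).drop 2).drop 2).take 8) = true := by decide +kernel

theorem cl1_3_6 : chkOn A 19 6 1 (((((cl1_l).drop 2).drop 2).drop 2).take 8) = true := by decide +kernel

theorem cl1_3_7 : chkOn A 19 7 1 (((((cl1_l).drop 2).drop 2).drop 2).take 8) = true := by decide +kernel

theorem cl1_3_8 : chkOn A 19 8 1 (((((cl1_l).drop 2).drop 2).drop 2).take 8) = true := by decide +kernel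

theorem cl1_3_9 : chkOn A 19 9 1 (((((cl1_l).drop 2).drop 2).drop 2).take 8) = true := by decide +kernel

theorem cl1_3_10 : chkOn A 19 10 1 (((((cl1_l).drop 2).drop 2).drop 2).take 8) = true := by decide +kernel

theorem cl1_3_11 : chkOn A 19 11 1 (((((cl1_l).drop 2).drop 2).drop 2).take 8) = true := by decide +kernel

theorem cl1_3_12 : chkOn A 19 12 1 (((((cl1_l).drop 2).drop 2).drop 2).take 8) = true := by decide +kernel

theorem cl1_3_13 : chkOn A 19 13 1 (((((cl1_l).drop 2).drop 2).drop 2).take 8) = true := by decide +kernel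

theorem cl1_3_14 : chkOn A 19 14 1 (((((cl1_l).drop 2).drop 2).drop 2).take 8) = true := by decide +kernel

theorem cl1_3_15 : chkOn A 19 15 1 (((((cl1_l).drop 2).drop 2).drop 2).take 8) = true := by decide +kernel

theorem cl1_3_16 : chkOn A 19 16 1 (((((cl1_l).drop 2).drop 2).drop 2).take 8) = true := by decide +kernel

theorem cl1_3_17 : chkOn A 19 17 1 (((((cl1_l).drop 2).drop 2).drop 2).take 8) = true := by decide +kernel

theorem cl1_3_18 : chkOn A 19 18 1 (((((cl1_l).drop 2).drop 2).drop 2).take 8) = true := by decide +kernel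

theorem cl1_4_0 : chkOn A 19 0 1 ((((((cl1_l).drop 2).drop 2).drop 2).drop 8).take 6) = true := by decide +kernel

theorem cl1_4_1 : chkOn A 19 1 1 ((((((cl1_l).drop 2).drop 2).drop 2).drop 8).take 6) = true := by decide +kernel

theorem cl1_4_2 : chkOn A 19 2 1 ((((((cl1_l).drop 2).drop 2).drop 2).drop 8).take 6) = true := by decide +kernel

theorem cl1_4_3 : chkOn A 19 3 1 ((((((cl1_l).drop 2).drop 2).drop 2).drop 8).take 6) = true := by decide +kernel

theorem cl1_4_4 : chkOn A 19 4 1 ((((((cl1_l).drop 2).drop 2).drop 2).drop 8).take 6) = true := by decide +kernel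

theorem cl1_4_5 : chkOn A 19 5 1 ((((((cl1_l).drop 2).drop 2).drop 2).drop 8).take 6) = true := by decide +kernel

theorem cl1_4_6 : chkOn A 19 6 1 ((((((cl1_l).drop 2).drop 2).drop 2).drop 8).take 6) = true := by decide +kernel

theorem cl1_4_7 : chkOn A 19 7 1 ((((((cl1_l).drop 2).drop 2).drop 2).drop 8).take 6) = true := by decide +kernel

theorem cl1_4_8 : chkOn A 19 8 1 ((((((cl1_l).drop 2).drop 2).drop 2).drop 8).take 6) = true := by decide +kernel

theorem cl1_4_9 : chkOn A 19 9 1 ((((((cl1_l).drop 2).drop 2).drop 2).drop 8).take 6) = true := by decide +kernel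

theorem cl1_4_10 : chkOn A 19 10 1 ((((((cl1_l).drop 2).drop 2).drop 2).drop 8).take 6) = true := by decide +kernel

theorem cl1_4_11 : chkOn A 19 11 1 ((((((cl1_l).drop 2).drop 2).drop 2).drop 8).take 6) = true := by decide +kernel

theorem cl1_4_12 : chkOn A 19 12 1 ((((((cl1_l).drop 2).drop 2).drop 2).drop 8).take 6) = true := by decide +kernel

theorem cl1_4_13 : chkOn A 19 13 1 ((((((cl1_l).drop 2).drop 2).drop 2).drop 8).take 6) = true := by decide +kernel

theorem cl1_4_14 : chkOn A 19 14 1 ((((((cl1_l).drop 2).drop 2).drop 2).drop 8).take 6) = true := by decide +kernel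

theorem cl1_4_15 : chkOn A 19 15 1 ((((((cl1_l).drop 2).drop 2).drop 2).drop 8).take 6) = true := by decide +kernel

theorem cl1_4_16 : chkOn A 19 16 1 ((((((cl1_l).drop 2).drop 2).drop 2).drop 8).take 6) = true := by decide +kernel

theorem cl1_4_17 : chkOn A 19 17 1 ((((((cl1_l).drop 2).drop 2).drop 2).drop 8).take 6) = true := by decide +kernel

theorem cl1_4_18 : chkOn A 19 18 1 ((((((cl1_l).drop 2).drop 2).drop 2).drop 8).take 6) = true := by decide +kernel

theorem cl1_5_0 : chkOn A 19 0 1 (((((((cl1_l).drop 2).drop 2).drop 2).drop 8).drop 6).take 2) = true := by decide +kernel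

theorem cl1_5_1 : chkOn A 19 1 1 (((((((cl1_l).drop 2).drop 2).drop 2).drop 8).drop 6).take 2) = true := by decide +kernel

theorem cl1_5_2 : chkOn A 19 2 1 (((((((cl1_l).drop 2).drop 2).drop 2).drop 8).drop 6).take 2) = true := by decide +kernel

theorem cl1_5_3 : chkOn A 19 3 1 (((((((cl1_l).drop 2).drop 2).drop 2).drop 8).drop 6).take 2) = true := by decide +kernel

theorem cl1_5_4 : chkOn A 19 4 1 (((((((cl1_l).drop 2).drop 2).drop 2).drop 8).drop 6).take 2) = true := by decide +kernel

theorem cl1_5_5 : chkOn A 19 5 1 (((((((cl1_l).drop 2).drop 2).drop 2).drop 8).drop 6).take 2) = true := by decide +kernel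

theorem cl1_5_6 : chkOn A 19 6 1 (((((((cl1_l).drop 2).drop 2).drop 2).drop 8).drop 6).take 2) = true := by decide +kernel

theorem cl1_5_7 : chkOn A 19 7 1 (((((((cl1_l).drop 2).drop 2).drop 2).drop 8).drop 6).take 2) = true := by decide +kernel

theorem cl1_5_8 : chkOn A 19 8 1 (((((((cl1_l).drop 2).drop 2).drop 2).drop 8).drop 6).take 2) = true := by decide +kernel

theorem cl1_5_9 : chkOn A 19 9 1 (((((((cl1_l).drop 2).drop 2).drop 2).drop 8).drop 6).take 2) = true := by decide +kernel

theorem cl1_5_10 : chkOn A 19 10 1 (((((((cl1_l).drop 2).drop 2).drop 2).drop 8).drop 6).take 2) = true := by decide +kernel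

theorem cl1_5_11 : chkOn A 19 11 1 (((((((cl1_l).drop 2).drop 2).drop 2).drop 8).drop 6).take 2) = true := by decide +kernel

theorem cl1_5_12 : chkOn A 19 12 1 (((((((cl1_l).drop 2).drop 2).drop 2).drop 8).drop 6).take 2) = true := by decide +kernel

theorem cl1_5_13 : chkOn A 19 13 1 (((((((cl1_l).drop 2).drop 2).drop 2).drop 8).drop 6).take 2) = true := by decide +kernel

theorem cl1_5_14 : chkOn A 19 14 1 (((((((cl1_l).drop 2).drop 2).drop 2).drop 8).drop 6).take 2) = true := by decide +kernel

theorem cl1_5_15 : chkOn A 19 15 1 (((((((cl1_l).drop 2).drop 2).drop 2).drop 8).drop 6).take 2) = true := by decide +kernel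

theorem cl1_5_16 : chkOn A 19 16 1 (((((((cl1_l).drop 2).drop 2).drop 2).drop 8).drop 6).take 2) = true := by decide +kernel

theorem cl1_5_17 : chkOn A 19 17 1 (((((((cl1_l).drop 2).drop 2).drop 2).drop 8).drop 6).take 2) = true := by decide +kernel

theorem cl1_5_18 : chkOn A 19 18 1 (((((((cl1_l).drop 2).drop 2).drop 2).drop 8).drop 6).take 2) = true := by decide +kernel

theorem cl1_6_0 : chkOn A 19 0 1 ((((((((cl1_l).drop 2).drop 2).drop 2).drop 8).drop 6).drop 2).take 1) = true := by decide +kernel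

theorem cl1_6_1 : chkOn A 19 1 1 ((((((((cl1_l).drop 2).drop 2).drop 2).drop 8).drop 6).drop 2).take 1) = true := by decide +kernel

theorem cl1_6_2 : chkOn A 19 2 1 ((((((((cl1_l).drop 2).drop 2).drop 2).drop 8).drop 6).drop 2).take 1) = true := by decide +kernel

theorem cl1_6_3 : chkOn A 19 3 1 ((((((((cl1_l).drop 2).drop 2).drop 2).drop 8).drop 6).drop 2).take 1) = true := by decide +kernel

theorem cl1_6_4 : chkOn A 19 4 1 ((((((((cl1_l).drop 2).drop 2).drop 2).drop 8).drop 6).drop 2).take 1) = true := by decide +kernel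

theorem cl1_6_5 : chkOn A 19 5 1 ((((((((cl1_l).drop 2).drop 2).drop 2).drop 8).drop 6).drop 2).take 1) = true := by decide +kernel

theorem cl1_6_6 : chkOn A 19 6 1 ((((((((cl1_l).drop 2).drop 2).drop 2).drop 8).drop 6).drop 2).take 1) = true := by decide +kernel

theorem cl1_6_7 : chkOn A 19 7 1 ((((((((cl1_l).drop 2).drop 2).drop 2).drop 8).drop 6).drop 2).take 1) = true := by decide +kernel

theorem cl1_6_8 : chkOn A 19 8 1 ((((((((cl1_l).drop 2).drop 2).drop 2).drop 8).drop 6).drop 2).take 1) = true := by decide +kernel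

theorem cl1_6_9 : chkOn A 19 9 1 ((((((((cl1_l).drop 2).drop 2).drop 2).drop 8).drop 6).drop 2).take 1) = true := by decide +kernel

theorem cl1_6_10 : chkOn A 19 10 1 ((((((((cl1_l).drop 2).drop 2).drop 2).drop 8).drop 6).drop 2).take 1) = true := by decide +kernel

theorem cl1_6_11 : chkOn A 19 11 1 ((((((((cl1_l).drop 2).drop 2).drop 2).drop 8).drop 6).drop 2).take 1) = true := by decide +kernel

theorem cl1_6_12 : chkOn A 19 12 1 ((((((((cl1_l).drop 2).drop 2).drop 2).drop 8).drop 6).drop 2).take 1) = true := by decide +kernel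

theorem cl1_6_13 : chkOn A 19 13 1 ((((((((cl1_l).drop 2).drop 2).drop 2).drop 8).drop 6).drop 2).take 1) = true := by decide +kernel

theorem cl1_6_14 : chkOn A 19 14 1 ((((((((cl1_l).drop 2).drop 2).drop 2).drop 8).drop 6).drop 2).take 1) = true := by decide +kernel

theorem cl1_6_15 : chkOn A 19 15 1 ((((((((cl1_l).drop 2).drop 2).drop 2).drop 8).drop 6).drop 2).take 1) = true := by decide +kernel

theorem cl1_6_16 : chkOn A 19 16 1 ((((((((cl1_l).drop 2).drop 2).drop 2).drop 8).drop 6).drop 2).take 1) = true := by decide +kernel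

theorem cl1_6_17 : chkOn A 19 17 1 ((((((((cl1_l).drop 2).drop 2).drop 2).drop 8).drop 6).drop 2).take 1) = true := by decide +kernel


end Cfsg.Agent.Spor.Fi24
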