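import Cfsg.Agent.Lib.Spor.Fi24.Defs

set_option autoImplicit false
set_option maxRecDepth 100000
set_option Elab.async false
set_option exponentiation.threshold 100000

namespace Cfsg.Agent.Spor.Fi24
open Cfsg.Agent.PG

theorem cl1_6_18 : chkOn A 19 18 1 ((((((((cl1_l).drop 2).drop 2).drop 2).drop 8).drop 6).drop 2).take 1) = true := by decide +kernel

theorem cl1_7_0 : chkOn A 19 0 1 (((((((((cl1_l).drop 2).drop 2).drop 2).drop 8).drop 6).drop 2).drop 1).take 1) = true := by decide +kernel

theorem cl1_7_1 : chkOn A 19 1 1 (((((((((cl1_l).drop 2).drop 2).drop 2).drop 8).drop 6).drop 2).drop 1).take 1) = true := by decide +kernel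

theorem cl1_7_2 : chkOn A 19 2 1 (((((((((cl1_l).drop 2).drop 2).drop 2).drop 8).drop 6).drop 2).drop 1).take 1) = true := by decide +kernel

theorem cl1_7_3 : chkOn A 19 3 1 (((((((((cl1_l).drop 2).drop 2).drop 2).drop 8).drop 6).drop 2).drop 1).take 1) = true := by decide +kernel

theorem cl1_7_4 : chkOn A 19 4 1 (((((((((cl1_l).drop 2).drop 2).drop 2).drop 8).drop 6).drop 2).drop 1).take 1) = true := by decide +kernel

theorem cl1_7_5 : chkOn A 19 5 1 (((((((((cl1_l).drop 2).drop 2).drop 2).drop 8).drop 6).drop 2).drop 1).take 1) = true := by decide +kernel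

theorem cl1_7_6 : chkOn A 19 6 1 (((((((((cl1_l).drop 2).drop 2).drop 2).drop 8).drop 6).drop 2).drop 1).take 1) = true := by decide +kernel

theorem cl1_7_7 : chkOn A 19 7 1 (((((((((cl1_l).drop 2).drop 2).drop 2).drop 8).drop 6).drop 2).drop 1).take 1) = true := by decide +kernel

theorem cl1_7_8 : chkOn A 19 8 1 (((((((((cl1_l).drop 2).drop 2).drop 2).drop 8).drop 6).drop 2).drop 1).take 1) = true := by decide +kernel

theorem cl1_7_9 : chkOn A 19 9 1 (((((((((cl1_l).drop 2).drop 2).drop 2).drop 8).drop 6).drop 2).drop 1).take 1) = true := by decide +kernel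

theorem cl1_7_10 : chkOn A 19 10 1 (((((((((cl1_l).drop 2).drop 2).drop 2).drop 8).drop 6).drop 2).drop 1).take 1) = true := by decide +kernel

theorem cl1_7_11 : chkOn A 19 11 1 (((((((((cl1_l).drop 2).drop 2).drop 2).drop 8).drop 6).drop 2).drop 1).take 1) = true := by decide +kernel

theorem cl1_7_12 : chkOn A 19 12 1 (((((((((cl1_l).drop 2).drop 2).drop 2).drop 8).drop 6).drop 2).drop 1).take 1) = true := by decide +kernel

theorem cl1_7_13 : chkOn A 19 13 1 (((((((((cl1_l).drop 2).drop 2).drop 2).drop 8).drop 6).drop 2).drop 1).take 1) = true := by decide +kernel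

theorem cl1_7_14 : chkOn A 19 14 1 (((((((((cl1_l).drop 2).drop 2).drop 2).drop 8).drop 6).drop 2).drop 1).take 1) = true := by decide +kernel

theorem cl1_7_15 : chkOn A 19 15 1 (((((((((cl1_l).drop 2).drop 2).drop 2).drop 8).drop 6).drop 2).drop 1).take 1) = true := by decide +kernel

theorem cl1_7_16 : chkOn A 19 16 1 (((((((((cl1_l).drop 2).drop 2).drop 2).drop 8).drop 6).drop 2).drop 1).take 1) = true := by decide +kernel

theorem cl1_7_17 : chkOn A 19 17 1 (((((((((cl1_l).drop 2).drop 2).drop 2).drop 8).drop 6).drop 2).drop 1).take 1) = true := by decide +kernel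

theorem cl1_7_18 : chkOn A 19 18 1 (((((((((cl1_l).drop 2).drop 2).drop 2).drop 8).drop 6).drop 2).drop 1).take 1) = true := by decide +kernel

theorem cl1_8_0 : chkOn A 19 0 1 ((((((((((cl1_l).drop 2).drop 2).drop 2).drop 8).drop 6).drop 2).drop 1).drop 1).take 2) = true := by decide +kernel

theorem cl1_8_1 : chkOn A 19 1 1 ((((((((((cl1_l).drop 2).drop 2).drop 2).drop 8).drop 6).drop 2).drop 1).drop 1).take 2) = true := by decide +kernel

theorem cl1_8_2 : chkOn A 19 2 1 ((((((((((cl1_l).drop 2).drop 2).drop 2).drop 8).drop 6).drop 2).drop 1).drop 1).take 2) = true := by decide +kernel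

theorem cl1_8_3 : chkOn A 19 3 1 ((((((((((cl1_l).drop 2).drop 2).drop 2).drop 8).drop 6).drop 2).drop 1).drop 1).take 2) = true := by decide +kernel

theorem cl1_8_4 : chkOn A 19 4 1 ((((((((((cl1_l).drop 2).drop 2).drop 2).drop 8).drop 6).drop 2).drop 1).drop 1).take 2) = true := by decide +kernel

theorem cl1_8_5 : chkOn A 19 5 1 ((((((((((cl1_l).drop 2).drop 2).drop 2).drop 8).drop 6).drop 2).drop 1).drop 1).take 2) = true := by decide +kernel

theorem cl1_8_6 : chkOn A 19 6 1 ((((((((((cl1_l).drop 2).drop 2).drop 2).drop 8).drop 6).drop 2).drop 1).drop 1).take 2) = true := by decide +kernel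

theorem cl1_8_7 : chkOn A 19 7 1 ((((((((((cl1_l).drop 2).drop 2).drop 2).drop 8).drop 6).drop 2).drop 1).drop 1).take 2) = true := by decide +kernel

theorem cl1_8_8 : chkOn A 19 8 1 ((((((((((cl1_l).drop 2).drop 2).drop 2).drop 8).drop 6).drop 2).drop 1).drop 1).take 2) = true := by decide +kernel

theorem cl1_8_9 : chkOn A 19 9 1 ((((((((((cl1_l).drop 2).drop 2).drop 2).drop 8).drop 6).drop 2).drop 1).drop 1).take 2) = true := by decide +kernel

theorem cl1_8_10 : chkOn A 19 10 1 ((((((((((cl1_l).drop 2).drop 2).drop 2).drop 8).drop 6).drop 2).drop 1).drop 1).take 2) = true := by decide +kernel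

theorem cl1_8_11 : chkOn A 19 11 1 ((((((((((cl1_l).drop 2).drop 2).drop 2).drop 8).drop 6).drop 2).drop 1).drop 1).take 2) = true := by decide +kernel

theorem cl1_8_12 : chkOn A 19 12 1 ((((((((((cl1_l).drop 2).drop 2).drop 2).drop 8).drop 6).drop 2).drop 1).drop 1).take 2) = true := by decide +kernel

theorem cl1_8_13 : chkOn A 19 13 1 ((((((((((cl1_l).drop 2).drop 2).drop 2).drop 8).drop 6).drop 2).drop 1).drop 1).take 2) = true := by decide +kernel

theorem cl1_8_14 : chkOn A 19 14 1 ((((((((((cl1_l).drop 2).drop 2).drop 2).drop 8).drop 6).drop 2).drop 1).drop 1).take 2) = true := by decide +kernel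

theorem cl1_8_15 : chkOn A 19 15 1 ((((((((((cl1_l).drop 2).drop 2).drop 2).drop 8).drop 6).drop 2).drop 1).drop 1).take 2) = true := by decide +kernel

theorem cl1_8_16 : chkOn A 19 16 1 ((((((((((cl1_l).drop 2).drop 2).drop 2).drop 8).drop 6).drop 2).drop 1).drop 1).take 2) = true := by decide +kernel

theorem cl1_8_17 : chkOn A 19 17 1 ((((((((((cl1_l).drop 2).drop 2).drop 2).drop 8).drop 6).drop 2).drop 1).drop 1).take 2) = true := by decide +kernel

theorem cl1_8_18 : chkOn A 19 18 1 ((((((((((cl1_l).drop 2).drop 2).drop 2).drop 8).drop 6).drop 2).drop 1).drop 1).take 2) = true := by decide +kernel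

theorem cl1_9_0 : chkOn A 19 0 1 ((((((((((cl1_l).drop 2).drop 2).drop 2).drop 8).drop 6).drop 2).drop 1).drop 1).drop 2) = true := by decide +kernel

theorem cl1_9_1 : chkOn A 19 1 1 ((((((((((cl1_l).drop 2).drop 2).drop 2).drop 8).drop 6).drop 2).drop 1).drop 1).drop 2) = true := by decide +kernel

theorem cl1_9_2 : chkOn A 19 2 1 ((((((((((cl1_l).drop 2).drop 2).drop 2).drop 8).drop 6).drop 2).drop 1).drop 1).drop 2) = true := by decide +kernel

theorem cl1_9_3 : chkOn A 19 3 1 ((((((((((cl1_l).drop 2).drop 2).drop 2).drop 8).drop 6).drop 2).drop 1).drop 1).drop 2) = true := by decide +kernel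

theorem cl1_9_4 : chkOn A 19 4 1 ((((((((((cl1_l).drop 2).drop 2).drop 2).drop 8).drop 6).drop 2).drop 1).drop 1).drop 2) = true := by decide +kernel

theorem cl1_9_5 : chkOn A 19 5 1 ((((((((((cl1_l).drop 2).drop 2).drop 2).drop 8).drop 6).drop 2).drop 1).drop 1).drop 2) = true := by decide +kernel

theorem cl1_9_6 : chkOn A 19 6 1 ((((((((((cl1_l).drop 2).drop 2).drop 2).drop 8).drop 6).drop 2).drop 1).drop 1).drop 2) = true := by decide +kernel

theorem cl1_9_7 : chkOn A 19 7 1 ((((((((((cl1_l).drop 2).drop 2).drop 2).drop 8).drop 6).drop 2).drop 1).drop 1).drop 2) = true := by decide +kernel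

theorem cl1_9_8 : chkOn A 19 8 1 ((((((((((cl1_l).drop 2).drop 2).drop 2).drop 8).drop 6).drop 2).drop 1).drop 1).drop 2) = true := by decide +kernel

theorem cl1_9_9 : chkOn A 19 9 1 ((((((((((cl1_l).drop 2).drop 2).drop 2).drop 8).drop 6).drop 2).drop 1).drop 1).drop 2) = true := by decide +kernel

theorem cl1_9_10 : chkOn A 19 10 1 ((((((((((cl1_l).drop 2).drop 2).drop 2).drop 8).drop 6).drop 2).drop 1).drop 1).drop 2) = true := by decide +kernel

theorem cl1_9_11 : chkOn A 19 11 1 ((((((((((cl1_l).drop 2).drop 2).drop 2).drop 8).drop 6).drop 2).drop 1).drop 1).drop 2) = true := by decide +kernel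

theorem cl1_9_12 : chkOn A 19 12 1 ((((((((((cl1_l).drop 2).drop 2).drop 2).drop 8).drop 6).drop 2).drop 1).drop 1).drop 2) = true := by decide +kernel

theorem cl1_9_13 : chkOn A 19 13 1 ((((((((((cl1_l).drop 2).drop 2).drop 2).drop 8).drop 6).drop 2).drop 1).drop 1).drop 2) = true := by decide +kernel

theorem cl1_9_14 : chkOn A 19 14 1 ((((((((((cl1_l).drop 2).drop 2).drop 2).drop 8).drop 6).drop 2).drop 1).drop 1).drop 2) = true := by decide +kernel

theorem cl1_9_15 : chkOn A 19 15 1 ((((((((((cl1_l).drop 2).drop 2).drop 2).drop 8).drop 6).drop 2).drop 1).drop 1).drop 2) = true := by decide +kernel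

theorem cl1_9_16 : chkOn A 19 16 1 ((((((((((cl1_l).drop 2).drop 2).drop 2).drop 8).drop 6).drop 2).drop 1).drop 1).drop 2) = true := by decide +kernel

theorem cl1_9_17 : chkOn A 19 17 1 ((((((((((cl1_l).drop 2).drop 2).drop 2).drop 8).drop 6).drop 2).drop 1).drop 1).drop 2) = true := by decide +kernel

theorem cl1_9_18 : chkOn A 19 18 1 ((((((((((cl1_l).drop 2).drop 2).drop 2).drop 8).drop 6).drop 2).drop 1).drop 1).drop 2) = true := by decide +kernel

theorem ok1 : dcShape A 3 5 25121 584 (korb A 4 584 5) cj1 reps1 = true := by decide +kernel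

theorem ok1_0 : allL ((reps1).take 1) (repOK A (3 + 1) 584 (korb A 4 584 5)) = true := by decide +kernel

theorem ok1_1 : allL (((reps1).drop 1).take 1) (repOK A (3 + 1) 584 (korb A 4 584 5)) = true := by decide +kernel

theorem ok1_2 : allL (((reps1).drop 1).drop 1) (repOK A (3 + 1) 584 (korb A 4 584 5)) = true := by decide +kernel

theorem orb1 : orbCardB A 16 3 25121 4 31671 = true := by decide +kernel

theorem cl0_0_0 : chkOn A 19 0 1 ((cl0_l).take 1) = true := by decide +kernel

theorem cl0_0_1 : chkOn A 19 1 1 ((cl0_l).take 1) = true := by decide +kernel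

theorem cl0_0_2 : chkOn A 19 2 1 ((cl0_l).take 1) = true := by decide +kernel

theorem cl0_0_3 : chkOn A 19 3 1 ((cl0_l).take 1) = true := by decide +kernel

theorem cl0_0_4 : chkOn A 19 4 1 ((cl0_l).take 1) = true := by decide +kernel

theorem cl0_0_5 : chkOn A 19 5 1 ((cl0_l).take 1) = true := by decide +kernel

theorem cl0_0_6 : chkOn A 19 6 1 ((cl0_l).take 1) = true := by decide +kernel

theorem cl0_0_7 : chkOn A 19 7 1 ((cl0_l).take 1) = true := by decide +kernel

theorem cl0_0_8 : chkOn A 19 8 1 ((cl0_l).take 1) = true := by decide +kernel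

theorem cl0_0_9 : chkOn A 19 9 1 ((cl0_l).take 1) = true := by decide +kernel

theorem cl0_0_10 : chkOn A 19 10 1 ((cl0_l).take 1) = true := by decide +kernel

theorem cl0_0_11 : chkOn A 19 11 1 ((cl0_l).take 1) = true := by decide +kernel

theorem cl0_0_12 : chkOn A 19 12 1 ((cl0_l).take 1) = true := by decide +kernel


end Cfsg.Agent.Spor.Fi24
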