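import Cfsg.Agent.Lib.Spor.Fi24.Defs

set_option autoImplicit false
set_option maxRecDepth 100000
set_option Elab.async false
set_option exponentiation.threshold 100000

namespace Cfsg.Agent.Spor.Fi24
open Cfsg.Agent.PG

theorem cl0_8_8 : chkOn A 19 8 1 ((((((((((cl0_l).drop 1).drop 2).drop 2).drop 2).drop 5).drop 8).drop 1).drop 2).take 1) = true := by decide +kernel

theorem cl0_8_9 : chkOn A 19 9 1 ((((((((((cl0_l).drop 1).drop 2).drop 2).drop 2).drop 5).drop 8).drop 1).drop 2).take 1) = true := by decide +kernel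

theorem cl0_8_10 : chkOn A 19 10 1 ((((((((((cl0_l).drop 1).drop 2).drop 2).drop 2).drop 5).drop 8).drop 1).drop 2).take 1) = true := by decide +kernel

theorem cl0_8_11 : chkOn A 19 11 1 ((((((((((cl0_l).drop 1).drop 2).drop 2).drop 2).drop 5).drop 8).drop 1).drop 2).take 1) = true := by decide +kernel

theorem cl0_8_12 : chkOn A 19 12 1 ((((((((((cl0_l).drop 1).drop 2).drop 2).drop 2).drop 5).drop 8).drop 1).drop 2).take 1) = true := by decide +kernel

theorem cl0_8_13 : chkOn A 19 13 1 ((((((((((cl0_l).drop 1).drop 2).drop 2).drop 2).drop 5).drop 8).drop 1).drop 2).take 1) = true := by decide +kernel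

theorem cl0_8_14 : chkOn A 19 14 1 ((((((((((cl0_l).drop 1).drop 2).drop 2).drop 2).drop 5).drop 8).drop 1).drop 2).take 1) = true := by decide +kernel

theorem cl0_8_15 : chkOn A 19 15 1 ((((((((((cl0_l).drop 1).drop 2).drop 2).drop 2).drop 5).drop 8).drop 1).drop 2).take 1) = true := by decide +kernel

theorem cl0_8_16 : chkOn A 19 16 1 ((((((((((cl0_l).drop 1).drop 2).drop 2).drop 2).drop 5).drop 8).drop 1).drop 2).take 1) = true := by decide +kernel

theorem cl0_8_17 : chkOn A 19 17 1 ((((((((((cl0_l).drop 1).drop 2).drop 2).drop 2).drop 5).drop 8).drop 1).drop 2).take 1) = true := by decide +kernel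

theorem cl0_8_18 : chkOn A 19 18 1 ((((((((((cl0_l).drop 1).drop 2).drop 2).drop 2).drop 5).drop 8).drop 1).drop 2).take 1) = true := by decide +kernel

theorem cl0_9_0 : chkOn A 19 0 1 (((((((((((cl0_l).drop 1).drop 2).drop 2).drop 2).drop 5).drop 8).drop 1).drop 2).drop 1).take 1) = true := by decide +kernel

theorem cl0_9_1 : chkOn A 19 1 1 (((((((((((cl0_l).drop 1).drop 2).drop 2).drop 2).drop 5).drop 8).drop 1).drop 2).drop 1).take 1) = true := by decide +kernel

theorem cl0_9_2 : chkOn A 19 2 1 (((((((((((cl0_l).drop 1).drop 2).drop 2).drop 2).drop 5).drop 8).drop 1).drop 2).drop 1).take 1) = true := by decide +kernel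

theorem cl0_9_3 : chkOn A 19 3 1 (((((((((((cl0_l).drop 1).drop 2).drop 2).drop 2).drop 5).drop 8).drop 1).drop 2).drop 1).take 1) = true := by decide +kernel

theorem cl0_9_4 : chkOn A 19 4 1 (((((((((((cl0_l).drop 1).drop 2).drop 2).drop 2).drop 5).drop 8).drop 1).drop 2).drop 1).take 1) = true := by decide +kernel

theorem cl0_9_5 : chkOn A 19 5 1 (((((((((((cl0_l).drop 1).drop 2).drop 2).drop 2).drop 5).drop 8).drop 1).drop 2).drop 1).take 1) = true := by decide +kernel

theorem cl0_9_6 : chkOn A 19 6 1 (((((((((((cl0_l).drop 1).drop 2).drop 2).drop 2).drop 5).drop 8).drop 1).drop 2).drop 1).take 1) = true := by decide +kernel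

theorem cl0_9_7 : chkOn A 19 7 1 (((((((((((cl0_l).drop 1).drop 2).drop 2).drop 2).drop 5).drop 8).drop 1).drop 2).drop 1).take 1) = true := by decide +kernel

theorem cl0_9_8 : chkOn A 19 8 1 (((((((((((cl0_l).drop 1).drop 2).drop 2).drop 2).drop 5).drop 8).drop 1).drop 2).drop 1).take 1) = true := by decide +kernel

theorem cl0_9_9 : chkOn A 19 9 1 (((((((((((cl0_l).drop 1).drop 2).drop 2).drop 2).drop 5).drop 8).drop 1).drop 2).drop 1).take 1) = true := by decide +kernel

theorem cl0_9_10 : chkOn A 19 10 1 (((((((((((cl0_l).drop 1).drop 2).drop 2).drop 2).drop 5).drop 8).drop 1).drop 2).drop 1).take 1) = true := by decide +kernel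

theorem cl0_9_11 : chkOn A 19 11 1 (((((((((((cl0_l).drop 1).drop 2).drop 2).drop 2).drop 5).drop 8).drop 1).drop 2).drop 1).take 1) = true := by decide +kernel

theorem cl0_9_12 : chkOn A 19 12 1 (((((((((((cl0_l).drop 1).drop 2).drop 2).drop 2).drop 5).drop 8).drop 1).drop 2).drop 1).take 1) = true := by decide +kernel

theorem cl0_9_13 : chkOn A 19 13 1 (((((((((((cl0_l).drop 1).drop 2).drop 2).drop 2).drop 5).drop 8).drop 1).drop 2).drop 1).take 1) = true := by decide +kernel

theorem cl0_9_14 : chkOn A 19 14 1 (((((((((((cl0_l).drop 1).drop 2).drop 2).drop 2).drop 5).drop 8).drop 1).drop 2).drop 1).take 1) = true := by decide +kernel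

theorem cl0_9_15 : chkOn A 19 15 1 (((((((((((cl0_l).drop 1).drop 2).drop 2).drop 2).drop 5).drop 8).drop 1).drop 2).drop 1).take 1) = true := by decide +kernel

theorem cl0_9_16 : chkOn A 19 16 1 (((((((((((cl0_l).drop 1).drop 2).drop 2).drop 2).drop 5).drop 8).drop 1).drop 2).drop 1).take 1) = true := by decide +kernel

theorem cl0_9_17 : chkOn A 19 17 1 (((((((((((cl0_l).drop 1).drop 2).drop 2).drop 2).drop 5).drop 8).drop 1).drop 2).drop 1).take 1) = true := by decide +kernel

theorem cl0_9_18 : chkOn A 19 18 1 (((((((((((cl0_l).drop 1).drop 2).drop 2).drop 2).drop 5).drop 8).drop 1).drop 2).drop 1).take 1) = true := by decide +kernel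

theorem cl0_10_0 : chkOn A 19 0 1 ((((((((((((cl0_l).drop 1).drop 2).drop 2).drop 2).drop 5).drop 8).drop 1).drop 2).drop 1).drop 1).take 1) = true := by decide +kernel

theorem cl0_10_1 : chkOn A 19 1 1 ((((((((((((cl0_l).drop 1).drop 2).drop 2).drop 2).drop 5).drop 8).drop 1).drop 2).drop 1).drop 1).take 1) = true := by decide +kernel

theorem cl0_10_2 : chkOn A 19 2 1 ((((((((((((cl0_l).drop 1).drop 2).drop 2).drop 2).drop 5).drop 8).drop 1).drop 2).drop 1).drop 1).take 1) = true := by decide +kernel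

theorem cl0_10_3 : chkOn A 19 3 1 ((((((((((((cl0_l).drop 1).drop 2).drop 2).drop 2).drop 5).drop 8).drop 1).drop 2).drop 1).drop 1).take 1) = true := by decide +kernel

theorem cl0_10_4 : chkOn A 19 4 1 ((((((((((((cl0_l).drop 1).drop 2).drop 2).drop 2).drop 5).drop 8).drop 1).drop 2).drop 1).drop 1).take 1) = true := by decide +kernel

theorem cl0_10_5 : chkOn A 19 5 1 ((((((((((((cl0_l).drop 1).drop 2).drop 2).drop 2).drop 5).drop 8).drop 1).drop 2).drop 1).drop 1).take 1) = true := by decide +kernel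

theorem cl0_10_6 : chkOn A 19 6 1 ((((((((((((cl0_l).drop 1).drop 2).drop 2).drop 2).drop 5).drop 8).drop 1).drop 2).drop 1).drop 1).take 1) = true := by decide +kernel

theorem cl0_10_7 : chkOn A 19 7 1 ((((((((((((cl0_l).drop 1).drop 2).drop 2).drop 2).drop 5).drop 8).drop 1).drop 2).drop 1).drop 1).take 1) = true := by decide +kernel

theorem cl0_10_8 : chkOn A 19 8 1 ((((((((((((cl0_l).drop 1).drop 2).drop 2).drop 2).drop 5).drop 8).drop 1).drop 2).drop 1).drop 1).take 1) = true := by decide +kernel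

theorem cl0_10_9 : chkOn A 19 9 1 ((((((((((((cl0_l).drop 1).drop 2).drop 2).drop 2).drop 5).drop 8).drop 1).drop 2).drop 1).drop 1).take 1) = true := by decide +kernel

theorem cl0_10_10 : chkOn A 19 10 1 ((((((((((((cl0_l).drop 1).drop 2).drop 2).drop 2).drop 5).drop 8).drop 1).drop 2).drop 1).drop 1).take 1) = true := by decide +kernel

theorem cl0_10_11 : chkOn A 19 11 1 ((((((((((((cl0_l).drop 1).drop 2).drop 2).drop 2).drop 5).drop 8).drop 1).drop 2).drop 1).drop 1).take 1) = true := by decide +kernel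

theorem cl0_10_12 : chkOn A 19 12 1 ((((((((((((cl0_l).drop 1).drop 2).drop 2).drop 2).drop 5).drop 8).drop 1).drop 2).drop 1).drop 1).take 1) = true := by decide +kernel

theorem cl0_10_13 : chkOn A 19 13 1 ((((((((((((cl0_l).drop 1).drop 2).drop 2).drop 2).drop 5).drop 8).drop 1).drop 2).drop 1).drop 1).take 1) = true := by decide +kernel

theorem cl0_10_14 : chkOn A 19 14 1 ((((((((((((cl0_l).drop 1).drop 2).drop 2).drop 2).drop 5).drop 8).drop 1).drop 2).drop 1).drop 1).take 1) = true := by decide +kernel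

theorem cl0_10_15 : chkOn A 19 15 1 ((((((((((((cl0_l).drop 1).drop 2).drop 2).drop 2).drop 5).drop 8).drop 1).drop 2).drop 1).drop 1).take 1) = true := by decide +kernel

theorem cl0_10_16 : chkOn A 19 16 1 ((((((((((((cl0_l).drop 1).drop 2).drop 2).drop 2).drop 5).drop 8).drop 1).drop 2).drop 1).drop 1).take 1) = true := by decide +kernel

theorem cl0_10_17 : chkOn A 19 17 1 ((((((((((((cl0_l).drop 1).drop 2).drop 2).drop 2).drop 5).drop 8).drop 1).drop 2).drop 1).drop 1).take 1) = true := by decide +kernel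

theorem cl0_10_18 : chkOn A 19 18 1 ((((((((((((cl0_l).drop 1).drop 2).drop 2).drop 2).drop 5).drop 8).drop 1).drop 2).drop 1).drop 1).take 1) = true := by decide +kernel

theorem cl0_11_0 : chkOn A 19 0 1 (((((((((((((cl0_l).drop 1).drop 2).drop 2).drop 2).drop 5).drop 8).drop 1).drop 2).drop 1).drop 1).drop 1).take 1) = true := by decide +kernel

theorem cl0_11_1 : chkOn A 19 1 1 (((((((((((((cl0_l).drop 1).drop 2).drop 2).drop 2).drop 5).drop 8).drop 1).drop 2).drop 1).drop 1).drop 1).take 1) = true := by decide +kernel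

theorem cl0_11_2 : chkOn A 19 2 1 (((((((((((((cl0_l).drop 1).drop 2).drop 2).drop 2).drop 5).drop 8).drop 1).drop 2).drop 1).drop 1).drop 1).take 1) = true := by decide +kernel

theorem cl0_11_3 : chkOn A 19 3 1 (((((((((((((cl0_l).drop 1).drop 2).drop 2).drop 2).drop 5).drop 8).drop 1).drop 2).drop 1).drop 1).drop 1).take 1) = true := by decide +kernel

theorem cl0_11_4 : chkOn A 19 4 1 (((((((((((((cl0_l).drop 1).drop 2).drop 2).drop 2).drop 5).drop 8).drop 1).drop 2).drop 1).drop 1).drop 1).take 1) = true := by decide +kernel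

theorem cl0_11_5 : chkOn A 19 5 1 (((((((((((((cl0_l).drop 1).drop 2).drop 2).drop 2).drop 5).drop 8).drop 1).drop 2).drop 1).drop 1).drop 1).take 1) = true := by decide +kernel

theorem cl0_11_6 : chkOn A 19 6 1 (((((((((((((cl0_l).drop 1).drop 2).drop 2).drop 2).drop 5).drop 8).drop 1).drop 2).drop 1).drop 1).drop 1).take 1) = true := by decide +kernel

theorem cl0_11_7 : chkOn A 19 7 1 (((((((((((((cl0_l).drop 1).drop 2).drop 2).drop 2).drop 5).drop 8).drop 1).drop 2).drop 1).drop 1).drop 1).take 1) = true := by decide +kernel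

theorem cl0_11_8 : chkOn A 19 8 1 (((((((((((((cl0_l).drop 1).drop 2).drop 2).drop 2).drop 5).drop 8).drop 1).drop 2).drop 1).drop 1).drop 1).take 1) = true := by decide +kernel

theorem cl0_11_9 : chkOn A 19 9 1 (((((((((((((cl0_l).drop 1).drop 2).drop 2).drop 2).drop 5).drop 8).drop 1).drop 2).drop 1).drop 1).drop 1).take 1) = true := by decide +kernel

theorem cl0_11_10 : chkOn A 19 10 1 (((((((((((((cl0_l).drop 1).drop 2).drop 2).drop 2).drop 5).drop 8).drop 1).drop 2).drop 1).drop 1).drop 1).take 1) = true := by decide +kernel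

theorem cl0_11_11 : chkOn A 19 11 1 (((((((((((((cl0_l).drop 1).drop 2).drop 2).drop 2).drop 5).drop 8).drop 1).drop 2).drop 1).drop 1).drop 1).take 1) = true := by decide +kernel

theorem cl0_11_12 : chkOn A 19 12 1 (((((((((((((cl0_l).drop 1).drop 2).drop 2).drop 2).drop 5).drop 8).drop 1).drop 2).drop 1).drop 1).drop 1).take 1) = true := by decide +kernel

theorem cl0_11_13 : chkOn A 19 13 1 (((((((((((((cl0_l).drop 1).drop 2).drop 2).drop 2).drop 5).drop 8).drop 1).drop 2).drop 1).drop 1).drop 1).take 1) = true := by decide +kernel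

theorem cl0_11_14 : chkOn A 19 14 1 (((((((((((((cl0_l).drop 1).drop 2).drop 2).drop 2).drop 5).drop 8).drop 1).drop 2).drop 1).drop 1).drop 1).take 1) = true := by decide +kernel

theorem cl0_11_15 : chkOn A 19 15 1 (((((((((((((cl0_l).drop 1).drop 2).drop 2).drop 2).drop 5).drop 8).drop 1).drop 2).drop 1).drop 1).drop 1).take 1) = true := by decide +kernel

theorem cl0_11_16 : chkOn A 19 16 1 (((((((((((((cl0_l).drop 1).drop 2).drop 2).drop 2).drop 5).drop 8).drop 1).drop 2).drop 1).drop 1).drop 1).take 1) = true := by decide +kernel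

theorem cl0_11_17 : chkOn A 19 17 1 (((((((((((((cl0_l).drop 1).drop 2).drop 2).drop 2).drop 5).drop 8).drop 1).drop 2).drop 1).drop 1).drop 1).take 1) = true := by decide +kernel

theorem cl0_11_18 : chkOn A 19 18 1 (((((((((((((cl0_l).drop 1).drop 2).drop 2).drop 2).drop 5).drop 8).drop 1).drop 2).drop 1).drop 1).drop 1).take 1) = true := by decide +kernel

theorem cl0_12_0 : chkOn A 19 0 1 ((((((((((((((cl0_l).drop 1).drop 2).drop 2).drop 2).drop 5).drop 8).drop 1).drop 2).drop 1).drop 1).drop 1).drop 1).take 1) = true := by decide +kernel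

theorem cl0_12_1 : chkOn A 19 1 1 ((((((((((((((cl0_l).drop 1).drop 2).drop 2).drop 2).drop 5).drop 8).drop 1).drop 2).drop 1).drop 1).drop 1).drop 1).take 1) = true := by decide +kernel

theorem cl0_12_2 : chkOn A 19 2 1 ((((((((((((((cl0_l).drop 1).drop 2).drop 2).drop 2).drop 5).drop 8).drop 1).drop 2).drop 1).drop 1).drop 1).drop 1).take 1) = true := by decide +kernel

theorem cl0_12_3 : chkOn A 19 3 1 ((((((((((((((cl0_l).drop 1).drop 2).drop 2).drop 2).drop 5).drop 8).drop 1).drop 2).drop 1).drop 1).drop 1).drop 1).take 1) = true := by decide +kernel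

theorem cl0_12_4 : chkOn A 19 4 1 ((((((((((((((cl0_l).drop 1).drop 2).drop 2).drop 2).drop 5).drop 8).drop 1).drop 2).drop 1).drop 1).drop 1).drop 1).take 1) = true := by decide +kernel

theorem cl0_12_5 : chkOn A 19 5 1 ((((((((((((((cl0_l).drop 1).drop 2).drop 2).drop 2).drop 5).drop 8).drop 1).drop 2).drop 1).drop 1).drop 1).drop 1).take 1) = true := by decide +kernel

theorem cl0_12_6 : chkOn A 19 6 1 ((((((((((((((cl0_l).drop 1).drop 2).drop 2).drop 2).drop 5).drop 8).drop 1).drop 2).drop 1).drop 1).drop 1).drop 1).take 1) = true := by decide +kernel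

theorem cl0_12_7 : chkOn A 19 7 1 ((((((((((((((cl0_l).drop 1).drop 2).drop 2).drop 2).drop 5).drop 8).drop 1).drop 2).drop 1).drop 1).drop 1).drop 1).take 1) = true := by decide +kernel

theorem cl0_12_8 : chkOn A 19 8 1 ((((((((((((((cl0_l).drop 1).drop 2).drop 2).drop 2).drop 5).drop 8).drop 1).drop 2).drop 1).drop 1).drop 1).drop 1).take 1) = true := by decide +kernel

theorem cl0_12_9 : chkOn A 19 9 1 ((((((((((((((cl0_l).drop 1).drop 2).drop 2).drop 2).drop 5).drop 8).drop 1).drop 2).drop 1).drop 1).drop 1).drop 1).take 1) = true := by decide +kernel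

theorem cl0_12_10 : chkOn A 19 10 1 ((((((((((((((cl0_l).drop 1).drop 2).drop 2).drop 2).drop 5).drop 8).drop 1).drop 2).drop 1).drop 1).drop 1).drop 1).take 1) = true := by decide +kernel

theorem cl0_12_11 : chkOn A 19 11 1 ((((((((((((((cl0_l).drop 1).drop 2).drop 2).drop 2).drop 5).drop 8).drop 1).drop 2).drop 1).drop 1).drop 1).drop 1).take 1) = true := by decide +kernel

theorem cl0_12_12 : chkOn A 19 12 1 ((((((((((((((cl0_l).drop 1).drop 2).drop 2).drop 2).drop 5).drop 8).drop 1).drop 2).drop 1).drop 1).drop 1).drop 1).take 1) = true := by decide +kernel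

theorem cl0_12_13 : chkOn A 19 13 1 ((((((((((((((cl0_l).drop 1).drop 2).drop 2).drop 2).drop 5).drop 8).drop 1).drop 2).drop 1).drop 1).drop 1).drop 1).take 1) = true := by decide +kernel

theorem cl0_12_14 : chkOn A 19 14 1 ((((((((((((((cl0_l).drop 1).drop 2).drop 2).drop 2).drop 5).drop 8).drop 1).drop 2).drop 1).drop 1).drop 1).drop 1).take 1) = true := by decide +kernel

theorem cl0_12_15 : chkOn A 19 15 1 ((((((((((((((cl0_l).drop 1).drop 2).drop 2).drop 2).drop 5).drop 8).drop 1).drop 2).drop 1).drop 1).drop 1).drop 1).take 1) = true := by decide +kernel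

theorem cl0_12_16 : chkOn A 19 16 1 ((((((((((((((cl0_l).drop 1).drop 2).drop 2).drop 2).drop 5).drop 8).drop 1).drop 2).drop 1).drop 1).drop 1).drop 1).take 1) = true := by decide +kernel

theorem cl0_12_17 : chkOn A 19 17 1 ((((((((((((((cl0_l).drop 1).drop 2).drop 2).drop 2).drop 5).drop 8).drop 1).drop 2).drop 1).drop 1).drop 1).drop 1).take 1) = true := by decide +kernel

theorem cl0_12_18 : chkOn A 19 18 1 ((((((((((((((cl0_l).drop 1).drop 2).drop 2).drop 2).drop 5).drop 8).drop 1).drop 2).drop 1).drop 1).drop 1).drop 1).take 1) = true := by decide +kernel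

theorem cl0_13_0 : chkOn A 19 0 1 ((((((((((((((cl0_l).drop 1).drop 2).drop 2).drop 2).drop 5).drop 8).drop 1).drop 2).drop 1).drop 1).drop 1).drop 1).drop 1) = true := by decide +kernel

theorem cl0_13_1 : chkOn A 19 1 1 ((((((((((((((cl0_l).drop 1).drop 2).drop 2).drop 2).drop 5).drop 8).drop 1).drop 2).drop 1).drop 1).drop 1).drop 1).drop 1) = true := by decide +kernel

theorem cl0_13_2 : chkOn A 19 2 1 ((((((((((((((cl0_l).drop 1).drop 2).drop 2).drop 2).drop 5).drop 8).drop 1).drop 2).drop 1).drop 1).drop 1).drop 1).drop 1) = true := by decide +kernel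


end Cfsg.Agent.Spor.Fi24
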