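import Cfsg.Agent.Lib.Spor.Fi24.Defs

set_option autoImplicit false
set_option maxRecDepth 100000
set_option Elab.async false
set_option exponentiation.threshold 100000

namespace Cfsg.Agent.Spor.Fi24
open Cfsg.Agent.PG

theorem cl0_13_3 : chkOn A 19 3 1 ((((((((((((((cl0_l).drop 1).drop 2).drop 2).drop 2).drop 5).drop 8).drop 1).drop 2).drop 1).drop 1).drop 1).drop 1).drop 1) = true := by decide +kernel

theorem cl0_13_4 : chkOn A 19 4 1 ((((((((((((((cl0_l).drop 1).drop 2).drop 2).drop 2).drop 5).drop 8).drop 1).drop 2).drop 1).drop 1).drop 1).drop 1).drop 1) = true := by decide +kernel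

theorem cl0_13_5 : chkOn A 19 5 1 ((((((((((((((cl0_l).drop 1).drop 2).drop 2).drop 2).drop 5).drop 8).drop 1).drop 2).drop 1).drop 1).drop 1).drop 1).drop 1) = true := by decide +kernel

theorem cl0_13_6 : chkOn A 19 6 1 ((((((((((((((cl0_l).drop 1).drop 2).drop 2).drop 2).drop 5).drop 8).drop 1).drop 2).drop 1).drop 1).drop 1).drop 1).drop 1) = true := by decide +kernel

theorem cl0_13_7 : chkOn A 19 7 1 ((((((((((((((cl0_l).drop 1).drop 2).drop 2).drop 2).drop 5).drop 8).drop 1).drop 2).drop 1).drop 1).drop 1).drop 1).drop 1) = true := by decide +kernel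

theorem cl0_13_8 : chkOn A 19 8 1 ((((((((((((((cl0_l).drop 1).drop 2).drop 2).drop 2).drop 5).drop 8).drop 1).drop 2).drop 1).drop 1).drop 1).drop 1).drop 1) = true := by decide +kernel

theorem cl0_13_9 : chkOn A 19 9 1 ((((((((((((((cl0_l).drop 1).drop 2).drop 2).drop 2).drop 5).drop 8).drop 1).drop 2).drop 1).drop 1).drop 1).drop 1).drop 1) = true := by decide +kernel

theorem cl0_13_10 : chkOn A 19 10 1 ((((((((((((((cl0_l).drop 1).drop 2).drop 2).drop 2).drop 5).drop 8).drop 1).drop 2).drop 1).drop 1).drop 1).drop 1).drop 1) = true := by decide +kernel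

theorem cl0_13_11 : chkOn A 19 11 1 ((((((((((((((cl0_l).drop 1).drop 2).drop 2).drop 2).drop 5).drop 8).drop 1).drop 2).drop 1).drop 1).drop 1).drop 1).drop 1) = true := by decide +kernel

theorem cl0_13_12 : chkOn A 19 12 1 ((((((((((((((cl0_l).drop 1).drop 2).drop 2).drop 2).drop 5).drop 8).drop 1).drop 2).drop 1).drop 1).drop 1).drop 1).drop 1) = true := by decide +kernel

theorem cl0_13_13 : chkOn A 19 13 1 ((((((((((((((cl0_l).drop 1).drop 2).drop 2).drop 2).drop 5).drop 8).drop 1).drop 2).drop 1).drop 1).drop 1).drop 1).drop 1) = true := by decide +kernel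

theorem cl0_13_14 : chkOn A 19 14 1 ((((((((((((((cl0_l).drop 1).drop 2).drop 2).drop 2).drop 5).drop 8).drop 1).drop 2).drop 1).drop 1).drop 1).drop 1).drop 1) = true := by decide +kernel

theorem cl0_13_15 : chkOn A 19 15 1 ((((((((((((((cl0_l).drop 1).drop 2).drop 2).drop 2).drop 5).drop 8).drop 1).drop 2).drop 1).drop 1).drop 1).drop 1).drop 1) = true := by decide +kernel

theorem cl0_13_16 : chkOn A 19 16 1 ((((((((((((((cl0_l).drop 1).drop 2).drop 2).drop 2).drop 5).drop 8).drop 1).drop 2).drop 1).drop 1).drop 1).drop 1).drop 1) = true := by decide +kernel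

theorem cl0_13_17 : chkOn A 19 17 1 ((((((((((((((cl0_l).drop 1).drop 2).drop 2).drop 2).drop 5).drop 8).drop 1).drop 2).drop 1).drop 1).drop 1).drop 1).drop 1) = true := by decide +kernel

theorem cl0_13_18 : chkOn A 19 18 1 ((((((((((((((cl0_l).drop 1).drop 2).drop 2).drop 2).drop 5).drop 8).drop 1).drop 2).drop 1).drop 1).drop 1).drop 1).drop 1) = true := by decide +kernel

theorem ok0 : dcShape A 2 4 31671 25121 (korb A 3 25121 4) cj0 reps0 = true := by decide +kernel

theorem ok0_0 : allL ((reps0).take 1) (repOK A (2 + 1) 25121 (korb A 3 25121 4)) = true := by decide +kernel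

theorem ok0_1 : allL (((reps0).drop 1).take 1) (repOK A (2 + 1) 25121 (korb A 3 25121 4)) = true := by decide +kernel

theorem ok0_2 : allL (((reps0).drop 1).drop 1) (repOK A (2 + 1) 25121 (korb A 3 25121 4)) = true := by decide +kernel

theorem orb0 : orbCardB A 16 2 31671 4 306936 = true := by decide +kernel

theorem maxok0 : maxOK A 2 3 31671 4 4 5 [0x104, 0x10404] = true := by decide +kernel

theorem ncloks0_9 : nclOK A 12 13 0 2 [[0x0230]] [(1, 0)] = true := by decide +kernel

theorem ncloks0_8 : nclOK A 10 12 31254 2 [[0x0228], [0x022c]] [(1, 0), (1, 1), (1, 2)] = true := by decide +kernel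

theorem ncloks0_7 : nclOK A 9 10 550 3 [] [(1, 0), (1, 1), (1, 2), (0x11214, 0), (0x1121416, 1)] = true := by decide +kernel

theorem ncloks0_6 : nclOK A 8 9 11293 5 [[0x0220]] [(1, 0), (1, 1), (1, 2), (1, 3), (1, 4)] = true := by decide +kernel

theorem ncloks0_5 : nclOK A 7 8 9504 5 [] [(1, 0), (1, 1), (1, 2), (1, 3), (1, 4), (0x10e0e10, 1)] = true := by decide +kernel

theorem ncloks0_4 : nclOK A 6 7 7709 6 [] [(1, 0), (1, 1), (1, 2), (1, 3), (1, 4), (1, 5), (0x10c0f0c, 4)] = true := by decide +kernel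

theorem ncloks0_3 : nclOK A 5 6 2853 5 [] [(1, 0), (1, 1), (1, 2), (1, 3), (1, 4), (1, 5), (1, 6), (0x10a0a0d, 4)] = true := by decide +kernel

theorem ncloks0_2 : nclOK A 4 5 584 5 [] [(1, 0), (1, 1), (1, 2), (1, 3), (1, 4), (1, 5), (1, 6), (1, 7), (0x1080808, 2)] = true := by decide +kernel

theorem ncloks0_1 : nclOK A 3 4 25121 5 [] [(1, 0), (1, 1), (1, 2), (1, 3), (1, 4), (1, 5), (1, 6), (1, 7), (1, 8), (0x10707, 5)] = true := by decide +kernel

theorem ncloks0_0 : nclOK A 2 3 31671 5 [] [(1, 0), (1, 1), (1, 2), (1, 3), (1, 4), (1, 5), (1, 6), (1, 7), (1, 8), (1, 9), (0x10404, 1)] = true := by decide +kernel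

theorem zcls0_0_0 : chkOn A 19 0 1 ((zcls0_l).take 1) = true := by decide +kernel

theorem zcls0_0_1 : chkOn A 19 1 1 ((zcls0_l).take 1) = true := by decide +kernel

theorem zcls0_0_2 : chkOn A 19 2 1 ((zcls0_l).take 1) = true := by decide +kernel

theorem zcls0_0_3 : chkOn A 19 3 1 ((zcls0_l).take 1) = true := by decide +kernel

theorem zcls0_0_4 : chkOn A 19 4 1 ((zcls0_l).take 1) = true := by decide +kernel

theorem zcls0_0_5 : chkOn A 19 5 1 ((zcls0_l).take 1) = true := by decide +kernel

theorem zcls0_0_6 : chkOn A 19 6 1 ((zcls0_l).take 1) = true := by decide +kernel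

theorem zcls0_0_7 : chkOn A 19 7 1 ((zcls0_l).take 1) = true := by decide +kernel

theorem zcls0_0_8 : chkOn A 19 8 1 ((zcls0_l).take 1) = true := by decide +kernel

theorem zcls0_0_9 : chkOn A 19 9 1 ((zcls0_l).take 1) = true := by decide +kernel

theorem zcls0_0_10 : chkOn A 19 10 1 ((zcls0_l).take 1) = true := by decide +kernel

theorem zcls0_0_11 : chkOn A 19 11 1 ((zcls0_l).take 1) = true := by decide +kernel

theorem zcls0_0_12 : chkOn A 19 12 1 ((zcls0_l).take 1) = true := by decide +kernel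

theorem zcls0_0_13 : chkOn A 19 13 1 ((zcls0_l).take 1) = true := by decide +kernel

theorem zcls0_0_14 : chkOn A 19 14 1 ((zcls0_l).take 1) = true := by decide +kernel

theorem zcls0_0_15 : chkOn A 19 15 1 ((zcls0_l).take 1) = true := by decide +kernel

theorem zcls0_0_16 : chkOn A 19 16 1 ((zcls0_l).take 1) = true := by decide +kernel

theorem zcls0_0_17 : chkOn A 19 17 1 ((zcls0_l).take 1) = true := by decide +kernel

theorem zcls0_0_18 : chkOn A 19 18 1 ((zcls0_l).take 1) = true := by decide +kernel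

theorem zcls0_1_0 : chkOn A 19 0 1 (((zcls0_l).drop 1).take 1) = true := by decide +kernel

theorem zcls0_1_1 : chkOn A 19 1 1 (((zcls0_l).drop 1).take 1) = true := by decide +kernel

theorem zcls0_1_2 : chkOn A 19 2 1 (((zcls0_l).drop 1).take 1) = true := by decide +kernel

theorem zcls0_1_3 : chkOn A 19 3 1 (((zcls0_l).drop 1).take 1) = true := by decide +kernel

theorem zcls0_1_4 : chkOn A 19 4 1 (((zcls0_l).drop 1).take 1) = true := by decide +kernel

theorem zcls0_1_5 : chkOn A 19 5 1 (((zcls0_l).drop 1).take 1) = true := by decide +kernel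

theorem zcls0_1_6 : chkOn A 19 6 1 (((zcls0_l).drop 1).take 1) = true := by decide +kernel

theorem zcls0_1_7 : chkOn A 19 7 1 (((zcls0_l).drop 1).take 1) = true := by decide +kernel


end Cfsg.Agent.Spor.Fi24
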