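import Cfsg.Agent.Lib.Spor.Fi24.Defs

set_option autoImplicit false
set_option maxRecDepth 100000
set_option Elab.async false
set_option exponentiation.threshold 100000

namespace Cfsg.Agent.Spor.Fi24
open Cfsg.Agent.PG

theorem cl6_3_8 : chkOn A 19 8 1 ((((cl6_l).drop 12).drop 6).drop 5) = true := by decide +kernel

theorem cl6_3_9 : chkOn A 19 9 1 ((((cl6_l).drop 12).drop 6).drop 5) = true := by decide +kernel

theorem cl6_3_10 : chkOn A 19 10 1 ((((cl6_l).drop 12).drop 6).drop 5) = true := by decide +kernel

theorem cl6_3_11 : chkOn A 19 11 1 ((((cl6_l).drop 12).drop 6).drop 5) = true := by decide +kernel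

theorem cl6_3_12 : chkOn A 19 12 1 ((((cl6_l).drop 12).drop 6).drop 5) = true := by decide +kernel

theorem cl6_3_13 : chkOn A 19 13 1 ((((cl6_l).drop 12).drop 6).drop 5) = true := by decide +kernel

theorem cl6_3_14 : chkOn A 19 14 1 ((((cl6_l).drop 12).drop 6).drop 5) = true := by decide +kernel

theorem cl6_3_15 : chkOn A 19 15 1 ((((cl6_l).drop 12).drop 6).drop 5) = true := by decide +kernel

theorem cl6_3_16 : chkOn A 19 16 1 ((((cl6_l).drop 12).drop 6).drop 5) = true := by decide +kernel

theorem cl6_3_17 : chkOn A 19 17 1 ((((cl6_l).drop 12).drop 6).drop 5) = true := by decide +kernel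

theorem cl6_3_18 : chkOn A 19 18 1 ((((cl6_l).drop 12).drop 6).drop 5) = true := by decide +kernel

theorem ok6 : dcShape A 8 10 11293 550 (korb A 9 550 3) cj6 reps6 = true := by decide +kernel

theorem ok6_0 : allL ((reps6).take 1) (repOK A (8 + 1) 550 (korb A 9 550 3)) = true := by decide +kernel

theorem ok6_1 : allL (((reps6).drop 1).take 1) (repOK A (8 + 1) 550 (korb A 9 550 3)) = true := by decide +kernel

theorem ok6_2 : allL ((((reps6).drop 1).drop 1).take 1) (repOK A (8 + 1) 550 (korb A 9 550 3)) = true := by decide +kernel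

theorem ok6_3 : allL (((((reps6).drop 1).drop 1).drop 1).take 1) (repOK A (8 + 1) 550 (korb A 9 550 3)) = true := by decide +kernel

theorem ok6_4 : allL ((((((reps6).drop 1).drop 1).drop 1).drop 1).take 1) (repOK A (8 + 1) 550 (korb A 9 550 3)) = true := by decide +kernel

theorem ok6_5 : allL ((((((reps6).drop 1).drop 1).drop 1).drop 1).drop 1) (repOK A (8 + 1) 550 (korb A 9 550 3)) = true := by decide +kernel

theorem orb6 : orbCardB A 16 8 11293 4 16 = true := by decide +kernel

theorem cl5_0_0 : chkOn A 19 0 1 ((cl5_l).take 12) = true := by decide +kernel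

theorem cl5_0_1 : chkOn A 19 1 1 ((cl5_l).take 12) = true := by decide +kernel

theorem cl5_0_2 : chkOn A 19 2 1 ((cl5_l).take 12) = true := by decide +kernel

theorem cl5_0_3 : chkOn A 19 3 1 ((cl5_l).take 12) = true := by decide +kernel

theorem cl5_0_4 : chkOn A 19 4 1 ((cl5_l).take 12) = true := by decide +kernel

theorem cl5_0_5 : chkOn A 19 5 1 ((cl5_l).take 12) = true := by decide +kernel

theorem cl5_0_6 : chkOn A 19 6 1 ((cl5_l).take 12) = true := by decide +kernel

theorem cl5_0_7 : chkOn A 19 7 1 ((cl5_l).take 12) = true := by decide +kernel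

theorem cl5_0_8 : chkOn A 19 8 1 ((cl5_l).take 12) = true := by decide +kernel

theorem cl5_0_9 : chkOn A 19 9 1 ((cl5_l).take 12) = true := by decide +kernel

theorem cl5_0_10 : chkOn A 19 10 1 ((cl5_l).take 12) = true := by decide +kernel

theorem cl5_0_11 : chkOn A 19 11 1 ((cl5_l).take 12) = true := by decide +kernel

theorem cl5_0_12 : chkOn A 19 12 1 ((cl5_l).take 12) = true := by decide +kernel

theorem cl5_0_13 : chkOn A 19 13 1 ((cl5_l).take 12) = true := by decide +kernel

theorem cl5_0_14 : chkOn A 19 14 1 ((cl5_l).take 12) = true := by decide +kernel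

theorem cl5_0_15 : chkOn A 19 15 1 ((cl5_l).take 12) = true := by decide +kernel

theorem cl5_0_16 : chkOn A 19 16 1 ((cl5_l).take 12) = true := by decide +kernel

theorem cl5_0_17 : chkOn A 19 17 1 ((cl5_l).take 12) = true := by decide +kernel

theorem cl5_0_18 : chkOn A 19 18 1 ((cl5_l).take 12) = true := by decide +kernel

theorem cl5_1_0 : chkOn A 19 0 1 (((cl5_l).drop 12).take 5) = true := by decide +kernel

theorem cl5_1_1 : chkOn A 19 1 1 (((cl5_l).drop 12).take 5) = true := by decide +kernel

theorem cl5_1_2 : chkOn A 19 2 1 (((cl5_l).drop 12).take 5) = true := by decide +kernel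

theorem cl5_1_3 : chkOn A 19 3 1 (((cl5_l).drop 12).take 5) = true := by decide +kernel

theorem cl5_1_4 : chkOn A 19 4 1 (((cl5_l).drop 12).take 5) = true := by decide +kernel

theorem cl5_1_5 : chkOn A 19 5 1 (((cl5_l).drop 12).take 5) = true := by decide +kernel

theorem cl5_1_6 : chkOn A 19 6 1 (((cl5_l).drop 12).take 5) = true := by decide +kernel

theorem cl5_1_7 : chkOn A 19 7 1 (((cl5_l).drop 12).take 5) = true := by decide +kernel

theorem cl5_1_8 : chkOn A 19 8 1 (((cl5_l).drop 12).take 5) = true := by decide +kernel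

theorem cl5_1_9 : chkOn A 19 9 1 (((cl5_l).drop 12).take 5) = true := by decide +kernel

theorem cl5_1_10 : chkOn A 19 10 1 (((cl5_l).drop 12).take 5) = true := by decide +kernel

theorem cl5_1_11 : chkOn A 19 11 1 (((cl5_l).drop 12).take 5) = true := by decide +kernel

theorem cl5_1_12 : chkOn A 19 12 1 (((cl5_l).drop 12).take 5) = true := by decide +kernel

theorem cl5_1_13 : chkOn A 19 13 1 (((cl5_l).drop 12).take 5) = true := by decide +kernel

theorem cl5_1_14 : chkOn A 19 14 1 (((cl5_l).drop 12).take 5) = true := by decide +kernel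

theorem cl5_1_15 : chkOn A 19 15 1 (((cl5_l).drop 12).take 5) = true := by decide +kernel

theorem cl5_1_16 : chkOn A 19 16 1 (((cl5_l).drop 12).take 5) = true := by decide +kernel

theorem cl5_1_17 : chkOn A 19 17 1 (((cl5_l).drop 12).take 5) = true := by decide +kernel

theorem cl5_1_18 : chkOn A 19 18 1 (((cl5_l).drop 12).take 5) = true := by decide +kernel

theorem cl5_2_0 : chkOn A 19 0 1 ((((cl5_l).drop 12).drop 5).take 3) = true := by decide +kernel

theorem cl5_2_1 : chkOn A 19 1 1 ((((cl5_l).drop 12).drop 5).take 3) = true := by decide +kernel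

theorem cl5_2_2 : chkOn A 19 2 1 ((((cl5_l).drop 12).drop 5).take 3) = true := by decide +kernel

theorem cl5_2_3 : chkOn A 19 3 1 ((((cl5_l).drop 12).drop 5).take 3) = true := by decide +kernel

theorem cl5_2_4 : chkOn A 19 4 1 ((((cl5_l).drop 12).drop 5).take 3) = true := by decide +kernel

theorem cl5_2_5 : chkOn A 19 5 1 ((((cl5_l).drop 12).drop 5).take 3) = true := by decide +kernel

theorem cl5_2_6 : chkOn A 19 6 1 ((((cl5_l).drop 12).drop 5).take 3) = true := by decide +kernel

theorem cl5_2_7 : chkOn A 19 7 1 ((((cl5_l).drop 12).drop 5).take 3) = true := by decide +kernel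

theorem cl5_2_8 : chkOn A 19 8 1 ((((cl5_l).drop 12).drop 5).take 3) = true := by decide +kernel

theorem cl5_2_9 : chkOn A 19 9 1 ((((cl5_l).drop 12).drop 5).take 3) = true := by decide +kernel

theorem cl5_2_10 : chkOn A 19 10 1 ((((cl5_l).drop 12).drop 5).take 3) = true := by decide +kernel

theorem cl5_2_11 : chkOn A 19 11 1 ((((cl5_l).drop 12).drop 5).take 3) = true := by decide +kernel

theorem cl5_2_12 : chkOn A 19 12 1 ((((cl5_l).drop 12).drop 5).take 3) = true := by decide +kernel

theorem cl5_2_13 : chkOn A 19 13 1 ((((cl5_l).drop 12).drop 5).take 3) = true := by decide +kernel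

theorem cl5_2_14 : chkOn A 19 14 1 ((((cl5_l).drop 12).drop 5).take 3) = true := by decide +kernel


end Cfsg.Agent.Spor.Fi24
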