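import Cfsg.Agent.Lib.Spor.Fi24.Defs

set_option autoImplicit false
set_option maxRecDepth 100000
set_option Elab.async false
set_option exponentiation.threshold 100000

namespace Cfsg.Agent.Spor.Fi24
open Cfsg.Agent.PG

theorem cl5_2_15 : chkOn A 19 15 1 ((((cl5_l).drop 12).drop 5).take 3) = true := by decide +kernel

theorem cl5_2_16 : chkOn A 19 16 1 ((((cl5_l).drop 12).drop 5).take 3) = true := by decide +kernel

theorem cl5_2_17 : chkOn A 19 17 1 ((((cl5_l).drop 12).drop 5).take 3) = true := by decide +kernel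

theorem cl5_2_18 : chkOn A 19 18 1 ((((cl5_l).drop 12).drop 5).take 3) = true := by decide +kernel

theorem cl5_3_0 : chkOn A 19 0 1 (((((cl5_l).drop 12).drop 5).drop 3).take 4) = true := by decide +kernel

theorem cl5_3_1 : chkOn A 19 1 1 (((((cl5_l).drop 12).drop 5).drop 3).take 4) = true := by decide +kernel

theorem cl5_3_2 : chkOn A 19 2 1 (((((cl5_l).drop 12).drop 5).drop 3).take 4) = true := by decide +kernel

theorem cl5_3_3 : chkOn A 19 3 1 (((((cl5_l).drop 12).drop 5).drop 3).take 4) = true := by decide +kernel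

theorem cl5_3_4 : chkOn A 19 4 1 (((((cl5_l).drop 12).drop 5).drop 3).take 4) = true := by decide +kernel

theorem cl5_3_5 : chkOn A 19 5 1 (((((cl5_l).drop 12).drop 5).drop 3).take 4) = true := by decide +kernel

theorem cl5_3_6 : chkOn A 19 6 1 (((((cl5_l).drop 12).drop 5).drop 3).take 4) = true := by decide +kernel

theorem cl5_3_7 : chkOn A 19 7 1 (((((cl5_l).drop 12).drop 5).drop 3).take 4) = true := by decide +kernel

theorem cl5_3_8 : chkOn A 19 8 1 (((((cl5_l).drop 12).drop 5).drop 3).take 4) = true := by decide +kernel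

theorem cl5_3_9 : chkOn A 19 9 1 (((((cl5_l).drop 12).drop 5).drop 3).take 4) = true := by decide +kernel

theorem cl5_3_10 : chkOn A 19 10 1 (((((cl5_l).drop 12).drop 5).drop 3).take 4) = true := by decide +kernel

theorem cl5_3_11 : chkOn A 19 11 1 (((((cl5_l).drop 12).drop 5).drop 3).take 4) = true := by decide +kernel

theorem cl5_3_12 : chkOn A 19 12 1 (((((cl5_l).drop 12).drop 5).drop 3).take 4) = true := by decide +kernel

theorem cl5_3_13 : chkOn A 19 13 1 (((((cl5_l).drop 12).drop 5).drop 3).take 4) = true := by decide +kernel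

theorem cl5_3_14 : chkOn A 19 14 1 (((((cl5_l).drop 12).drop 5).drop 3).take 4) = true := by decide +kernel

theorem cl5_3_15 : chkOn A 19 15 1 (((((cl5_l).drop 12).drop 5).drop 3).take 4) = true := by decide +kernel

theorem cl5_3_16 : chkOn A 19 16 1 (((((cl5_l).drop 12).drop 5).drop 3).take 4) = true := by decide +kernel

theorem cl5_3_17 : chkOn A 19 17 1 (((((cl5_l).drop 12).drop 5).drop 3).take 4) = true := by decide +kernel

theorem cl5_3_18 : chkOn A 19 18 1 (((((cl5_l).drop 12).drop 5).drop 3).take 4) = true := by decide +kernel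

theorem cl5_4_0 : chkOn A 19 0 1 (((((cl5_l).drop 12).drop 5).drop 3).drop 4) = true := by decide +kernel

theorem cl5_4_1 : chkOn A 19 1 1 (((((cl5_l).drop 12).drop 5).drop 3).drop 4) = true := by decide +kernel

theorem cl5_4_2 : chkOn A 19 2 1 (((((cl5_l).drop 12).drop 5).drop 3).drop 4) = true := by decide +kernel

theorem cl5_4_3 : chkOn A 19 3 1 (((((cl5_l).drop 12).drop 5).drop 3).drop 4) = true := by decide +kernel

theorem cl5_4_4 : chkOn A 19 4 1 (((((cl5_l).drop 12).drop 5).drop 3).drop 4) = true := by decide +kernel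

theorem cl5_4_5 : chkOn A 19 5 1 (((((cl5_l).drop 12).drop 5).drop 3).drop 4) = true := by decide +kernel

theorem cl5_4_6 : chkOn A 19 6 1 (((((cl5_l).drop 12).drop 5).drop 3).drop 4) = true := by decide +kernel

theorem cl5_4_7 : chkOn A 19 7 1 (((((cl5_l).drop 12).drop 5).drop 3).drop 4) = true := by decide +kernel

theorem cl5_4_8 : chkOn A 19 8 1 (((((cl5_l).drop 12).drop 5).drop 3).drop 4) = true := by decide +kernel

theorem cl5_4_9 : chkOn A 19 9 1 (((((cl5_l).drop 12).drop 5).drop 3).drop 4) = true := by decide +kernel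

theorem cl5_4_10 : chkOn A 19 10 1 (((((cl5_l).drop 12).drop 5).drop 3).drop 4) = true := by decide +kernel

theorem cl5_4_11 : chkOn A 19 11 1 (((((cl5_l).drop 12).drop 5).drop 3).drop 4) = true := by decide +kernel

theorem cl5_4_12 : chkOn A 19 12 1 (((((cl5_l).drop 12).drop 5).drop 3).drop 4) = true := by decide +kernel

theorem cl5_4_13 : chkOn A 19 13 1 (((((cl5_l).drop 12).drop 5).drop 3).drop 4) = true := by decide +kernel

theorem cl5_4_14 : chkOn A 19 14 1 (((((cl5_l).drop 12).drop 5).drop 3).drop 4) = true := by decide +kernel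

theorem cl5_4_15 : chkOn A 19 15 1 (((((cl5_l).drop 12).drop 5).drop 3).drop 4) = true := by decide +kernel

theorem cl5_4_16 : chkOn A 19 16 1 (((((cl5_l).drop 12).drop 5).drop 3).drop 4) = true := by decide +kernel

theorem cl5_4_17 : chkOn A 19 17 1 (((((cl5_l).drop 12).drop 5).drop 3).drop 4) = true := by decide +kernel

theorem cl5_4_18 : chkOn A 19 18 1 (((((cl5_l).drop 12).drop 5).drop 3).drop 4) = true := by decide +kernel

theorem ok5 : dcShape A 7 9 9504 11293 (korb A 8 11293 4) cj5 reps5 = true := by decide +kernel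

theorem ok5_0 : allL ((reps5).take 1) (repOK A (7 + 1) 11293 (korb A 8 11293 4)) = true := by decide +kernel

theorem ok5_1 : allL (((reps5).drop 1).take 1) (repOK A (7 + 1) 11293 (korb A 8 11293 4)) = true := by decide +kernel

theorem ok5_2 : allL ((((reps5).drop 1).drop 1).take 1) (repOK A (7 + 1) 11293 (korb A 8 11293 4)) = true := by decide +kernel

theorem ok5_3 : allL ((((reps5).drop 1).drop 1).drop 1) (repOK A (7 + 1) 11293 (korb A 8 11293 4)) = true := by decide +kernel

theorem orb5 : orbCardB A 16 7 9504 4 30 = true := by decide +kernel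

theorem cl4_0_0 : chkOn A 19 0 1 ((cl4_l).take 12) = true := by decide +kernel

theorem cl4_0_1 : chkOn A 19 1 1 ((cl4_l).take 12) = true := by decide +kernel

theorem cl4_0_2 : chkOn A 19 2 1 ((cl4_l).take 12) = true := by decide +kernel

theorem cl4_0_3 : chkOn A 19 3 1 ((cl4_l).take 12) = true := by decide +kernel

theorem cl4_0_4 : chkOn A 19 4 1 ((cl4_l).take 12) = true := by decide +kernel

theorem cl4_0_5 : chkOn A 19 5 1 ((cl4_l).take 12) = true := by decide +kernel

theorem cl4_0_6 : chkOn A 19 6 1 ((cl4_l).take 12) = true := by decide +kernel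

theorem cl4_0_7 : chkOn A 19 7 1 ((cl4_l).take 12) = true := by decide +kernel

theorem cl4_0_8 : chkOn A 19 8 1 ((cl4_l).take 12) = true := by decide +kernel

theorem cl4_0_9 : chkOn A 19 9 1 ((cl4_l).take 12) = true := by decide +kernel

theorem cl4_0_10 : chkOn A 19 10 1 ((cl4_l).take 12) = true := by decide +kernel

theorem cl4_0_11 : chkOn A 19 11 1 ((cl4_l).take 12) = true := by decide +kernel

theorem cl4_0_12 : chkOn A 19 12 1 ((cl4_l).take 12) = true := by decide +kernel

theorem cl4_0_13 : chkOn A 19 13 1 ((cl4_l).take 12) = true := by decide +kernel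

theorem cl4_0_14 : chkOn A 19 14 1 ((cl4_l).take 12) = true := by decide +kernel

theorem cl4_0_15 : chkOn A 19 15 1 ((cl4_l).take 12) = true := by decide +kernel

theorem cl4_0_16 : chkOn A 19 16 1 ((cl4_l).take 12) = true := by decide +kernel

theorem cl4_0_17 : chkOn A 19 17 1 ((cl4_l).take 12) = true := by decide +kernel

theorem cl4_0_18 : chkOn A 19 18 1 ((cl4_l).take 12) = true := by decide +kernel

theorem cl4_1_0 : chkOn A 19 0 1 (((cl4_l).drop 12).take 5) = true := by decide +kernel

theorem cl4_1_1 : chkOn A 19 1 1 (((cl4_l).drop 12).take 5) = true := by decide +kernel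

theorem cl4_1_2 : chkOn A 19 2 1 (((cl4_l).drop 12).take 5) = true := by decide +kernel

theorem cl4_1_3 : chkOn A 19 3 1 (((cl4_l).drop 12).take 5) = true := by decide +kernel

theorem cl4_1_4 : chkOn A 19 4 1 (((cl4_l).drop 12).take 5) = true := by decide +kernel

theorem cl4_1_5 : chkOn A 19 5 1 (((cl4_l).drop 12).take 5) = true := by decide +kernel

theorem cl4_1_6 : chkOn A 19 6 1 (((cl4_l).drop 12).take 5) = true := by decide +kernel

theorem cl4_1_7 : chkOn A 19 7 1 (((cl4_l).drop 12).take 5) = true := by decide +kernel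

theorem cl4_1_8 : chkOn A 19 8 1 (((cl4_l).drop 12).take 5) = true := by decide +kernel

theorem cl4_1_9 : chkOn A 19 9 1 (((cl4_l).drop 12).take 5) = true := by decide +kernel

theorem cl4_1_10 : chkOn A 19 10 1 (((cl4_l).drop 12).take 5) = true := by decide +kernel

theorem cl4_1_11 : chkOn A 19 11 1 (((cl4_l).drop 12).take 5) = true := by decide +kernel

theorem cl4_1_12 : chkOn A 19 12 1 (((cl4_l).drop 12).take 5) = true := by decide +kernel

theorem cl4_1_13 : chkOn A 19 13 1 (((cl4_l).drop 12).take 5) = true := by decide +kernel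


end Cfsg.Agent.Spor.Fi24
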