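import Cfsg.Agent.Lib.Spor.Fi24.Defs

set_option autoImplicit false
set_option maxRecDepth 100000
set_option Elab.async false
set_option exponentiation.threshold 100000

namespace Cfsg.Agent.Spor.Fi24
open Cfsg.Agent.PG

theorem ok4_4 : allL (((((reps4).drop 1).drop 1).drop 1).drop 1) (repOK A (6 + 1) 9504 (korb A 7 9504 4)) = true := by decide +kernel

theorem orb4 : orbCardB A 16 6 7709 5 567 = true := by decide +kernel

theorem cl3_0_0 : chkOn A 19 0 1 ((cl3_l).take 4) = true := by decide +kernel

theorem cl3_0_1 : chkOn A 19 1 1 ((cl3_l).take 4) = true := by decide +kernel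

theorem cl3_0_2 : chkOn A 19 2 1 ((cl3_l).take 4) = true := by decide +kernel

theorem cl3_0_3 : chkOn A 19 3 1 ((cl3_l).take 4) = true := by decide +kernel

theorem cl3_0_4 : chkOn A 19 4 1 ((cl3_l).take 4) = true := by decide +kernel

theorem cl3_0_5 : chkOn A 19 5 1 ((cl3_l).take 4) = true := by decide +kernel

theorem cl3_0_6 : chkOn A 19 6 1 ((cl3_l).take 4) = true := by decide +kernel

theorem cl3_0_7 : chkOn A 19 7 1 ((cl3_l).take 4) = true := by decide +kernel

theorem cl3_0_8 : chkOn A 19 8 1 ((cl3_l).take 4) = true := by decide +kernel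

theorem cl3_0_9 : chkOn A 19 9 1 ((cl3_l).take 4) = true := by decide +kernel

theorem cl3_0_10 : chkOn A 19 10 1 ((cl3_l).take 4) = true := by decide +kernel

theorem cl3_0_11 : chkOn A 19 11 1 ((cl3_l).take 4) = true := by decide +kernel

theorem cl3_0_12 : chkOn A 19 12 1 ((cl3_l).take 4) = true := by decide +kernel

theorem cl3_0_13 : chkOn A 19 13 1 ((cl3_l).take 4) = true := by decide +kernel

theorem cl3_0_14 : chkOn A 19 14 1 ((cl3_l).take 4) = true := by decide +kernel

theorem cl3_0_15 : chkOn A 19 15 1 ((cl3_l).take 4) = true := by decide +kernel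

theorem cl3_0_16 : chkOn A 19 16 1 ((cl3_l).take 4) = true := by decide +kernel

theorem cl3_0_17 : chkOn A 19 17 1 ((cl3_l).take 4) = true := by decide +kernel

theorem cl3_0_18 : chkOn A 19 18 1 ((cl3_l).take 4) = true := by decide +kernel

theorem cl3_1_0 : chkOn A 19 0 1 (((cl3_l).drop 4).take 11) = true := by decide +kernel

theorem cl3_1_1 : chkOn A 19 1 1 (((cl3_l).drop 4).take 11) = true := by decide +kernel

theorem cl3_1_2 : chkOn A 19 2 1 (((cl3_l).drop 4).take 11) = true := by decide +kernel

theorem cl3_1_3 : chkOn A 19 3 1 (((cl3_l).drop 4).take 11) = true := by decide +kernel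

theorem cl3_1_4 : chkOn A 19 4 1 (((cl3_l).drop 4).take 11) = true := by decide +kernel

theorem cl3_1_5 : chkOn A 19 5 1 (((cl3_l).drop 4).take 11) = true := by decide +kernel

theorem cl3_1_6 : chkOn A 19 6 1 (((cl3_l).drop 4).take 11) = true := by decide +kernel

theorem cl3_1_7 : chkOn A 19 7 1 (((cl3_l).drop 4).take 11) = true := by decide +kernel

theorem cl3_1_8 : chkOn A 19 8 1 (((cl3_l).drop 4).take 11) = true := by decide +kernel

theorem cl3_1_9 : chkOn A 19 9 1 (((cl3_l).drop 4).take 11) = true := by decide +kernel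

theorem cl3_1_10 : chkOn A 19 10 1 (((cl3_l).drop 4).take 11) = true := by decide +kernel

theorem cl3_1_11 : chkOn A 19 11 1 (((cl3_l).drop 4).take 11) = true := by decide +kernel

theorem cl3_1_12 : chkOn A 19 12 1 (((cl3_l).drop 4).take 11) = true := by decide +kernel

theorem cl3_1_13 : chkOn A 19 13 1 (((cl3_l).drop 4).take 11) = true := by decide +kernel

theorem cl3_1_14 : chkOn A 19 14 1 (((cl3_l).drop 4).take 11) = true := by decide +kernel

theorem cl3_1_15 : chkOn A 19 15 1 (((cl3_l).drop 4).take 11) = true := by decide +kernel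

theorem cl3_1_16 : chkOn A 19 16 1 (((cl3_l).drop 4).take 11) = true := by decide +kernel

theorem cl3_1_17 : chkOn A 19 17 1 (((cl3_l).drop 4).take 11) = true := by decide +kernel

theorem cl3_1_18 : chkOn A 19 18 1 (((cl3_l).drop 4).take 11) = true := by decide +kernel

theorem cl3_2_0 : chkOn A 19 0 1 ((((cl3_l).drop 4).drop 11).take 3) = true := by decide +kernel

theorem cl3_2_1 : chkOn A 19 1 1 ((((cl3_l).drop 4).drop 11).take 3) = true := by decide +kernel

theorem cl3_2_2 : chkOn A 19 2 1 ((((cl3_l).drop 4).drop 11).take 3) = true := by decide +kernel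

theorem cl3_2_3 : chkOn A 19 3 1 ((((cl3_l).drop 4).drop 11).take 3) = true := by decide +kernel

theorem cl3_2_4 : chkOn A 19 4 1 ((((cl3_l).drop 4).drop 11).take 3) = true := by decide +kernel

theorem cl3_2_5 : chkOn A 19 5 1 ((((cl3_l).drop 4).drop 11).take 3) = true := by decide +kernel

theorem cl3_2_6 : chkOn A 19 6 1 ((((cl3_l).drop 4).drop 11).take 3) = true := by decide +kernel

theorem cl3_2_7 : chkOn A 19 7 1 ((((cl3_l).drop 4).drop 11).take 3) = true := by decide +kernel

theorem cl3_2_8 : chkOn A 19 8 1 ((((cl3_l).drop 4).drop 11).take 3) = true := by decide +kernel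

theorem cl3_2_9 : chkOn A 19 9 1 ((((cl3_l).drop 4).drop 11).take 3) = true := by decide +kernel

theorem cl3_2_10 : chkOn A 19 10 1 ((((cl3_l).drop 4).drop 11).take 3) = true := by decide +kernel

theorem cl3_2_11 : chkOn A 19 11 1 ((((cl3_l).drop 4).drop 11).take 3) = true := by decide +kernel

theorem cl3_2_12 : chkOn A 19 12 1 ((((cl3_l).drop 4).drop 11).take 3) = true := by decide +kernel

theorem cl3_2_13 : chkOn A 19 13 1 ((((cl3_l).drop 4).drop 11).take 3) = true := by decide +kernel

theorem cl3_2_14 : chkOn A 19 14 1 ((((cl3_l).drop 4).drop 11).take 3) = true := by decide +kernel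

theorem cl3_2_15 : chkOn A 19 15 1 ((((cl3_l).drop 4).drop 11).take 3) = true := by decide +kernel

theorem cl3_2_16 : chkOn A 19 16 1 ((((cl3_l).drop 4).drop 11).take 3) = true := by decide +kernel

theorem cl3_2_17 : chkOn A 19 17 1 ((((cl3_l).drop 4).drop 11).take 3) = true := by decide +kernel

theorem cl3_2_18 : chkOn A 19 18 1 ((((cl3_l).drop 4).drop 11).take 3) = true := by decide +kernel

theorem cl3_3_0 : chkOn A 19 0 1 (((((cl3_l).drop 4).drop 11).drop 3).take 2) = true := by decide +kernel

theorem cl3_3_1 : chkOn A 19 1 1 (((((cl3_l).drop 4).drop 11).drop 3).take 2) = true := by decide +kernel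

theorem cl3_3_2 : chkOn A 19 2 1 (((((cl3_l).drop 4).drop 11).drop 3).take 2) = true := by decide +kernel

theorem cl3_3_3 : chkOn A 19 3 1 (((((cl3_l).drop 4).drop 11).drop 3).take 2) = true := by decide +kernel

theorem cl3_3_4 : chkOn A 19 4 1 (((((cl3_l).drop 4).drop 11).drop 3).take 2) = true := by decide +kernel

theorem cl3_3_5 : chkOn A 19 5 1 (((((cl3_l).drop 4).drop 11).drop 3).take 2) = true := by decide +kernel

theorem cl3_3_6 : chkOn A 19 6 1 (((((cl3_l).drop 4).drop 11).drop 3).take 2) = true := by decide +kernel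

theorem cl3_3_7 : chkOn A 19 7 1 (((((cl3_l).drop 4).drop 11).drop 3).take 2) = true := by decide +kernel

theorem cl3_3_8 : chkOn A 19 8 1 (((((cl3_l).drop 4).drop 11).drop 3).take 2) = true := by decide +kernel

theorem cl3_3_9 : chkOn A 19 9 1 (((((cl3_l).drop 4).drop 11).drop 3).take 2) = true := by decide +kernel

theorem cl3_3_10 : chkOn A 19 10 1 (((((cl3_l).drop 4).drop 11).drop 3).take 2) = true := by decide +kernel

theorem cl3_3_11 : chkOn A 19 11 1 (((((cl3_l).drop 4).drop 11).drop 3).take 2) = true := by decide +kernel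


end Cfsg.Agent.Spor.Fi24
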