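import Cfsg.Agent.Lib.Spor.Fi24.Defs

set_option autoImplicit false
set_option maxRecDepth 100000
set_option Elab.async false
set_option exponentiation.threshold 100000

namespace Cfsg.Agent.Spor.Fi24
open Cfsg.Agent.PG

theorem cl3_7_8 : chkOn A 19 8 1 (((((((((cl3_l).drop 4).drop 11).drop 3).drop 2).drop 2).drop 2).drop 2).take 2) = true := by decide +kernel

theorem cl3_7_9 : chkOn A 19 9 1 (((((((((cl3_l).drop 4).drop 11).drop 3).drop 2).drop 2).drop 2).drop 2).take 2) = true := by decide +kernel

theorem cl3_7_10 : chkOn A 19 10 1 (((((((((cl3_l).drop 4).drop 11).drop 3).drop 2).drop 2).drop 2).drop 2).take 2) = true := by decide +kernel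

theorem cl3_7_11 : chkOn A 19 11 1 (((((((((cl3_l).drop 4).drop 11).drop 3).drop 2).drop 2).drop 2).drop 2).take 2) = true := by decide +kernel

theorem cl3_7_12 : chkOn A 19 12 1 (((((((((cl3_l).drop 4).drop 11).drop 3).drop 2).drop 2).drop 2).drop 2).take 2) = true := by decide +kernel

theorem cl3_7_13 : chkOn A 19 13 1 (((((((((cl3_l).drop 4).drop 11).drop 3).drop 2).drop 2).drop 2).drop 2).take 2) = true := by decide +kernel

theorem cl3_7_14 : chkOn A 19 14 1 (((((((((cl3_l).drop 4).drop 11).drop 3).drop 2).drop 2).drop 2).drop 2).take 2) = true := by decide +kernel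

theorem cl3_7_15 : chkOn A 19 15 1 (((((((((cl3_l).drop 4).drop 11).drop 3).drop 2).drop 2).drop 2).drop 2).take 2) = true := by decide +kernel

theorem cl3_7_16 : chkOn A 19 16 1 (((((((((cl3_l).drop 4).drop 11).drop 3).drop 2).drop 2).drop 2).drop 2).take 2) = true := by decide +kernel

theorem cl3_7_17 : chkOn A 19 17 1 (((((((((cl3_l).drop 4).drop 11).drop 3).drop 2).drop 2).drop 2).drop 2).take 2) = true := by decide +kernel

theorem cl3_7_18 : chkOn A 19 18 1 (((((((((cl3_l).drop 4).drop 11).drop 3).drop 2).drop 2).drop 2).drop 2).take 2) = true := by decide +kernel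

theorem cl3_8_0 : chkOn A 19 0 1 ((((((((((cl3_l).drop 4).drop 11).drop 3).drop 2).drop 2).drop 2).drop 2).drop 2).take 2) = true := by decide +kernel

theorem cl3_8_1 : chkOn A 19 1 1 ((((((((((cl3_l).drop 4).drop 11).drop 3).drop 2).drop 2).drop 2).drop 2).drop 2).take 2) = true := by decide +kernel

theorem cl3_8_2 : chkOn A 19 2 1 ((((((((((cl3_l).drop 4).drop 11).drop 3).drop 2).drop 2).drop 2).drop 2).drop 2).take 2) = true := by decide +kernel

theorem cl3_8_3 : chkOn A 19 3 1 ((((((((((cl3_l).drop 4).drop 11).drop 3).drop 2).drop 2).drop 2).drop 2).drop 2).take 2) = true := by decide +kernel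

theorem cl3_8_4 : chkOn A 19 4 1 ((((((((((cl3_l).drop 4).drop 11).drop 3).drop 2).drop 2).drop 2).drop 2).drop 2).take 2) = true := by decide +kernel

theorem cl3_8_5 : chkOn A 19 5 1 ((((((((((cl3_l).drop 4).drop 11).drop 3).drop 2).drop 2).drop 2).drop 2).drop 2).take 2) = true := by decide +kernel

theorem cl3_8_6 : chkOn A 19 6 1 ((((((((((cl3_l).drop 4).drop 11).drop 3).drop 2).drop 2).drop 2).drop 2).drop 2).take 2) = true := by decide +kernel

theorem cl3_8_7 : chkOn A 19 7 1 ((((((((((cl3_l).drop 4).drop 11).drop 3).drop 2).drop 2).drop 2).drop 2).drop 2).take 2) = true := by decide +kernel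

theorem cl3_8_8 : chkOn A 19 8 1 ((((((((((cl3_l).drop 4).drop 11).drop 3).drop 2).drop 2).drop 2).drop 2).drop 2).take 2) = true := by decide +kernel

theorem cl3_8_9 : chkOn A 19 9 1 ((((((((((cl3_l).drop 4).drop 11).drop 3).drop 2).drop 2).drop 2).drop 2).drop 2).take 2) = true := by decide +kernel

theorem cl3_8_10 : chkOn A 19 10 1 ((((((((((cl3_l).drop 4).drop 11).drop 3).drop 2).drop 2).drop 2).drop 2).drop 2).take 2) = true := by decide +kernel

theorem cl3_8_11 : chkOn A 19 11 1 ((((((((((cl3_l).drop 4).drop 11).drop 3).drop 2).drop 2).drop 2).drop 2).drop 2).take 2) = true := by decide +kernel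

theorem cl3_8_12 : chkOn A 19 12 1 ((((((((((cl3_l).drop 4).drop 11).drop 3).drop 2).drop 2).drop 2).drop 2).drop 2).take 2) = true := by decide +kernel

theorem cl3_8_13 : chkOn A 19 13 1 ((((((((((cl3_l).drop 4).drop 11).drop 3).drop 2).drop 2).drop 2).drop 2).drop 2).take 2) = true := by decide +kernel

theorem cl3_8_14 : chkOn A 19 14 1 ((((((((((cl3_l).drop 4).drop 11).drop 3).drop 2).drop 2).drop 2).drop 2).drop 2).take 2) = true := by decide +kernel

theorem cl3_8_15 : chkOn A 19 15 1 ((((((((((cl3_l).drop 4).drop 11).drop 3).drop 2).drop 2).drop 2).drop 2).drop 2).take 2) = true := by decide +kernel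

theorem cl3_8_16 : chkOn A 19 16 1 ((((((((((cl3_l).drop 4).drop 11).drop 3).drop 2).drop 2).drop 2).drop 2).drop 2).take 2) = true := by decide +kernel

theorem cl3_8_17 : chkOn A 19 17 1 ((((((((((cl3_l).drop 4).drop 11).drop 3).drop 2).drop 2).drop 2).drop 2).drop 2).take 2) = true := by decide +kernel

theorem cl3_8_18 : chkOn A 19 18 1 ((((((((((cl3_l).drop 4).drop 11).drop 3).drop 2).drop 2).drop 2).drop 2).drop 2).take 2) = true := by decide +kernel

theorem cl3_9_0 : chkOn A 19 0 1 (((((((((((cl3_l).drop 4).drop 11).drop 3).drop 2).drop 2).drop 2).drop 2).drop 2).drop 2).take 2) = true := by decide +kernel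

theorem cl3_9_1 : chkOn A 19 1 1 (((((((((((cl3_l).drop 4).drop 11).drop 3).drop 2).drop 2).drop 2).drop 2).drop 2).drop 2).take 2) = true := by decide +kernel

theorem cl3_9_2 : chkOn A 19 2 1 (((((((((((cl3_l).drop 4).drop 11).drop 3).drop 2).drop 2).drop 2).drop 2).drop 2).drop 2).take 2) = true := by decide +kernel

theorem cl3_9_3 : chkOn A 19 3 1 (((((((((((cl3_l).drop 4).drop 11).drop 3).drop 2).drop 2).drop 2).drop 2).drop 2).drop 2).take 2) = true := by decide +kernel

theorem cl3_9_4 : chkOn A 19 4 1 (((((((((((cl3_l).drop 4).drop 11).drop 3).drop 2).drop 2).drop 2).drop 2).drop 2).drop 2).take 2) = true := by decide +kernel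

theorem cl3_9_5 : chkOn A 19 5 1 (((((((((((cl3_l).drop 4).drop 11).drop 3).drop 2).drop 2).drop 2).drop 2).drop 2).drop 2).take 2) = true := by decide +kernel

theorem cl3_9_6 : chkOn A 19 6 1 (((((((((((cl3_l).drop 4).drop 11).drop 3).drop 2).drop 2).drop 2).drop 2).drop 2).drop 2).take 2) = true := by decide +kernel

theorem cl3_9_7 : chkOn A 19 7 1 (((((((((((cl3_l).drop 4).drop 11).drop 3).drop 2).drop 2).drop 2).drop 2).drop 2).drop 2).take 2) = true := by decide +kernel

theorem cl3_9_8 : chkOn A 19 8 1 (((((((((((cl3_l).drop 4).drop 11).drop 3).drop 2).drop 2).drop 2).drop 2).drop 2).drop 2).take 2) = true := by decide +kernel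

theorem cl3_9_9 : chkOn A 19 9 1 (((((((((((cl3_l).drop 4).drop 11).drop 3).drop 2).drop 2).drop 2).drop 2).drop 2).drop 2).take 2) = true := by decide +kernel

theorem cl3_9_10 : chkOn A 19 10 1 (((((((((((cl3_l).drop 4).drop 11).drop 3).drop 2).drop 2).drop 2).drop 2).drop 2).drop 2).take 2) = true := by decide +kernel

theorem cl3_9_11 : chkOn A 19 11 1 (((((((((((cl3_l).drop 4).drop 11).drop 3).drop 2).drop 2).drop 2).drop 2).drop 2).drop 2).take 2) = true := by decide +kernel

theorem cl3_9_12 : chkOn A 19 12 1 (((((((((((cl3_l).drop 4).drop 11).drop 3).drop 2).drop 2).drop 2).drop 2).drop 2).drop 2).take 2) = true := by decide +kernel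

theorem cl3_9_13 : chkOn A 19 13 1 (((((((((((cl3_l).drop 4).drop 11).drop 3).drop 2).drop 2).drop 2).drop 2).drop 2).drop 2).take 2) = true := by decide +kernel

theorem cl3_9_14 : chkOn A 19 14 1 (((((((((((cl3_l).drop 4).drop 11).drop 3).drop 2).drop 2).drop 2).drop 2).drop 2).drop 2).take 2) = true := by decide +kernel

theorem cl3_9_15 : chkOn A 19 15 1 (((((((((((cl3_l).drop 4).drop 11).drop 3).drop 2).drop 2).drop 2).drop 2).drop 2).drop 2).take 2) = true := by decide +kernel

theorem cl3_9_16 : chkOn A 19 16 1 (((((((((((cl3_l).drop 4).drop 11).drop 3).drop 2).drop 2).drop 2).drop 2).drop 2).drop 2).take 2) = true := by decide +kernel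

theorem cl3_9_17 : chkOn A 19 17 1 (((((((((((cl3_l).drop 4).drop 11).drop 3).drop 2).drop 2).drop 2).drop 2).drop 2).drop 2).take 2) = true := by decide +kernel

theorem cl3_9_18 : chkOn A 19 18 1 (((((((((((cl3_l).drop 4).drop 11).drop 3).drop 2).drop 2).drop 2).drop 2).drop 2).drop 2).take 2) = true := by decide +kernel

theorem cl3_10_0 : chkOn A 19 0 1 ((((((((((((cl3_l).drop 4).drop 11).drop 3).drop 2).drop 2).drop 2).drop 2).drop 2).drop 2).drop 2).take 2) = true := by decide +kernel

theorem cl3_10_1 : chkOn A 19 1 1 ((((((((((((cl3_l).drop 4).drop 11).drop 3).drop 2).drop 2).drop 2).drop 2).drop 2).drop 2).drop 2).take 2) = true := by decide +kernel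

theorem cl3_10_2 : chkOn A 19 2 1 ((((((((((((cl3_l).drop 4).drop 11).drop 3).drop 2).drop 2).drop 2).drop 2).drop 2).drop 2).drop 2).take 2) = true := by decide +kernel

theorem cl3_10_3 : chkOn A 19 3 1 ((((((((((((cl3_l).drop 4).drop 11).drop 3).drop 2).drop 2).drop 2).drop 2).drop 2).drop 2).drop 2).take 2) = true := by decide +kernel

theorem cl3_10_4 : chkOn A 19 4 1 ((((((((((((cl3_l).drop 4).drop 11).drop 3).drop 2).drop 2).drop 2).drop 2).drop 2).drop 2).drop 2).take 2) = true := by decide +kernel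

theorem cl3_10_5 : chkOn A 19 5 1 ((((((((((((cl3_l).drop 4).drop 11).drop 3).drop 2).drop 2).drop 2).drop 2).drop 2).drop 2).drop 2).take 2) = true := by decide +kernel

theorem cl3_10_6 : chkOn A 19 6 1 ((((((((((((cl3_l).drop 4).drop 11).drop 3).drop 2).drop 2).drop 2).drop 2).drop 2).drop 2).drop 2).take 2) = true := by decide +kernel

theorem cl3_10_7 : chkOn A 19 7 1 ((((((((((((cl3_l).drop 4).drop 11).drop 3).drop 2).drop 2).drop 2).drop 2).drop 2).drop 2).drop 2).take 2) = true := by decide +kernel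

theorem cl3_10_8 : chkOn A 19 8 1 ((((((((((((cl3_l).drop 4).drop 11).drop 3).drop 2).drop 2).drop 2).drop 2).drop 2).drop 2).drop 2).take 2) = true := by decide +kernel

theorem cl3_10_9 : chkOn A 19 9 1 ((((((((((((cl3_l).drop 4).drop 11).drop 3).drop 2).drop 2).drop 2).drop 2).drop 2).drop 2).drop 2).take 2) = true := by decide +kernel

theorem cl3_10_10 : chkOn A 19 10 1 ((((((((((((cl3_l).drop 4).drop 11).drop 3).drop 2).drop 2).drop 2).drop 2).drop 2).drop 2).drop 2).take 2) = true := by decide +kernel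

theorem cl3_10_11 : chkOn A 19 11 1 ((((((((((((cl3_l).drop 4).drop 11).drop 3).drop 2).drop 2).drop 2).drop 2).drop 2).drop 2).drop 2).take 2) = true := by decide +kernel

theorem cl3_10_12 : chkOn A 19 12 1 ((((((((((((cl3_l).drop 4).drop 11).drop 3).drop 2).drop 2).drop 2).drop 2).drop 2).drop 2).drop 2).take 2) = true := by decide +kernel

theorem cl3_10_13 : chkOn A 19 13 1 ((((((((((((cl3_l).drop 4).drop 11).drop 3).drop 2).drop 2).drop 2).drop 2).drop 2).drop 2).drop 2).take 2) = true := by decide +kernel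

theorem cl3_10_14 : chkOn A 19 14 1 ((((((((((((cl3_l).drop 4).drop 11).drop 3).drop 2).drop 2).drop 2).drop 2).drop 2).drop 2).drop 2).take 2) = true := by decide +kernel

theorem cl3_10_15 : chkOn A 19 15 1 ((((((((((((cl3_l).drop 4).drop 11).drop 3).drop 2).drop 2).drop 2).drop 2).drop 2).drop 2).drop 2).take 2) = true := by decide +kernel

theorem cl3_10_16 : chkOn A 19 16 1 ((((((((((((cl3_l).drop 4).drop 11).drop 3).drop 2).drop 2).drop 2).drop 2).drop 2).drop 2).drop 2).take 2) = true := by decide +kernel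

theorem cl3_10_17 : chkOn A 19 17 1 ((((((((((((cl3_l).drop 4).drop 11).drop 3).drop 2).drop 2).drop 2).drop 2).drop 2).drop 2).drop 2).take 2) = true := by decide +kernel

theorem cl3_10_18 : chkOn A 19 18 1 ((((((((((((cl3_l).drop 4).drop 11).drop 3).drop 2).drop 2).drop 2).drop 2).drop 2).drop 2).drop 2).take 2) = true := by decide +kernel

theorem cl3_11_0 : chkOn A 19 0 1 (((((((((((((cl3_l).drop 4).drop 11).drop 3).drop 2).drop 2).drop 2).drop 2).drop 2).drop 2).drop 2).drop 2).take 2) = true := by decide +kernel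


end Cfsg.Agent.Spor.Fi24
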