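import Cfsg.Agent.Lib.Spor.Fi24.Defs

set_option autoImplicit false
set_option maxRecDepth 100000
set_option Elab.async false
set_option exponentiation.threshold 100000

namespace Cfsg.Agent.Spor.Fi24
open Cfsg.Agent.PG

theorem cl3_11_1 : chkOn A 19 1 1 (((((((((((((cl3_l).drop 4).drop 11).drop 3).drop 2).drop 2).drop 2).drop 2).drop 2).drop 2).drop 2).drop 2).take 2) = true := by decide +kernel

theorem cl3_11_2 : chkOn A 19 2 1 (((((((((((((cl3_l).drop 4).drop 11).drop 3).drop 2).drop 2).drop 2).drop 2).drop 2).drop 2).drop 2).drop 2).take 2) = true := by decide +kernel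

theorem cl3_11_3 : chkOn A 19 3 1 (((((((((((((cl3_l).drop 4).drop 11).drop 3).drop 2).drop 2).drop 2).drop 2).drop 2).drop 2).drop 2).drop 2).take 2) = true := by decide +kernel

theorem cl3_11_4 : chkOn A 19 4 1 (((((((((((((cl3_l).drop 4).drop 11).drop 3).drop 2).drop 2).drop 2).drop 2).drop 2).drop 2).drop 2).drop 2).take 2) = true := by decide +kernel

theorem cl3_11_5 : chkOn A 19 5 1 (((((((((((((cl3_l).drop 4).drop 11).drop 3).drop 2).drop 2).drop 2).drop 2).drop 2).drop 2).drop 2).drop 2).take 2) = true := by decide +kernel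

theorem cl3_11_6 : chkOn A 19 6 1 (((((((((((((cl3_l).drop 4).drop 11).drop 3).drop 2).drop 2).drop 2).drop 2).drop 2).drop 2).drop 2).drop 2).take 2) = true := by decide +kernel

theorem cl3_11_7 : chkOn A 19 7 1 (((((((((((((cl3_l).drop 4).drop 11).drop 3).drop 2).drop 2).drop 2).drop 2).drop 2).drop 2).drop 2).drop 2).take 2) = true := by decide +kernel

theorem cl3_11_8 : chkOn A 19 8 1 (((((((((((((cl3_l).drop 4).drop 11).drop 3).drop 2).drop 2).drop 2).drop 2).drop 2).drop 2).drop 2).drop 2).take 2) = true := by decide +kernel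

theorem cl3_11_9 : chkOn A 19 9 1 (((((((((((((cl3_l).drop 4).drop 11).drop 3).drop 2).drop 2).drop 2).drop 2).drop 2).drop 2).drop 2).drop 2).take 2) = true := by decide +kernel

theorem cl3_11_10 : chkOn A 19 10 1 (((((((((((((cl3_l).drop 4).drop 11).drop 3).drop 2).drop 2).drop 2).drop 2).drop 2).drop 2).drop 2).drop 2).take 2) = true := by decide +kernel

theorem cl3_11_11 : chkOn A 19 11 1 (((((((((((((cl3_l).drop 4).drop 11).drop 3).drop 2).drop 2).drop 2).drop 2).drop 2).drop 2).drop 2).drop 2).take 2) = true := by decide +kernel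

theorem cl3_11_12 : chkOn A 19 12 1 (((((((((((((cl3_l).drop 4).drop 11).drop 3).drop 2).drop 2).drop 2).drop 2).drop 2).drop 2).drop 2).drop 2).take 2) = true := by decide +kernel

theorem cl3_11_13 : chkOn A 19 13 1 (((((((((((((cl3_l).drop 4).drop 11).drop 3).drop 2).drop 2).drop 2).drop 2).drop 2).drop 2).drop 2).drop 2).take 2) = true := by decide +kernel

theorem cl3_11_14 : chkOn A 19 14 1 (((((((((((((cl3_l).drop 4).drop 11).drop 3).drop 2).drop 2).drop 2).drop 2).drop 2).drop 2).drop 2).drop 2).take 2) = true := by decide +kernel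

theorem cl3_11_15 : chkOn A 19 15 1 (((((((((((((cl3_l).drop 4).drop 11).drop 3).drop 2).drop 2).drop 2).drop 2).drop 2).drop 2).drop 2).drop 2).take 2) = true := by decide +kernel

theorem cl3_11_16 : chkOn A 19 16 1 (((((((((((((cl3_l).drop 4).drop 11).drop 3).drop 2).drop 2).drop 2).drop 2).drop 2).drop 2).drop 2).drop 2).take 2) = true := by decide +kernel

theorem cl3_11_17 : chkOn A 19 17 1 (((((((((((((cl3_l).drop 4).drop 11).drop 3).drop 2).drop 2).drop 2).drop 2).drop 2).drop 2).drop 2).drop 2).take 2) = true := by decide +kernel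

theorem cl3_11_18 : chkOn A 19 18 1 (((((((((((((cl3_l).drop 4).drop 11).drop 3).drop 2).drop 2).drop 2).drop 2).drop 2).drop 2).drop 2).drop 2).take 2) = true := by decide +kernel

theorem cl3_12_0 : chkOn A 19 0 1 (((((((((((((cl3_l).drop 4).drop 11).drop 3).drop 2).drop 2).drop 2).drop 2).drop 2).drop 2).drop 2).drop 2).drop 2) = true := by decide +kernel

theorem cl3_12_1 : chkOn A 19 1 1 (((((((((((((cl3_l).drop 4).drop 11).drop 3).drop 2).drop 2).drop 2).drop 2).drop 2).drop 2).drop 2).drop 2).drop 2) = true := by decide +kernel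

theorem cl3_12_2 : chkOn A 19 2 1 (((((((((((((cl3_l).drop 4).drop 11).drop 3).drop 2).drop 2).drop 2).drop 2).drop 2).drop 2).drop 2).drop 2).drop 2) = true := by decide +kernel

theorem cl3_12_3 : chkOn A 19 3 1 (((((((((((((cl3_l).drop 4).drop 11).drop 3).drop 2).drop 2).drop 2).drop 2).drop 2).drop 2).drop 2).drop 2).drop 2) = true := by decide +kernel

theorem cl3_12_4 : chkOn A 19 4 1 (((((((((((((cl3_l).drop 4).drop 11).drop 3).drop 2).drop 2).drop 2).drop 2).drop 2).drop 2).drop 2).drop 2).drop 2) = true := by decide +kernel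

theorem cl3_12_5 : chkOn A 19 5 1 (((((((((((((cl3_l).drop 4).drop 11).drop 3).drop 2).drop 2).drop 2).drop 2).drop 2).drop 2).drop 2).drop 2).drop 2) = true := by decide +kernel

theorem cl3_12_6 : chkOn A 19 6 1 (((((((((((((cl3_l).drop 4).drop 11).drop 3).drop 2).drop 2).drop 2).drop 2).drop 2).drop 2).drop 2).drop 2).drop 2) = true := by decide +kernel

theorem cl3_12_7 : chkOn A 19 7 1 (((((((((((((cl3_l).drop 4).drop 11).drop 3).drop 2).drop 2).drop 2).drop 2).drop 2).drop 2).drop 2).drop 2).drop 2) = true := by decide +kernel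

theorem cl3_12_8 : chkOn A 19 8 1 (((((((((((((cl3_l).drop 4).drop 11).drop 3).drop 2).drop 2).drop 2).drop 2).drop 2).drop 2).drop 2).drop 2).drop 2) = true := by decide +kernel

theorem cl3_12_9 : chkOn A 19 9 1 (((((((((((((cl3_l).drop 4).drop 11).drop 3).drop 2).drop 2).drop 2).drop 2).drop 2).drop 2).drop 2).drop 2).drop 2) = true := by decide +kernel

theorem cl3_12_10 : chkOn A 19 10 1 (((((((((((((cl3_l).drop 4).drop 11).drop 3).drop 2).drop 2).drop 2).drop 2).drop 2).drop 2).drop 2).drop 2).drop 2) = true := by decide +kernel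

theorem cl3_12_11 : chkOn A 19 11 1 (((((((((((((cl3_l).drop 4).drop 11).drop 3).drop 2).drop 2).drop 2).drop 2).drop 2).drop 2).drop 2).drop 2).drop 2) = true := by decide +kernel

theorem cl3_12_12 : chkOn A 19 12 1 (((((((((((((cl3_l).drop 4).drop 11).drop 3).drop 2).drop 2).drop 2).drop 2).drop 2).drop 2).drop 2).drop 2).drop 2) = true := by decide +kernel

theorem cl3_12_13 : chkOn A 19 13 1 (((((((((((((cl3_l).drop 4).drop 11).drop 3).drop 2).drop 2).drop 2).drop 2).drop 2).drop 2).drop 2).drop 2).drop 2) = true := by decide +kernel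

theorem cl3_12_14 : chkOn A 19 14 1 (((((((((((((cl3_l).drop 4).drop 11).drop 3).drop 2).drop 2).drop 2).drop 2).drop 2).drop 2).drop 2).drop 2).drop 2) = true := by decide +kernel

theorem cl3_12_15 : chkOn A 19 15 1 (((((((((((((cl3_l).drop 4).drop 11).drop 3).drop 2).drop 2).drop 2).drop 2).drop 2).drop 2).drop 2).drop 2).drop 2) = true := by decide +kernel

theorem cl3_12_16 : chkOn A 19 16 1 (((((((((((((cl3_l).drop 4).drop 11).drop 3).drop 2).drop 2).drop 2).drop 2).drop 2).drop 2).drop 2).drop 2).drop 2) = true := by decide +kernel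

theorem cl3_12_17 : chkOn A 19 17 1 (((((((((((((cl3_l).drop 4).drop 11).drop 3).drop 2).drop 2).drop 2).drop 2).drop 2).drop 2).drop 2).drop 2).drop 2) = true := by decide +kernel

theorem cl3_12_18 : chkOn A 19 18 1 (((((((((((((cl3_l).drop 4).drop 11).drop 3).drop 2).drop 2).drop 2).drop 2).drop 2).drop 2).drop 2).drop 2).drop 2) = true := by decide +kernel

theorem ok3 : dcShape A 5 7 2853 7709 (korb A 6 7709 5) cj3 reps3 = true := by decide +kernel

theorem ok3_0 : allL ((reps3).take 1) (repOK A (5 + 1) 7709 (korb A 6 7709 5)) = true := by decide +kernel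

theorem ok3_1 : allL (((reps3).drop 1).take 1) (repOK A (5 + 1) 7709 (korb A 6 7709 5)) = true := by decide +kernel

theorem ok3_2 : allL ((((reps3).drop 1).drop 1).take 1) (repOK A (5 + 1) 7709 (korb A 6 7709 5)) = true := by decide +kernel

theorem ok3_3 : allL (((((reps3).drop 1).drop 1).drop 1).take 1) (repOK A (5 + 1) 7709 (korb A 6 7709 5)) = true := by decide +kernel

theorem ok3_4 : allL (((((reps3).drop 1).drop 1).drop 1).drop 1) (repOK A (5 + 1) 7709 (korb A 6 7709 5)) = true := by decide +kernel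

theorem orb3 : orbCardB A 16 5 2853 5 2816 = true := by decide +kernel

theorem cl2_0_0 : chkOn A 19 0 1 ((cl2_l).take 2) = true := by decide +kernel

theorem cl2_0_1 : chkOn A 19 1 1 ((cl2_l).take 2) = true := by decide +kernel

theorem cl2_0_2 : chkOn A 19 2 1 ((cl2_l).take 2) = true := by decide +kernel

theorem cl2_0_3 : chkOn A 19 3 1 ((cl2_l).take 2) = true := by decide +kernel

theorem cl2_0_4 : chkOn A 19 4 1 ((cl2_l).take 2) = true := by decide +kernel

theorem cl2_0_5 : chkOn A 19 5 1 ((cl2_l).take 2) = true := by decide +kernel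

theorem cl2_0_6 : chkOn A 19 6 1 ((cl2_l).take 2) = true := by decide +kernel

theorem cl2_0_7 : chkOn A 19 7 1 ((cl2_l).take 2) = true := by decide +kernel

theorem cl2_0_8 : chkOn A 19 8 1 ((cl2_l).take 2) = true := by decide +kernel

theorem cl2_0_9 : chkOn A 19 9 1 ((cl2_l).take 2) = true := by decide +kernel

theorem cl2_0_10 : chkOn A 19 10 1 ((cl2_l).take 2) = true := by decide +kernel

theorem cl2_0_11 : chkOn A 19 11 1 ((cl2_l).take 2) = true := by decide +kernel

theorem cl2_0_12 : chkOn A 19 12 1 ((cl2_l).take 2) = true := by decide +kernel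

theorem cl2_0_13 : chkOn A 19 13 1 ((cl2_l).take 2) = true := by decide +kernel

theorem cl2_0_14 : chkOn A 19 14 1 ((cl2_l).take 2) = true := by decide +kernel

theorem cl2_0_15 : chkOn A 19 15 1 ((cl2_l).take 2) = true := by decide +kernel

theorem cl2_0_16 : chkOn A 19 16 1 ((cl2_l).take 2) = true := by decide +kernel

theorem cl2_0_17 : chkOn A 19 17 1 ((cl2_l).take 2) = true := by decide +kernel

theorem cl2_0_18 : chkOn A 19 18 1 ((cl2_l).take 2) = true := by decide +kernel

theorem cl2_1_0 : chkOn A 19 0 1 (((cl2_l).drop 2).take 3) = true := by decide +kernel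

theorem cl2_1_1 : chkOn A 19 1 1 (((cl2_l).drop 2).take 3) = true := by decide +kernel

theorem cl2_1_2 : chkOn A 19 2 1 (((cl2_l).drop 2).take 3) = true := by decide +kernel

theorem cl2_1_3 : chkOn A 19 3 1 (((cl2_l).drop 2).take 3) = true := by decide +kernel

theorem cl2_1_4 : chkOn A 19 4 1 (((cl2_l).drop 2).take 3) = true := by decide +kernel

theorem cl2_1_5 : chkOn A 19 5 1 (((cl2_l).drop 2).take 3) = true := by decide +kernel

theorem cl2_1_6 : chkOn A 19 6 1 (((cl2_l).drop 2).take 3) = true := by decide +kernel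

theorem cl2_1_7 : chkOn A 19 7 1 (((cl2_l).drop 2).take 3) = true := by decide +kernel

theorem cl2_1_8 : chkOn A 19 8 1 (((cl2_l).drop 2).take 3) = true := by decide +kernel

theorem cl2_1_9 : chkOn A 19 9 1 (((cl2_l).drop 2).take 3) = true := by decide +kernel

theorem cl2_1_10 : chkOn A 19 10 1 (((cl2_l).drop 2).take 3) = true := by decide +kernel


end Cfsg.Agent.Spor.Fi24
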