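import Cfsg.Agent.Lib.Spor.Fi24.Data
import Cfsg.Agent.Lib.Spor.Fi23.Main

set_option autoImplicit false
set_option maxRecDepth 100000
set_option Elab.async false
set_option exponentiation.threshold 100000

namespace Cfsg.Agent.Spor.Fi24L
open Cfsg.Agent.PG Cfsg.Agent.Spor

def act1_ws : List ℕ := [0x11812141112110f0c0c0c0f0f110a110d0a16080811081606090a0e16,
  0x1181416121010120e0e0c100d0d110a0a0a12101009091114060910070818,
  0x118121410160f0f0c0c120c0a0a0f0a121008120d1206080e1016,
  0x11612141010160e0e0c0c120c0c0a0e0b0d080d140b0d06080c0e14,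
  0x118161210160f0c0c1012140a0a0a0a0d0d080a0f100608060d0e18,
  0x11814161211120e140e0c0c0c100d0e0a0a100b0b0c060e0d0807,
  0x11412161010140e10120c0f0c100f120a0a14100a080b090910140609070e090a,
  0x11812141014110f0c0c0e110e0a0d0e0c10080d0f07080f09,
  0x1181210160e0e100c0c0f0f0d0e0a0a0f140a1408160b0b0606080b1106,
  0x1121416101016110e0e11140c100f0f0a0c160a0d060e080718]

theorem act1_ag_0 : allL (((agList 0 10 19)).take 2) (Ag Fi24.A Fi23.A 19 (ivl 0 31671) 1 act1_ws 0) = true := by decide +kernel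

theorem act1_ag_1 : allL ((((agList 0 10 19)).drop 2).take 2) (Ag Fi24.A Fi23.A 19 (ivl 0 31671) 1 act1_ws 0) = true := by decide +kernel

theorem act1_ag_2 : allL (((((agList 0 10 19)).drop 2).drop 2).take 2) (Ag Fi24.A Fi23.A 19 (ivl 0 31671) 1 act1_ws 0) = true := by decide +kernel

theorem act1_ag_3 : allL ((((((agList 0 10 19)).drop 2).drop 2).drop 2).take 2) (Ag Fi24.A Fi23.A 19 (ivl 0 31671) 1 act1_ws 0) = true := by decide +kernel

theorem act1_ag_4 : allL (((((((agList 0 10 19)).drop 2).drop 2).drop 2).drop 2).take 2) (Ag Fi24.A Fi23.A 19 (ivl 0 31671) 1 act1_ws 0) = true := by decide +kernel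

theorem act1_ag_5 : allL ((((((((agList 0 10 19)).drop 2).drop 2).drop 2).drop 2).drop 2).take 2) (Ag Fi24.A Fi23.A 19 (ivl 0 31671) 1 act1_ws 0) = true := by decide +kernel

theorem act1_ag_6 : allL (((((((((agList 0 10 19)).drop 2).drop 2).drop 2).drop 2).drop 2).drop 2).take 2) (Ag Fi24.A Fi23.A 19 (ivl 0 31671) 1 act1_ws 0) = true := by decide +kernel

theorem act1_ag_7 : allL ((((((((((agList 0 10 19)).drop 2).drop 2).drop 2).drop 2).drop 2).drop 2).drop 2).take 2) (Ag Fi24.A Fi23.A 19 (ivl 0 31671) 1 act1_ws 0) = true := by decide +kernel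

theorem act1_ag_8 : allL (((((((((((agList 0 10 19)).drop 2).drop 2).drop 2).drop 2).drop 2).drop 2).drop 2).drop 2).take 2) (Ag Fi24.A Fi23.A 19 (ivl 0 31671) 1 act1_ws 0) = true := by decide +kernel

theorem act1_ag_9 : allL ((((((((((((agList 0 10 19)).drop 2).drop 2).drop 2).drop 2).drop 2).drop 2).drop 2).drop 2).drop 2).take 2) (Ag Fi24.A Fi23.A 19 (ivl 0 31671) 1 act1_ws 0) = true := by decide +kernel

theorem act1_ag_10 : allL (((((((((((((agList 0 10 19)).drop 2).drop 2).drop 2).drop 2).drop 2).drop 2).drop 2).drop 2).drop 2).drop 2).take 2) (Ag Fi24.A Fi23.A 19 (ivl 0 31671) 1 act1_ws 0) = true := by decide +kernel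

theorem act1_ag_11 : allL ((((((((((((((agList 0 10 19)).drop 2).drop 2).drop 2).drop 2).drop 2).drop 2).drop 2).drop 2).drop 2).drop 2).drop 2).take 2) (Ag Fi24.A Fi23.A 19 (ivl 0 31671) 1 act1_ws 0) = true := by decide +kernel

theorem act1_ag_12 : allL (((((((((((((((agList 0 10 19)).drop 2).drop 2).drop 2).drop 2).drop 2).drop 2).drop 2).drop 2).drop 2).drop 2).drop 2).drop 2).take 2) (Ag Fi24.A Fi23.A 19 (ivl 0 31671) 1 act1_ws 0) = true := by decide +kernel

theorem act1_ag_13 : allL ((((((((((((((((agList 0 10 19)).drop 2).drop 2).drop 2).drop 2).drop 2).drop 2).drop 2).drop 2).drop 2).drop 2).drop 2).drop 2).drop 2).take 2) (Ag Fi24.A Fi23.A 19 (ivl 0 31671) 1 act1_ws 0) = true := by decide +kernel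

theorem act1_ag_14 : allL (((((((((((((((((agList 0 10 19)).drop 2).drop 2).drop 2).drop 2).drop 2).drop 2).drop 2).drop 2).drop 2).drop 2).drop 2).drop 2).drop 2).drop 2).take 2) (Ag Fi24.A Fi23.A 19 (ivl 0 31671) 1 act1_ws 0) = true := by decide +kernel

theorem act1_ag_15 : allL ((((((((((((((((((agList 0 10 19)).drop 2).drop 2).drop 2).drop 2).drop 2).drop 2).drop 2).drop 2).drop 2).drop 2).drop 2).drop 2).drop 2).drop 2).drop 2).take 2) (Ag Fi24.A Fi23.A 19 (ivl 0 31671) 1 act1_ws 0) = true := by decide +kernel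

theorem act1_ag_16 : allL (((((((((((((((((((agList 0 10 19)).drop 2).drop 2).drop 2).drop 2).drop 2).drop 2).drop 2).drop 2).drop 2).drop 2).drop 2).drop 2).drop 2).drop 2).drop 2).drop 2).take 2) (Ag Fi24.A Fi23.A 19 (ivl 0 31671) 1 act1_ws 0) = true := by decide +kernel

theorem act1_ag_17 : allL ((((((((((((((((((((agList 0 10 19)).drop 2).drop 2).drop 2).drop 2).drop 2).drop 2).drop 2).drop 2).drop 2).drop 2).drop 2).drop 2).drop 2).drop 2).drop 2).drop 2).drop 2).take 2) (Ag Fi24.A Fi23.A 19 (ivl 0 31671) 1 act1_ws 0) = true := by decide +kernel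

theorem act1_ag_18 : allL (((((((((((((((((((((agList 0 10 19)).drop 2).drop 2).drop 2).drop 2).drop 2).drop 2).drop 2).drop 2).drop 2).drop 2).drop 2).drop 2).drop 2).drop 2).drop 2).drop 2).drop 2).drop 2).take 2) (Ag Fi24.A Fi23.A 19 (ivl 0 31671) 1 act1_ws 0) = true := by decide +kernel

theorem act1_ag_19 : allL ((((((((((((((((((((((agList 0 10 19)).drop 2).drop 2).drop 2).drop 2).drop 2).drop 2).drop 2).drop 2).drop 2).drop 2).drop 2).drop 2).drop 2).drop 2).drop 2).drop 2).drop 2).drop 2).drop 2).take 2) (Ag Fi24.A Fi23.A 19 (ivl 0 31671) 1 act1_ws 0) = true := by decide +kernel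

theorem act1_ag_20 : allL (((((((((((((((((((((((agList 0 10 19)).drop 2).drop 2).drop 2).drop 2).drop 2).drop 2).drop 2).drop 2).drop 2).drop 2).drop 2).drop 2).drop 2).drop 2).drop 2).drop 2).drop 2).drop 2).drop 2).drop 2).take 2) (Ag Fi24.A Fi23.A 19 (ivl 0 31671) 1 act1_ws 0) = true := by decide +kernel

theorem act1_ag_21 : allL ((((((((((((((((((((((((agList 0 10 19)).drop 2).drop 2).drop 2).drop 2).drop 2).drop 2).drop 2).drop 2).drop 2).drop 2).drop 2).drop 2).drop 2).drop 2).drop 2).drop 2).drop 2).drop 2).drop 2).drop 2).drop 2).take 2) (Ag Fi24.A Fi23.A 19 (ivl 0 31671) 1 act1_ws 0) = true := by decide +kernel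

theorem act1_ag_22 : allL (((((((((((((((((((((((((agList 0 10 19)).drop 2).drop 2).drop 2).drop 2).drop 2).drop 2).drop 2).drop 2).drop 2).drop 2).drop 2).drop 2).drop 2).drop 2).drop 2).drop 2).drop 2).drop 2).drop 2).drop 2).drop 2).drop 2).take 2) (Ag Fi24.A Fi23.A 19 (ivl 0 31671) 1 act1_ws 0) = true := by decide +kernel

theorem act1_ag_23 : allL ((((((((((((((((((((((((((agList 0 10 19)).drop 2).drop 2).drop 2).drop 2).drop 2).drop 2).drop 2).drop 2).drop 2).drop 2).drop 2).drop 2).drop 2).drop 2).drop 2).drop 2).drop 2).drop 2).drop 2).drop 2).drop 2).drop 2).drop 2).take 2) (Ag Fi24.A Fi23.A 19 (ivl 0 31671) 1 act1_ws 0) = true := by decide +kernel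

theorem act1_ag_24 : allL (((((((((((((((((((((((((((agList 0 10 19)).drop 2).drop 2).drop 2).drop 2).drop 2).drop 2).drop 2).drop 2).drop 2).drop 2).drop 2).drop 2).drop 2).drop 2).drop 2).drop 2).drop 2).drop 2).drop 2).drop 2).drop 2).drop 2).drop 2).drop 2).take 2) (Ag Fi24.A Fi23.A 19 (ivl 0 31671) 1 act1_ws 0) = true := by decide +kernel

theorem act1_ag_25 : allL ((((((((((((((((((((((((((((agList 0 10 19)).drop 2).drop 2).drop 2).drop 2).drop 2).drop 2).drop 2).drop 2).drop 2).drop 2).drop 2).drop 2).drop 2).drop 2).drop 2).drop 2).drop 2).drop 2).drop 2).drop 2).drop 2).drop 2).drop 2).drop 2).drop 2).take 2) (Ag Fi24.A Fi23.A 19 (ivl 0 31671) 1 act1_ws 0) = true := by decide +kernel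

theorem act1_ag_26 : allL (((((((((((((((((((((((((((((agList 0 10 19)).drop 2).drop 2).drop 2).drop 2).drop 2).drop 2).drop 2).drop 2).drop 2).drop 2).drop 2).drop 2).drop 2).drop 2).drop 2).drop 2).drop 2).drop 2).drop 2).drop 2).drop 2).drop 2).drop 2).drop 2).drop 2).drop 2).take 2) (Ag Fi24.A Fi23.A 19 (ivl 0 31671) 1 act1_ws 0) = true := by decide +kernel

theorem act1_ag_27 : allL ((((((((((((((((((((((((((((((agList 0 10 19)).drop 2).drop 2).drop 2).drop 2).drop 2).drop 2).drop 2).drop 2).drop 2).drop 2).drop 2).drop 2).drop 2).drop 2).drop 2).drop 2).drop 2).drop 2).drop 2).drop 2).drop 2).drop 2).drop 2).drop 2).drop 2).drop 2).drop 2).take 2) (Ag Fi24.A Fi23.A 19 (ivl 0 31671) 1 act1_ws 0) = true := by decide +kernel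

theorem act1_ag_28 : allL (((((((((((((((((((((((((((((((agList 0 10 19)).drop 2).drop 2).drop 2).drop 2).drop 2).drop 2).drop 2).drop 2).drop 2).drop 2).drop 2).drop 2).drop 2).drop 2).drop 2).drop 2).drop 2).drop 2).drop 2).drop 2).drop 2).drop 2).drop 2).drop 2).drop 2).drop 2).drop 2).drop 2).take 2) (Ag Fi24.A Fi23.A 19 (ivl 0 31671) 1 act1_ws 0) = true := by decide +kernel

theorem act1_ag_29 : allL ((((((((((((((((((((((((((((((((agList 0 10 19)).drop 2).drop 2).drop 2).drop 2).drop 2).drop 2).drop 2).drop 2).drop 2).drop 2).drop 2).drop 2).drop 2).drop 2).drop 2).drop 2).drop 2).drop 2).drop 2).drop 2).drop 2).drop 2).drop 2).drop 2).drop 2).drop 2).drop 2).drop 2).drop 2).take 2) (Ag Fi24.A Fi23.A 19 (ivl 0 31671) 1 act1_ws 0) = true := by decide +kernel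

theorem act1_ag_30 : allL (((((((((((((((((((((((((((((((((agList 0 10 19)).drop 2).drop 2).drop 2).drop 2).drop 2).drop 2).drop 2).drop 2).drop 2).drop 2).drop 2).drop 2).drop 2).drop 2).drop 2).drop 2).drop 2).drop 2).drop 2).drop 2).drop 2).drop 2).drop 2).drop 2).drop 2).drop 2).drop 2).drop 2).drop 2).drop 2).take 2) (Ag Fi24.A Fi23.A 19 (ivl 0 31671) 1 act1_ws 0) = true := by decide +kernel

theorem act1_ag_31 : allL ((((((((((((((((((((((((((((((((((agList 0 10 19)).drop 2).drop 2).drop 2).drop 2).drop 2).drop 2).drop 2).drop 2).drop 2).drop 2).drop 2).drop 2).drop 2).drop 2).drop 2).drop 2).drop 2).drop 2).drop 2).drop 2).drop 2).drop 2).drop 2).drop 2).drop 2).drop 2).drop 2).drop 2).drop 2).drop 2).drop 2).take 2) (Ag Fi24.A Fi23.A 19 (ivl 0 31671) 1 act1_ws 0) = true := by decide +kernel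

theorem act1_ag_32 : allL (((((((((((((((((((((((((((((((((((agList 0 10 19)).drop 2).drop 2).drop 2).drop 2).drop 2).drop 2).drop 2).drop 2).drop 2).drop 2).drop 2).drop 2).drop 2).drop 2).drop 2).drop 2).drop 2).drop 2).drop 2).drop 2).drop 2).drop 2).drop 2).drop 2).drop 2).drop 2).drop 2).drop 2).drop 2).drop 2).drop 2).drop 2).take 2) (Ag Fi24.A Fi23.A 19 (ivl 0 31671) 1 act1_ws 0) = true := by decide +kernel

theorem act1_ag_33 : allL ((((((((((((((((((((((((((((((((((((agList 0 10 19)).drop 2).drop 2).drop 2).drop 2).drop 2).drop 2).drop 2).drop 2).drop 2).drop 2).drop 2).drop 2).drop 2).drop 2).drop 2).drop 2).drop 2).drop 2).drop 2).drop 2).drop 2).drop 2).drop 2).drop 2).drop 2).drop 2).drop 2).drop 2).drop 2).drop 2).drop 2).drop 2).drop 2).take 2) (Ag Fi24.A Fi23.A 19 (ivl 0 31671) 1 act1_ws 0) = true := by decide +kernel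

theorem act1_ag_34 : allL (((((((((((((((((((((((((((((((((((((agList 0 10 19)).drop 2).drop 2).drop 2).drop 2).drop 2).drop 2).drop 2).drop 2).drop 2).drop 2).drop 2).drop 2).drop 2).drop 2).drop 2).drop 2).drop 2).drop 2).drop 2).drop 2).drop 2).drop 2).drop 2).drop 2).drop 2).drop 2).drop 2).drop 2).drop 2).drop 2).drop 2).drop 2).drop 2).drop 2).take 2) (Ag Fi24.A Fi23.A 19 (ivl 0 31671) 1 act1_ws 0) = true := by decide +kernel

theorem act1_ag_35 : allL ((((((((((((((((((((((((((((((((((((((agList 0 10 19)).drop 2).drop 2).drop 2).drop 2).drop 2).drop 2).drop 2).drop 2).drop 2).drop 2).drop 2).drop 2).drop 2).drop 2).drop 2).drop 2).drop 2).drop 2).drop 2).drop 2).drop 2).drop 2).drop 2).drop 2).drop 2).drop 2).drop 2).drop 2).drop 2).drop 2).drop 2).drop 2).drop 2).drop 2).drop 2).take 2) (Ag Fi24.A Fi23.A 19 (ivl 0 31671) 1 act1_ws 0) = true := by decide +kernel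

theorem act1_ag_36 : allL (((((((((((((((((((((((((((((((((((((((agList 0 10 19)).drop 2).drop 2).drop 2).drop 2).drop 2).drop 2).drop 2).drop 2).drop 2).drop 2).drop 2).drop 2).drop 2).drop 2).drop 2).drop 2).drop 2).drop 2).drop 2).drop 2).drop 2).drop 2).drop 2).drop 2).drop 2).drop 2).drop 2).drop 2).drop 2).drop 2).drop 2).drop 2).drop 2).drop 2).drop 2).drop 2).take 2) (Ag Fi24.A Fi23.A 19 (ivl 0 31671) 1 act1_ws 0) = true := by decide +kernel

theorem act1_ag_37 : allL ((((((((((((((((((((((((((((((((((((((((agList 0 10 19)).drop 2).drop 2).drop 2).drop 2).drop 2).drop 2).drop 2).drop 2).drop 2).drop 2).drop 2).drop 2).drop 2).drop 2).drop 2).drop 2).drop 2).drop 2).drop 2).drop 2).drop 2).drop 2).drop 2).drop 2).drop 2).drop 2).drop 2).drop 2).drop 2).drop 2).drop 2).drop 2).drop 2).drop 2).drop 2).drop 2).drop 2).take 2) (Ag Fi24.A Fi23.A 19 (ivl 0 31671) 1 act1_ws 0) = true := by decide +kernel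

theorem act1_ag_38 : allL (((((((((((((((((((((((((((((((((((((((((agList 0 10 19)).drop 2).drop 2).drop 2).drop 2).drop 2).drop 2).drop 2).drop 2).drop 2).drop 2).drop 2).drop 2).drop 2).drop 2).drop 2).drop 2).drop 2).drop 2).drop 2).drop 2).drop 2).drop 2).drop 2).drop 2).drop 2).drop 2).drop 2).drop 2).drop 2).drop 2).drop 2).drop 2).drop 2).drop 2).drop 2).drop 2).drop 2).drop 2).take 2) (Ag Fi24.A Fi23.A 19 (ivl 0 31671) 1 act1_ws 0) = true := by decide +kernel

theorem act1_ag_39 : allL ((((((((((((((((((((((((((((((((((((((((((agList 0 10 19)).drop 2).drop 2).drop 2).drop 2).drop 2).drop 2).drop 2).drop 2).drop 2).drop 2).drop 2).drop 2).drop 2).drop 2).drop 2).drop 2).drop 2).drop 2).drop 2).drop 2).drop 2).drop 2).drop 2).drop 2).drop 2).drop 2).drop 2).drop 2).drop 2).drop 2).drop 2).drop 2).drop 2).drop 2).drop 2).drop 2).drop 2).drop 2).drop 2).take 2) (Ag Fi24.A Fi23.A 19 (ivl 0 31671) 1 act1_ws 0) = true := by decide +kernel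

theorem act1_ag_40 : allL (((((((((((((((((((((((((((((((((((((((((((agList 0 10 19)).drop 2).drop 2).drop 2).drop 2).drop 2).drop 2).drop 2).drop 2).drop 2).drop 2).drop 2).drop 2).drop 2).drop 2).drop 2).drop 2).drop 2).drop 2).drop 2).drop 2).drop 2).drop 2).drop 2).drop 2).drop 2).drop 2).drop 2).drop 2).drop 2).drop 2).drop 2).drop 2).drop 2).drop 2).drop 2).drop 2).drop 2).drop 2).drop 2).drop 2).take 2) (Ag Fi24.A Fi23.A 19 (ivl 0 31671) 1 act1_ws 0) = true := by decide +kernel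

theorem act1_ag_41 : allL ((((((((((((((((((((((((((((((((((((((((((((agList 0 10 19)).drop 2).drop 2).drop 2).drop 2).drop 2).drop 2).drop 2).drop 2).drop 2).drop 2).drop 2).drop 2).drop 2).drop 2).drop 2).drop 2).drop 2).drop 2).drop 2).drop 2).drop 2).drop 2).drop 2).drop 2).drop 2).drop 2).drop 2).drop 2).drop 2).drop 2).drop 2).drop 2).drop 2).drop 2).drop 2).drop 2).drop 2).drop 2).drop 2).drop 2).drop 2).take 2) (Ag Fi24.A Fi23.A 19 (ivl 0 31671) 1 act1_ws 0) = true := by decide +kernel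

theorem act1_ag_42 : allL (((((((((((((((((((((((((((((((((((((((((((((agList 0 10 19)).drop 2).drop 2).drop 2).drop 2).drop 2).drop 2).drop 2).drop 2).drop 2).drop 2).drop 2).drop 2).drop 2).drop 2).drop 2).drop 2).drop 2).drop 2).drop 2).drop 2).drop 2).drop 2).drop 2).drop 2).drop 2).drop 2).drop 2).drop 2).drop 2).drop 2).drop 2).drop 2).drop 2).drop 2).drop 2).drop 2).drop 2).drop 2).drop 2).drop 2).drop 2).drop 2).take 2) (Ag Fi24.A Fi23.A 19 (ivl 0 31671) 1 act1_ws 0) = true := by decide +kernel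

theorem act1_ag_43 : allL ((((((((((((((((((((((((((((((((((((((((((((((agList 0 10 19)).drop 2).drop 2).drop 2).drop 2).drop 2).drop 2).drop 2).drop 2).drop 2).drop 2).drop 2).drop 2).drop 2).drop 2).drop 2).drop 2).drop 2).drop 2).drop 2).drop 2).drop 2).drop 2).drop 2).drop 2).drop 2).drop 2).drop 2).drop 2).drop 2).drop 2).drop 2).drop 2).drop 2).drop 2).drop 2).drop 2).drop 2).drop 2).drop 2).drop 2).drop 2).drop 2).drop 2).take 2) (Ag Fi24.A Fi23.A 19 (ivl 0 31671) 1 act1_ws 0) = true := by decide +kernel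

theorem act1_ag_44 : allL (((((((((((((((((((((((((((((((((((((((((((((((agList 0 10 19)).drop 2).drop 2).drop 2).drop 2).drop 2).drop 2).drop 2).drop 2).drop 2).drop 2).drop 2).drop 2).drop 2).drop 2).drop 2).drop 2).drop 2).drop 2).drop 2).drop 2).drop 2).drop 2).drop 2).drop 2).drop 2).drop 2).drop 2).drop 2).drop 2).drop 2).drop 2).drop 2).drop 2).drop 2).drop 2).drop 2).drop 2).drop 2).drop 2).drop 2).drop 2).drop 2).drop 2).drop 2).take 2) (Ag Fi24.A Fi23.A 19 (ivl 0 31671) 1 act1_ws 0) = true := by decide +kernel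

theorem act1_ag_45 : allL ((((((((((((((((((((((((((((((((((((((((((((((((agList 0 10 19)).drop 2).drop 2).drop 2).drop 2).drop 2).drop 2).drop 2).drop 2).drop 2).drop 2).drop 2).drop 2).drop 2).drop 2).drop 2).drop 2).drop 2).drop 2).drop 2).drop 2).drop 2).drop 2).drop 2).drop 2).drop 2).drop 2).drop 2).drop 2).drop 2).drop 2).drop 2).drop 2).drop 2).drop 2).drop 2).drop 2).drop 2).drop 2).drop 2).drop 2).drop 2).drop 2).drop 2).drop 2).drop 2).take 2) (Ag Fi24.A Fi23.A 19 (ivl 0 31671) 1 act1_ws 0) = true := by decide +kernel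

theorem act1_ag_46 : allL (((((((((((((((((((((((((((((((((((((((((((((((((agList 0 10 19)).drop 2).drop 2).drop 2).drop 2).drop 2).drop 2).drop 2).drop 2).drop 2).drop 2).drop 2).drop 2).drop 2).drop 2).drop 2).drop 2).drop 2).drop 2).drop 2).drop 2).drop 2).drop 2).drop 2).drop 2).drop 2).drop 2).drop 2).drop 2).drop 2).drop 2).drop 2).drop 2).drop 2).drop 2).drop 2).drop 2).drop 2).drop 2).drop 2).drop 2).drop 2).drop 2).drop 2).drop 2).drop 2).drop 2).take 2) (Ag Fi24.A Fi23.A 19 (ivl 0 31671) 1 act1_ws 0) = true := by decide +kernel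

theorem act1_ag_47 : allL ((((((((((((((((((((((((((((((((((((((((((((((((((agList 0 10 19)).drop 2).drop 2).drop 2).drop 2).drop 2).drop 2).drop 2).drop 2).drop 2).drop 2).drop 2).drop 2).drop 2).drop 2).drop 2).drop 2).drop 2).drop 2).drop 2).drop 2).drop 2).drop 2).drop 2).drop 2).drop 2).drop 2).drop 2).drop 2).drop 2).drop 2).drop 2).drop 2).drop 2).drop 2).drop 2).drop 2).drop 2).drop 2).drop 2).drop 2).drop 2).drop 2).drop 2).drop 2).drop 2).drop 2).drop 2).take 2) (Ag Fi24.A Fi23.A 19 (ivl 0 31671) 1 act1_ws 0) = true := by decide +kernel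

theorem act1_ag_48 : allL (((((((((((((((((((((((((((((((((((((((((((((((((((agList 0 10 19)).drop 2).drop 2).drop 2).drop 2).drop 2).drop 2).drop 2).drop 2).drop 2).drop 2).drop 2).drop 2).drop 2).drop 2).drop 2).drop 2).drop 2).drop 2).drop 2).drop 2).drop 2).drop 2).drop 2).drop 2).drop 2).drop 2).drop 2).drop 2).drop 2).drop 2).drop 2).drop 2).drop 2).drop 2).drop 2).drop 2).drop 2).drop 2).drop 2).drop 2).drop 2).drop 2).drop 2).drop 2).drop 2).drop 2).drop 2).drop 2).take 2) (Ag Fi24.A Fi23.A 19 (ivl 0 31671) 1 act1_ws 0) = true := by decide +kernel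

theorem act1_ag_49 : allL ((((((((((((((((((((((((((((((((((((((((((((((((((((agList 0 10 19)).drop 2).drop 2).drop 2).drop 2).drop 2).drop 2).drop 2).drop 2).drop 2).drop 2).drop 2).drop 2).drop 2).drop 2).drop 2).drop 2).drop 2).drop 2).drop 2).drop 2).drop 2).drop 2).drop 2).drop 2).drop 2).drop 2).drop 2).drop 2).drop 2).drop 2).drop 2).drop 2).drop 2).drop 2).drop 2).drop 2).drop 2).drop 2).drop 2).drop 2).drop 2).drop 2).drop 2).drop 2).drop 2).drop 2).drop 2).drop 2).drop 2).take 2) (Ag Fi24.A Fi23.A 19 (ivl 0 31671) 1 act1_ws 0) = true := by decide +kernel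

theorem act1_ag_50 : allL (((((((((((((((((((((((((((((((((((((((((((((((((((((agList 0 10 19)).drop 2).drop 2).drop 2).drop 2).drop 2).drop 2).drop 2).drop 2).drop 2).drop 2).drop 2).drop 2).drop 2).drop 2).drop 2).drop 2).drop 2).drop 2).drop 2).drop 2).drop 2).drop 2).drop 2).drop 2).drop 2).drop 2).drop 2).drop 2).drop 2).drop 2).drop 2).drop 2).drop 2).drop 2).drop 2).drop 2).drop 2).drop 2).drop 2).drop 2).drop 2).drop 2).drop 2).drop 2).drop 2).drop 2).drop 2).drop 2).drop 2).drop 2).take 2) (Ag Fi24.A Fi23.A 19 (ivl 0 31671) 1 act1_ws 0) = true := by decide +kernel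

theorem act1_ag_51 : allL ((((((((((((((((((((((((((((((((((((((((((((((((((((((agList 0 10 19)).drop 2).drop 2).drop 2).drop 2).drop 2).drop 2).drop 2).drop 2).drop 2).drop 2).drop 2).drop 2).drop 2).drop 2).drop 2).drop 2).drop 2).drop 2).drop 2).drop 2).drop 2).drop 2).drop 2).drop 2).drop 2).drop 2).drop 2).drop 2).drop 2).drop 2).drop 2).drop 2).drop 2).drop 2).drop 2).drop 2).drop 2).drop 2).drop 2).drop 2).drop 2).drop 2).drop 2).drop 2).drop 2).drop 2).drop 2).drop 2).drop 2).drop 2).drop 2).take 2) (Ag Fi24.A Fi23.A 19 (ivl 0 31671) 1 act1_ws 0) = true := by decide +kernel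

theorem act1_ag_52 : allL (((((((((((((((((((((((((((((((((((((((((((((((((((((((agList 0 10 19)).drop 2).drop 2).drop 2).drop 2).drop 2).drop 2).drop 2).drop 2).drop 2).drop 2).drop 2).drop 2).drop 2).drop 2).drop 2).drop 2).drop 2).drop 2).drop 2).drop 2).drop 2).drop 2).drop 2).drop 2).drop 2).drop 2).drop 2).drop 2).drop 2).drop 2).drop 2).drop 2).drop 2).drop 2).drop 2).drop 2).drop 2).drop 2).drop 2).drop 2).drop 2).drop 2).drop 2).drop 2).drop 2).drop 2).drop 2).drop 2).drop 2).drop 2).drop 2).drop 2).take 2) (Ag Fi24.A Fi23.A 19 (ivl 0 31671) 1 act1_ws 0) = true := by decide +kernel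

theorem act1_ag_53 : allL ((((((((((((((((((((((((((((((((((((((((((((((((((((((((agList 0 10 19)).drop 2).drop 2).drop 2).drop 2).drop 2).drop 2).drop 2).drop 2).drop 2).drop 2).drop 2).drop 2).drop 2).drop 2).drop 2).drop 2).drop 2).drop 2).drop 2).drop 2).drop 2).drop 2).drop 2).drop 2).drop 2).drop 2).drop 2).drop 2).drop 2).drop 2).drop 2).drop 2).drop 2).drop 2).drop 2).drop 2).drop 2).drop 2).drop 2).drop 2).drop 2).drop 2).drop 2).drop 2).drop 2).drop 2).drop 2).drop 2).drop 2).drop 2).drop 2).drop 2).drop 2).take 2) (Ag Fi24.A Fi23.A 19 (ivl 0 31671) 1 act1_ws 0) = true := by decide +kernel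

theorem act1_ag_54 : allL (((((((((((((((((((((((((((((((((((((((((((((((((((((((((agList 0 10 19)).drop 2).drop 2).drop 2).drop 2).drop 2).drop 2).drop 2).drop 2).drop 2).drop 2).drop 2).drop 2).drop 2).drop 2).drop 2).drop 2).drop 2).drop 2).drop 2).drop 2).drop 2).drop 2).drop 2).drop 2).drop 2).drop 2).drop 2).drop 2).drop 2).drop 2).drop 2).drop 2).drop 2).drop 2).drop 2).drop 2).drop 2).drop 2).drop 2).drop 2).drop 2).drop 2).drop 2).drop 2).drop 2).drop 2).drop 2).drop 2).drop 2).drop 2).drop 2).drop 2).drop 2).drop 2).take 2) (Ag Fi24.A Fi23.A 19 (ivl 0 31671) 1 act1_ws 0) = true := by decide +kernel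

theorem act1_ag_55 : allL ((((((((((((((((((((((((((((((((((((((((((((((((((((((((((agList 0 10 19)).drop 2).drop 2).drop 2).drop 2).drop 2).drop 2).drop 2).drop 2).drop 2).drop 2).drop 2).drop 2).drop 2).drop 2).drop 2).drop 2).drop 2).drop 2).drop 2).drop 2).drop 2).drop 2).drop 2).drop 2).drop 2).drop 2).drop 2).drop 2).drop 2).drop 2).drop 2).drop 2).drop 2).drop 2).drop 2).drop 2).drop 2).drop 2).drop 2).drop 2).drop 2).drop 2).drop 2).drop 2).drop 2).drop 2).drop 2).drop 2).drop 2).drop 2).drop 2).drop 2).drop 2).drop 2).drop 2).take 2) (Ag Fi24.A Fi23.A 19 (ivl 0 31671) 1 act1_ws 0) = true := by decide +kernel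

theorem act1_ag_56 : allL (((((((((((((((((((((((((((((((((((((((((((((((((((((((((((agList 0 10 19)).drop 2).drop 2).drop 2).drop 2).drop 2).drop 2).drop 2).drop 2).drop 2).drop 2).drop 2).drop 2).drop 2).drop 2).drop 2).drop 2).drop 2).drop 2).drop 2).drop 2).drop 2).drop 2).drop 2).drop 2).drop 2).drop 2).drop 2).drop 2).drop 2).drop 2).drop 2).drop 2).drop 2).drop 2).drop 2).drop 2).drop 2).drop 2).drop 2).drop 2).drop 2).drop 2).drop 2).drop 2).drop 2).drop 2).drop 2).drop 2).drop 2).drop 2).drop 2).drop 2).drop 2).drop 2).drop 2).drop 2).take 2) (Ag Fi24.A Fi23.A 19 (ivl 0 31671) 1 act1_ws 0) = true := by decide +kernel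

theorem act1_ag_57 : allL ((((((((((((((((((((((((((((((((((((((((((((((((((((((((((((agList 0 10 19)).drop 2).drop 2).drop 2).drop 2).drop 2).drop 2).drop 2).drop 2).drop 2).drop 2).drop 2).drop 2).drop 2).drop 2).drop 2).drop 2).drop 2).drop 2).drop 2).drop 2).drop 2).drop 2).drop 2).drop 2).drop 2).drop 2).drop 2).drop 2).drop 2).drop 2).drop 2).drop 2).drop 2).drop 2).drop 2).drop 2).drop 2).drop 2).drop 2).drop 2).drop 2).drop 2).drop 2).drop 2).drop 2).drop 2).drop 2).drop 2).drop 2).drop 2).drop 2).drop 2).drop 2).drop 2).drop 2).drop 2).drop 2).take 1) (Ag Fi24.A Fi23.A 19 (ivl 0 31671) 1 act1_ws 0) = true := by decide +kernel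

theorem act1_ag_58 : allL (((((((((((((((((((((((((((((((((((((((((((((((((((((((((((((agList 0 10 19)).drop 2).drop 2).drop 2).drop 2).drop 2).drop 2).drop 2).drop 2).drop 2).drop 2).drop 2).drop 2).drop 2).drop 2).drop 2).drop 2).drop 2).drop 2).drop 2).drop 2).drop 2).drop 2).drop 2).drop 2).drop 2).drop 2).drop 2).drop 2).drop 2).drop 2).drop 2).drop 2).drop 2).drop 2).drop 2).drop 2).drop 2).drop 2).drop 2).drop 2).drop 2).drop 2).drop 2).drop 2).drop 2).drop 2).drop 2).drop 2).drop 2).drop 2).drop 2).drop 2).drop 2).drop 2).drop 2).drop 2).drop 2).drop 1).take 1) (Ag Fi24.A Fi23.A 19 (ivl 0 31671) 1 act1_ws 0) = true := by decide +kernel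

theorem act1_ag_59 : allL ((((((((((((((((((((((((((((((((((((((((((((((((((((((((((((((agList 0 10 19)).drop 2).drop 2).drop 2).drop 2).drop 2).drop 2).drop 2).drop 2).drop 2).drop 2).drop 2).drop 2).drop 2).drop 2).drop 2).drop 2).drop 2).drop 2).drop 2).drop 2).drop 2).drop 2).drop 2).drop 2).drop 2).drop 2).drop 2).drop 2).drop 2).drop 2).drop 2).drop 2).drop 2).drop 2).drop 2).drop 2).drop 2).drop 2).drop 2).drop 2).drop 2).drop 2).drop 2).drop 2).drop 2).drop 2).drop 2).drop 2).drop 2).drop 2).drop 2).drop 2).drop 2).drop 2).drop 2).drop 2).drop 2).drop 1).drop 1).take 1) (Ag Fi24.A Fi23.A 19 (ivl 0 31671) 1 act1_ws 0) = true := by decide +kernel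

theorem act1_ag_60 : allL (((((((((((((((((((((((((((((((((((((((((((((((((((((((((((((((agList 0 10 19)).drop 2).drop 2).drop 2).drop 2).drop 2).drop 2).drop 2).drop 2).drop 2).drop 2).drop 2).drop 2).drop 2).drop 2).drop 2).drop 2).drop 2).drop 2).drop 2).drop 2).drop 2).drop 2).drop 2).drop 2).drop 2).drop 2).drop 2).drop 2).drop 2).drop 2).drop 2).drop 2).drop 2).drop 2).drop 2).drop 2).drop 2).drop 2).drop 2).drop 2).drop 2).drop 2).drop 2).drop 2).drop 2).drop 2).drop 2).drop 2).drop 2).drop 2).drop 2).drop 2).drop 2).drop 2).drop 2).drop 2).drop 2).drop 1).drop 1).drop 1).take 1) (Ag Fi24.A Fi23.A 19 (ivl 0 31671) 1 act1_ws 0) = true := by decide +kernel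

theorem act1_ag_61 : allL ((((((((((((((((((((((((((((((((((((((((((((((((((((((((((((((((agList 0 10 19)).drop 2).drop 2).drop 2).drop 2).drop 2).drop 2).drop 2).drop 2).drop 2).drop 2).drop 2).drop 2).drop 2).drop 2).drop 2).drop 2).drop 2).drop 2).drop 2).drop 2).drop 2).drop 2).drop 2).drop 2).drop 2).drop 2).drop 2).drop 2).drop 2).drop 2).drop 2).drop 2).drop 2).drop 2).drop 2).drop 2).drop 2).drop 2).drop 2).drop 2).drop 2).drop 2).drop 2).drop 2).drop 2).drop 2).drop 2).drop 2).drop 2).drop 2).drop 2).drop 2).drop 2).drop 2).drop 2).drop 2).drop 2).drop 1).drop 1).drop 1).drop 1).take 1) (Ag Fi24.A Fi23.A 19 (ivl 0 31671) 1 act1_ws 0) = true := by decide +kernel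

theorem act1_ag_62 : allL (((((((((((((((((((((((((((((((((((((((((((((((((((((((((((((((((agList 0 10 19)).drop 2).drop 2).drop 2).drop 2).drop 2).drop 2).drop 2).drop 2).drop 2).drop 2).drop 2).drop 2).drop 2).drop 2).drop 2).drop 2).drop 2).drop 2).drop 2).drop 2).drop 2).drop 2).drop 2).drop 2).drop 2).drop 2).drop 2).drop 2).drop 2).drop 2).drop 2).drop 2).drop 2).drop 2).drop 2).drop 2).drop 2).drop 2).drop 2).drop 2).drop 2).drop 2).drop 2).drop 2).drop 2).drop 2).drop 2).drop 2).drop 2).drop 2).drop 2).drop 2).drop 2).drop 2).drop 2).drop 2).drop 2).drop 1).drop 1).drop 1).drop 1).drop 1).take 1) (Ag Fi24.A Fi23.A 19 (ivl 0 31671) 1 act1_ws 0) = true := by decide +kernel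

theorem act1_ag_63 : allL ((((((((((((((((((((((((((((((((((((((((((((((((((((((((((((((((((agList 0 10 19)).drop 2).drop 2).drop 2).drop 2).drop 2).drop 2).drop 2).drop 2).drop 2).drop 2).drop 2).drop 2).drop 2).drop 2).drop 2).drop 2).drop 2).drop 2).drop 2).drop 2).drop 2).drop 2).drop 2).drop 2).drop 2).drop 2).drop 2).drop 2).drop 2).drop 2).drop 2).drop 2).drop 2).drop 2).drop 2).drop 2).drop 2).drop 2).drop 2).drop 2).drop 2).drop 2).drop 2).drop 2).drop 2).drop 2).drop 2).drop 2).drop 2).drop 2).drop 2).drop 2).drop 2).drop 2).drop 2).drop 2).drop 2).drop 1).drop 1).drop 1).drop 1).drop 1).drop 1).take 1) (Ag Fi24.A Fi23.A 19 (ivl 0 31671) 1 act1_ws 0) = true := by decide +kernel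

theorem act1_ag_64 : allL (((((((((((((((((((((((((((((((((((((((((((((((((((((((((((((((((((agList 0 10 19)).drop 2).drop 2).drop 2).drop 2).drop 2).drop 2).drop 2).drop 2).drop 2).drop 2).drop 2).drop 2).drop 2).drop 2).drop 2).drop 2).drop 2).drop 2).drop 2).drop 2).drop 2).drop 2).drop 2).drop 2).drop 2).drop 2).drop 2).drop 2).drop 2).drop 2).drop 2).drop 2).drop 2).drop 2).drop 2).drop 2).drop 2).drop 2).drop 2).drop 2).drop 2).drop 2).drop 2).drop 2).drop 2).drop 2).drop 2).drop 2).drop 2).drop 2).drop 2).drop 2).drop 2).drop 2).drop 2).drop 2).drop 2).drop 1).drop 1).drop 1).drop 1).drop 1).drop 1).drop 1).take 1) (Ag Fi24.A Fi23.A 19 (ivl 0 31671) 1 act1_ws 0) = true := by decide +kernel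

theorem act1_ag_65 : allL ((((((((((((((((((((((((((((((((((((((((((((((((((((((((((((((((((((agList 0 10 19)).drop 2).drop 2).drop 2).drop 2).drop 2).drop 2).drop 2).drop 2).drop 2).drop 2).drop 2).drop 2).drop 2).drop 2).drop 2).drop 2).drop 2).drop 2).drop 2).drop 2).drop 2).drop 2).drop 2).drop 2).drop 2).drop 2).drop 2).drop 2).drop 2).drop 2).drop 2).drop 2).drop 2).drop 2).drop 2).drop 2).drop 2).drop 2).drop 2).drop 2).drop 2).drop 2).drop 2).drop 2).drop 2).drop 2).drop 2).drop 2).drop 2).drop 2).drop 2).drop 2).drop 2).drop 2).drop 2).drop 2).drop 2).drop 1).drop 1).drop 1).drop 1).drop 1).drop 1).drop 1).drop 1).take 1) (Ag Fi24.A Fi23.A 19 (ivl 0 31671) 1 act1_ws 0) = true := by decide +kernel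

theorem act1_ag_66 : allL (((((((((((((((((((((((((((((((((((((((((((((((((((((((((((((((((((((agList 0 10 19)).drop 2).drop 2).drop 2).drop 2).drop 2).drop 2).drop 2).drop 2).drop 2).drop 2).drop 2).drop 2).drop 2).drop 2).drop 2).drop 2).drop 2).drop 2).drop 2).drop 2).drop 2).drop 2).drop 2).drop 2).drop 2).drop 2).drop 2).drop 2).drop 2).drop 2).drop 2).drop 2).drop 2).drop 2).drop 2).drop 2).drop 2).drop 2).drop 2).drop 2).drop 2).drop 2).drop 2).drop 2).drop 2).drop 2).drop 2).drop 2).drop 2).drop 2).drop 2).drop 2).drop 2).drop 2).drop 2).drop 2).drop 2).drop 1).drop 1).drop 1).drop 1).drop 1).drop 1).drop 1).drop 1).drop 1).take 1) (Ag Fi24.A Fi23.A 19 (ivl 0 31671) 1 act1_ws 0) = true := by decide +kernel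

theorem act1_ag_67 : allL ((((((((((((((((((((((((((((((((((((((((((((((((((((((((((((((((((((((agList 0 10 19)).drop 2).drop 2).drop 2).drop 2).drop 2).drop 2).drop 2).drop 2).drop 2).drop 2).drop 2).drop 2).drop 2).drop 2).drop 2).drop 2).drop 2).drop 2).drop 2).drop 2).drop 2).drop 2).drop 2).drop 2).drop 2).drop 2).drop 2).drop 2).drop 2).drop 2).drop 2).drop 2).drop 2).drop 2).drop 2).drop 2).drop 2).drop 2).drop 2).drop 2).drop 2).drop 2).drop 2).drop 2).drop 2).drop 2).drop 2).drop 2).drop 2).drop 2).drop 2).drop 2).drop 2).drop 2).drop 2).drop 2).drop 2).drop 1).drop 1).drop 1).drop 1).drop 1).drop 1).drop 1).drop 1).drop 1).drop 1).take 1) (Ag Fi24.A Fi23.A 19 (ivl 0 31671) 1 act1_ws 0) = true := by decide +kernel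

theorem act1_ag_68 : allL (((((((((((((((((((((((((((((((((((((((((((((((((((((((((((((((((((((((agList 0 10 19)).drop 2).drop 2).drop 2).drop 2).drop 2).drop 2).drop 2).drop 2).drop 2).drop 2).drop 2).drop 2).drop 2).drop 2).drop 2).drop 2).drop 2).drop 2).drop 2).drop 2).drop 2).drop 2).drop 2).drop 2).drop 2).drop 2).drop 2).drop 2).drop 2).drop 2).drop 2).drop 2).drop 2).drop 2).drop 2).drop 2).drop 2).drop 2).drop 2).drop 2).drop 2).drop 2).drop 2).drop 2).drop 2).drop 2).drop 2).drop 2).drop 2).drop 2).drop 2).drop 2).drop 2).drop 2).drop 2).drop 2).drop 2).drop 1).drop 1).drop 1).drop 1).drop 1).drop 1).drop 1).drop 1).drop 1).drop 1).drop 1).take 1) (Ag Fi24.A Fi23.A 19 (ivl 0 31671) 1 act1_ws 0) = true := by decide +kernel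

theorem act1_ag_69 : allL ((((((((((((((((((((((((((((((((((((((((((((((((((((((((((((((((((((((((agList 0 10 19)).drop 2).drop 2).drop 2).drop 2).drop 2).drop 2).drop 2).drop 2).drop 2).drop 2).drop 2).drop 2).drop 2).drop 2).drop 2).drop 2).drop 2).drop 2).drop 2).drop 2).drop 2).drop 2).drop 2).drop 2).drop 2).drop 2).drop 2).drop 2).drop 2).drop 2).drop 2).drop 2).drop 2).drop 2).drop 2).drop 2).drop 2).drop 2).drop 2).drop 2).drop 2).drop 2).drop 2).drop 2).drop 2).drop 2).drop 2).drop 2).drop 2).drop 2).drop 2).drop 2).drop 2).drop 2).drop 2).drop 2).drop 2).drop 1).drop 1).drop 1).drop 1).drop 1).drop 1).drop 1).drop 1).drop 1).drop 1).drop 1).drop 1).take 1) (Ag Fi24.A Fi23.A 19 (ivl 0 31671) 1 act1_ws 0) = true := by decide +kernel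

theorem act1_ag_70 : allL (((((((((((((((((((((((((((((((((((((((((((((((((((((((((((((((((((((((((agList 0 10 19)).drop 2).drop 2).drop 2).drop 2).drop 2).drop 2).drop 2).drop 2).drop 2).drop 2).drop 2).drop 2).drop 2).drop 2).drop 2).drop 2).drop 2).drop 2).drop 2).drop 2).drop 2).drop 2).drop 2).drop 2).drop 2).drop 2).drop 2).drop 2).drop 2).drop 2).drop 2).drop 2).drop 2).drop 2).drop 2).drop 2).drop 2).drop 2).drop 2).drop 2).drop 2).drop 2).drop 2).drop 2).drop 2).drop 2).drop 2).drop 2).drop 2).drop 2).drop 2).drop 2).drop 2).drop 2).drop 2).drop 2).drop 2).drop 1).drop 1).drop 1).drop 1).drop 1).drop 1).drop 1).drop 1).drop 1).drop 1).drop 1).drop 1).drop 1).take 1) (Ag Fi24.A Fi23.A 19 (ivl 0 31671) 1 act1_ws 0) = true := by decide +kernel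

theorem act1_ag_71 : allL ((((((((((((((((((((((((((((((((((((((((((((((((((((((((((((((((((((((((((agList 0 10 19)).drop 2).drop 2).drop 2).drop 2).drop 2).drop 2).drop 2).drop 2).drop 2).drop 2).drop 2).drop 2).drop 2).drop 2).drop 2).drop 2).drop 2).drop 2).drop 2).drop 2).drop 2).drop 2).drop 2).drop 2).drop 2).drop 2).drop 2).drop 2).drop 2).drop 2).drop 2).drop 2).drop 2).drop 2).drop 2).drop 2).drop 2).drop 2).drop 2).drop 2).drop 2).drop 2).drop 2).drop 2).drop 2).drop 2).drop 2).drop 2).drop 2).drop 2).drop 2).drop 2).drop 2).drop 2).drop 2).drop 2).drop 2).drop 1).drop 1).drop 1).drop 1).drop 1).drop 1).drop 1).drop 1).drop 1).drop 1).drop 1).drop 1).drop 1).drop 1).take 1) (Ag Fi24.A Fi23.A 19 (ivl 0 31671) 1 act1_ws 0) = true := by decide +kernel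

theorem act1_ag_72 : allL (((((((((((((((((((((((((((((((((((((((((((((((((((((((((((((((((((((((((((agList 0 10 19)).drop 2).drop 2).drop 2).drop 2).drop 2).drop 2).drop 2).drop 2).drop 2).drop 2).drop 2).drop 2).drop 2).drop 2).drop 2).drop 2).drop 2).drop 2).drop 2).drop 2).drop 2).drop 2).drop 2).drop 2).drop 2).drop 2).drop 2).drop 2).drop 2).drop 2).drop 2).drop 2).drop 2).drop 2).drop 2).drop 2).drop 2).drop 2).drop 2).drop 2).drop 2).drop 2).drop 2).drop 2).drop 2).drop 2).drop 2).drop 2).drop 2).drop 2).drop 2).drop 2).drop 2).drop 2).drop 2).drop 2).drop 2).drop 1).drop 1).drop 1).drop 1).drop 1).drop 1).drop 1).drop 1).drop 1).drop 1).drop 1).drop 1).drop 1).drop 1).drop 1).take 1) (Ag Fi24.A Fi23.A 19 (ivl 0 31671) 1 act1_ws 0) = true := by decide +kernel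

theorem act1_ag_73 : allL ((((((((((((((((((((((((((((((((((((((((((((((((((((((((((((((((((((((((((((agList 0 10 19)).drop 2).drop 2).drop 2).drop 2).drop 2).drop 2).drop 2).drop 2).drop 2).drop 2).drop 2).drop 2).drop 2).drop 2).drop 2).drop 2).drop 2).drop 2).drop 2).drop 2).drop 2).drop 2).drop 2).drop 2).drop 2).drop 2).drop 2).drop 2).drop 2).drop 2).drop 2).drop 2).drop 2).drop 2).drop 2).drop 2).drop 2).drop 2).drop 2).drop 2).drop 2).drop 2).drop 2).drop 2).drop 2).drop 2).drop 2).drop 2).drop 2).drop 2).drop 2).drop 2).drop 2).drop 2).drop 2).drop 2).drop 2).drop 1).drop 1).drop 1).drop 1).drop 1).drop 1).drop 1).drop 1).drop 1).drop 1).drop 1).drop 1).drop 1).drop 1).drop 1).drop 1).take 1) (Ag Fi24.A Fi23.A 19 (ivl 0 31671) 1 act1_ws 0) = true := by decide +kernel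

theorem act1_ag_74 : allL (((((((((((((((((((((((((((((((((((((((((((((((((((((((((((((((((((((((((((((agList 0 10 19)).drop 2).drop 2).drop 2).drop 2).drop 2).drop 2).drop 2).drop 2).drop 2).drop 2).drop 2).drop 2).drop 2).drop 2).drop 2).drop 2).drop 2).drop 2).drop 2).drop 2).drop 2).drop 2).drop 2).drop 2).drop 2).drop 2).drop 2).drop 2).drop 2).drop 2).drop 2).drop 2).drop 2).drop 2).drop 2).drop 2).drop 2).drop 2).drop 2).drop 2).drop 2).drop 2).drop 2).drop 2).drop 2).drop 2).drop 2).drop 2).drop 2).drop 2).drop 2).drop 2).drop 2).drop 2).drop 2).drop 2).drop 2).drop 1).drop 1).drop 1).drop 1).drop 1).drop 1).drop 1).drop 1).drop 1).drop 1).drop 1).drop 1).drop 1).drop 1).drop 1).drop 1).drop 1).take 1) (Ag Fi24.A Fi23.A 19 (ivl 0 31671) 1 act1_ws 0) = true := by decide +kernel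

theorem act1_ag_75 : allL ((((((((((((((((((((((((((((((((((((((((((((((((((((((((((((((((((((((((((((((agList 0 10 19)).drop 2).drop 2).drop 2).drop 2).drop 2).drop 2).drop 2).drop 2).drop 2).drop 2).drop 2).drop 2).drop 2).drop 2).drop 2).drop 2).drop 2).drop 2).drop 2).drop 2).drop 2).drop 2).drop 2).drop 2).drop 2).drop 2).drop 2).drop 2).drop 2).drop 2).drop 2).drop 2).drop 2).drop 2).drop 2).drop 2).drop 2).drop 2).drop 2).drop 2).drop 2).drop 2).drop 2).drop 2).drop 2).drop 2).drop 2).drop 2).drop 2).drop 2).drop 2).drop 2).drop 2).drop 2).drop 2).drop 2).drop 2).drop 1).drop 1).drop 1).drop 1).drop 1).drop 1).drop 1).drop 1).drop 1).drop 1).drop 1).drop 1).drop 1).drop 1).drop 1).drop 1).drop 1).drop 1).take 2) (Ag Fi24.A Fi23.A 19 (ivl 0 31671) 1 act1_ws 0) = true := by decide +kernel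

theorem act1_ag_76 : allL (((((((((((((((((((((((((((((((((((((((((((((((((((((((((((((((((((((((((((((((agList 0 10 19)).drop 2).drop 2).drop 2).drop 2).drop 2).drop 2).drop 2).drop 2).drop 2).drop 2).drop 2).drop 2).drop 2).drop 2).drop 2).drop 2).drop 2).drop 2).drop 2).drop 2).drop 2).drop 2).drop 2).drop 2).drop 2).drop 2).drop 2).drop 2).drop 2).drop 2).drop 2).drop 2).drop 2).drop 2).drop 2).drop 2).drop 2).drop 2).drop 2).drop 2).drop 2).drop 2).drop 2).drop 2).drop 2).drop 2).drop 2).drop 2).drop 2).drop 2).drop 2).drop 2).drop 2).drop 2).drop 2).drop 2).drop 2).drop 1).drop 1).drop 1).drop 1).drop 1).drop 1).drop 1).drop 1).drop 1).drop 1).drop 1).drop 1).drop 1).drop 1).drop 1).drop 1).drop 1).drop 1).drop 2).take 2) (Ag Fi24.A Fi23.A 19 (ivl 0 31671) 1 act1_ws 0) = true := by decide +kernel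

theorem act1_ag_77 : allL ((((((((((((((((((((((((((((((((((((((((((((((((((((((((((((((((((((((((((((((((agList 0 10 19)).drop 2).drop 2).drop 2).drop 2).drop 2).drop 2).drop 2).drop 2).drop 2).drop 2).drop 2).drop 2).drop 2).drop 2).drop 2).drop 2).drop 2).drop 2).drop 2).drop 2).drop 2).drop 2).drop 2).drop 2).drop 2).drop 2).drop 2).drop 2).drop 2).drop 2).drop 2).drop 2).drop 2).drop 2).drop 2).drop 2).drop 2).drop 2).drop 2).drop 2).drop 2).drop 2).drop 2).drop 2).drop 2).drop 2).drop 2).drop 2).drop 2).drop 2).drop 2).drop 2).drop 2).drop 2).drop 2).drop 2).drop 2).drop 1).drop 1).drop 1).drop 1).drop 1).drop 1).drop 1).drop 1).drop 1).drop 1).drop 1).drop 1).drop 1).drop 1).drop 1).drop 1).drop 1).drop 1).drop 2).drop 2).take 2) (Ag Fi24.A Fi23.A 19 (ivl 0 31671) 1 act1_ws 0) = true := by decide +kernel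

theorem act1_ag_78 : allL (((((((((((((((((((((((((((((((((((((((((((((((((((((((((((((((((((((((((((((((((agList 0 10 19)).drop 2).drop 2).drop 2).drop 2).drop 2).drop 2).drop 2).drop 2).drop 2).drop 2).drop 2).drop 2).drop 2).drop 2).drop 2).drop 2).drop 2).drop 2).drop 2).drop 2).drop 2).drop 2).drop 2).drop 2).drop 2).drop 2).drop 2).drop 2).drop 2).drop 2).drop 2).drop 2).drop 2).drop 2).drop 2).drop 2).drop 2).drop 2).drop 2).drop 2).drop 2).drop 2).drop 2).drop 2).drop 2).drop 2).drop 2).drop 2).drop 2).drop 2).drop 2).drop 2).drop 2).drop 2).drop 2).drop 2).drop 2).drop 1).drop 1).drop 1).drop 1).drop 1).drop 1).drop 1).drop 1).drop 1).drop 1).drop 1).drop 1).drop 1).drop 1).drop 1).drop 1).drop 1).drop 1).drop 2).drop 2).drop 2).take 2) (Ag Fi24.A Fi23.A 19 (ivl 0 31671) 1 act1_ws 0) = true := by decide +kernel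

theorem act1_ag_79 : allL ((((((((((((((((((((((((((((((((((((((((((((((((((((((((((((((((((((((((((((((((((agList 0 10 19)).drop 2).drop 2).drop 2).drop 2).drop 2).drop 2).drop 2).drop 2).drop 2).drop 2).drop 2).drop 2).drop 2).drop 2).drop 2).drop 2).drop 2).drop 2).drop 2).drop 2).drop 2).drop 2).drop 2).drop 2).drop 2).drop 2).drop 2).drop 2).drop 2).drop 2).drop 2).drop 2).drop 2).drop 2).drop 2).drop 2).drop 2).drop 2).drop 2).drop 2).drop 2).drop 2).drop 2).drop 2).drop 2).drop 2).drop 2).drop 2).drop 2).drop 2).drop 2).drop 2).drop 2).drop 2).drop 2).drop 2).drop 2).drop 1).drop 1).drop 1).drop 1).drop 1).drop 1).drop 1).drop 1).drop 1).drop 1).drop 1).drop 1).drop 1).drop 1).drop 1).drop 1).drop 1).drop 1).drop 2).drop 2).drop 2).drop 2).take 2) (Ag Fi24.A Fi23.A 19 (ivl 0 31671) 1 act1_ws 0) = true := by decide +kernel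

theorem act1_ag_80 : allL (((((((((((((((((((((((((((((((((((((((((((((((((((((((((((((((((((((((((((((((((((agList 0 10 19)).drop 2).drop 2).drop 2).drop 2).drop 2).drop 2).drop 2).drop 2).drop 2).drop 2).drop 2).drop 2).drop 2).drop 2).drop 2).drop 2).drop 2).drop 2).drop 2).drop 2).drop 2).drop 2).drop 2).drop 2).drop 2).drop 2).drop 2).drop 2).drop 2).drop 2).drop 2).drop 2).drop 2).drop 2).drop 2).drop 2).drop 2).drop 2).drop 2).drop 2).drop 2).drop 2).drop 2).drop 2).drop 2).drop 2).drop 2).drop 2).drop 2).drop 2).drop 2).drop 2).drop 2).drop 2).drop 2).drop 2).drop 2).drop 1).drop 1).drop 1).drop 1).drop 1).drop 1).drop 1).drop 1).drop 1).drop 1).drop 1).drop 1).drop 1).drop 1).drop 1).drop 1).drop 1).drop 1).drop 2).drop 2).drop 2).drop 2).drop 2).take 2) (Ag Fi24.A Fi23.A 19 (ivl 0 31671) 1 act1_ws 0) = true := by decide +kernel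

theorem act1_ag_81 : allL ((((((((((((((((((((((((((((((((((((((((((((((((((((((((((((((((((((((((((((((((((((agList 0 10 19)).drop 2).drop 2).drop 2).drop 2).drop 2).drop 2).drop 2).drop 2).drop 2).drop 2).drop 2).drop 2).drop 2).drop 2).drop 2).drop 2).drop 2).drop 2).drop 2).drop 2).drop 2).drop 2).drop 2).drop 2).drop 2).drop 2).drop 2).drop 2).drop 2).drop 2).drop 2).drop 2).drop 2).drop 2).drop 2).drop 2).drop 2).drop 2).drop 2).drop 2).drop 2).drop 2).drop 2).drop 2).drop 2).drop 2).drop 2).drop 2).drop 2).drop 2).drop 2).drop 2).drop 2).drop 2).drop 2).drop 2).drop 2).drop 1).drop 1).drop 1).drop 1).drop 1).drop 1).drop 1).drop 1).drop 1).drop 1).drop 1).drop 1).drop 1).drop 1).drop 1).drop 1).drop 1).drop 1).drop 2).drop 2).drop 2).drop 2).drop 2).drop 2).take 2) (Ag Fi24.A Fi23.A 19 (ivl 0 31671) 1 act1_ws 0) = true := by decide +kernel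

theorem act1_ag_82 : allL (((((((((((((((((((((((((((((((((((((((((((((((((((((((((((((((((((((((((((((((((((((agList 0 10 19)).drop 2).drop 2).drop 2).drop 2).drop 2).drop 2).drop 2).drop 2).drop 2).drop 2).drop 2).drop 2).drop 2).drop 2).drop 2).drop 2).drop 2).drop 2).drop 2).drop 2).drop 2).drop 2).drop 2).drop 2).drop 2).drop 2).drop 2).drop 2).drop 2).drop 2).drop 2).drop 2).drop 2).drop 2).drop 2).drop 2).drop 2).drop 2).drop 2).drop 2).drop 2).drop 2).drop 2).drop 2).drop 2).drop 2).drop 2).drop 2).drop 2).drop 2).drop 2).drop 2).drop 2).drop 2).drop 2).drop 2).drop 2).drop 1).drop 1).drop 1).drop 1).drop 1).drop 1).drop 1).drop 1).drop 1).drop 1).drop 1).drop 1).drop 1).drop 1).drop 1).drop 1).drop 1).drop 1).drop 2).drop 2).drop 2).drop 2).drop 2).drop 2).drop 2).take 2) (Ag Fi24.A Fi23.A 19 (ivl 0 31671) 1 act1_ws 0) = true := by decide +kernel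

theorem act1_ag_83 : allL ((((((((((((((((((((((((((((((((((((((((((((((((((((((((((((((((((((((((((((((((((((((agList 0 10 19)).drop 2).drop 2).drop 2).drop 2).drop 2).drop 2).drop 2).drop 2).drop 2).drop 2).drop 2).drop 2).drop 2).drop 2).drop 2).drop 2).drop 2).drop 2).drop 2).drop 2).drop 2).drop 2).drop 2).drop 2).drop 2).drop 2).drop 2).drop 2).drop 2).drop 2).drop 2).drop 2).drop 2).drop 2).drop 2).drop 2).drop 2).drop 2).drop 2).drop 2).drop 2).drop 2).drop 2).drop 2).drop 2).drop 2).drop 2).drop 2).drop 2).drop 2).drop 2).drop 2).drop 2).drop 2).drop 2).drop 2).drop 2).drop 1).drop 1).drop 1).drop 1).drop 1).drop 1).drop 1).drop 1).drop 1).drop 1).drop 1).drop 1).drop 1).drop 1).drop 1).drop 1).drop 1).drop 1).drop 2).drop 2).drop 2).drop 2).drop 2).drop 2).drop 2).drop 2).take 2) (Ag Fi24.A Fi23.A 19 (ivl 0 31671) 1 act1_ws 0) = true := by decide +kernel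

theorem act1_ag_84 : allL (((((((((((((((((((((((((((((((((((((((((((((((((((((((((((((((((((((((((((((((((((((((agList 0 10 19)).drop 2).drop 2).drop 2).drop 2).drop 2).drop 2).drop 2).drop 2).drop 2).drop 2).drop 2).drop 2).drop 2).drop 2).drop 2).drop 2).drop 2).drop 2).drop 2).drop 2).drop 2).drop 2).drop 2).drop 2).drop 2).drop 2).drop 2).drop 2).drop 2).drop 2).drop 2).drop 2).drop 2).drop 2).drop 2).drop 2).drop 2).drop 2).drop 2).drop 2).drop 2).drop 2).drop 2).drop 2).drop 2).drop 2).drop 2).drop 2).drop 2).drop 2).drop 2).drop 2).drop 2).drop 2).drop 2).drop 2).drop 2).drop 1).drop 1).drop 1).drop 1).drop 1).drop 1).drop 1).drop 1).drop 1).drop 1).drop 1).drop 1).drop 1).drop 1).drop 1).drop 1).drop 1).drop 1).drop 2).drop 2).drop 2).drop 2).drop 2).drop 2).drop 2).drop 2).drop 2).take 2) (Ag Fi24.A Fi23.A 19 (ivl 0 31671) 1 act1_ws 0) = true := by decide +kernel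

theorem act1_ag_85 : allL ((((((((((((((((((((((((((((((((((((((((((((((((((((((((((((((((((((((((((((((((((((((((agList 0 10 19)).drop 2).drop 2).drop 2).drop 2).drop 2).drop 2).drop 2).drop 2).drop 2).drop 2).drop 2).drop 2).drop 2).drop 2).drop 2).drop 2).drop 2).drop 2).drop 2).drop 2).drop 2).drop 2).drop 2).drop 2).drop 2).drop 2).drop 2).drop 2).drop 2).drop 2).drop 2).drop 2).drop 2).drop 2).drop 2).drop 2).drop 2).drop 2).drop 2).drop 2).drop 2).drop 2).drop 2).drop 2).drop 2).drop 2).drop 2).drop 2).drop 2).drop 2).drop 2).drop 2).drop 2).drop 2).drop 2).drop 2).drop 2).drop 1).drop 1).drop 1).drop 1).drop 1).drop 1).drop 1).drop 1).drop 1).drop 1).drop 1).drop 1).drop 1).drop 1).drop 1).drop 1).drop 1).drop 1).drop 2).drop 2).drop 2).drop 2).drop 2).drop 2).drop 2).drop 2).drop 2).drop 2).take 2) (Ag Fi24.A Fi23.A 19 (ivl 0 31671) 1 act1_ws 0) = true := by decide +kernel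

theorem act1_ag_86 : allL (((((((((((((((((((((((((((((((((((((((((((((((((((((((((((((((((((((((((((((((((((((((((agList 0 10 19)).drop 2).drop 2).drop 2).drop 2).drop 2).drop 2).drop 2).drop 2).drop 2).drop 2).drop 2).drop 2).drop 2).drop 2).drop 2).drop 2).drop 2).drop 2).drop 2).drop 2).drop 2).drop 2).drop 2).drop 2).drop 2).drop 2).drop 2).drop 2).drop 2).drop 2).drop 2).drop 2).drop 2).drop 2).drop 2).drop 2).drop 2).drop 2).drop 2).drop 2).drop 2).drop 2).drop 2).drop 2).drop 2).drop 2).drop 2).drop 2).drop 2).drop 2).drop 2).drop 2).drop 2).drop 2).drop 2).drop 2).drop 2).drop 1).drop 1).drop 1).drop 1).drop 1).drop 1).drop 1).drop 1).drop 1).drop 1).drop 1).drop 1).drop 1).drop 1).drop 1).drop 1).drop 1).drop 1).drop 2).drop 2).drop 2).drop 2).drop 2).drop 2).drop 2).drop 2).drop 2).drop 2).drop 2).take 2) (Ag Fi24.A Fi23.A 19 (ivl 0 31671) 1 act1_ws 0) = true := by decide +kernel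

theorem act1_ag_87 : allL ((((((((((((((((((((((((((((((((((((((((((((((((((((((((((((((((((((((((((((((((((((((((((agList 0 10 19)).drop 2).drop 2).drop 2).drop 2).drop 2).drop 2).drop 2).drop 2).drop 2).drop 2).drop 2).drop 2).drop 2).drop 2).drop 2).drop 2).drop 2).drop 2).drop 2).drop 2).drop 2).drop 2).drop 2).drop 2).drop 2).drop 2).drop 2).drop 2).drop 2).drop 2).drop 2).drop 2).drop 2).drop 2).drop 2).drop 2).drop 2).drop 2).drop 2).drop 2).drop 2).drop 2).drop 2).drop 2).drop 2).drop 2).drop 2).drop 2).drop 2).drop 2).drop 2).drop 2).drop 2).drop 2).drop 2).drop 2).drop 2).drop 1).drop 1).drop 1).drop 1).drop 1).drop 1).drop 1).drop 1).drop 1).drop 1).drop 1).drop 1).drop 1).drop 1).drop 1).drop 1).drop 1).drop 1).drop 2).drop 2).drop 2).drop 2).drop 2).drop 2).drop 2).drop 2).drop 2).drop 2).drop 2).drop 2).take 2) (Ag Fi24.A Fi23.A 19 (ivl 0 31671) 1 act1_ws 0) = true := by decide +kernel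

theorem act1_ag_88 : allL (((((((((((((((((((((((((((((((((((((((((((((((((((((((((((((((((((((((((((((((((((((((((((agList 0 10 19)).drop 2).drop 2).drop 2).drop 2).drop 2).drop 2).drop 2).drop 2).drop 2).drop 2).drop 2).drop 2).drop 2).drop 2).drop 2).drop 2).drop 2).drop 2).drop 2).drop 2).drop 2).drop 2).drop 2).drop 2).drop 2).drop 2).drop 2).drop 2).drop 2).drop 2).drop 2).drop 2).drop 2).drop 2).drop 2).drop 2).drop 2).drop 2).drop 2).drop 2).drop 2).drop 2).drop 2).drop 2).drop 2).drop 2).drop 2).drop 2).drop 2).drop 2).drop 2).drop 2).drop 2).drop 2).drop 2).drop 2).drop 2).drop 1).drop 1).drop 1).drop 1).drop 1).drop 1).drop 1).drop 1).drop 1).drop 1).drop 1).drop 1).drop 1).drop 1).drop 1).drop 1).drop 1).drop 1).drop 2).drop 2).drop 2).drop 2).drop 2).drop 2).drop 2).drop 2).drop 2).drop 2).drop 2).drop 2).drop 2).take 2) (Ag Fi24.A Fi23.A 19 (ivl 0 31671) 1 act1_ws 0) = true := by decide +kernel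

theorem act1_ag_89 : allL ((((((((((((((((((((((((((((((((((((((((((((((((((((((((((((((((((((((((((((((((((((((((((((agList 0 10 19)).drop 2).drop 2).drop 2).drop 2).drop 2).drop 2).drop 2).drop 2).drop 2).drop 2).drop 2).drop 2).drop 2).drop 2).drop 2).drop 2).drop 2).drop 2).drop 2).drop 2).drop 2).drop 2).drop 2).drop 2).drop 2).drop 2).drop 2).drop 2).drop 2).drop 2).drop 2).drop 2).drop 2).drop 2).drop 2).drop 2).drop 2).drop 2).drop 2).drop 2).drop 2).drop 2).drop 2).drop 2).drop 2).drop 2).drop 2).drop 2).drop 2).drop 2).drop 2).drop 2).drop 2).drop 2).drop 2).drop 2).drop 2).drop 1).drop 1).drop 1).drop 1).drop 1).drop 1).drop 1).drop 1).drop 1).drop 1).drop 1).drop 1).drop 1).drop 1).drop 1).drop 1).drop 1).drop 1).drop 2).drop 2).drop 2).drop 2).drop 2).drop 2).drop 2).drop 2).drop 2).drop 2).drop 2).drop 2).drop 2).drop 2).take 2) (Ag Fi24.A Fi23.A 19 (ivl 0 31671) 1 act1_ws 0) = true := by decide +kernel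

theorem act1_ag_90 : allL (((((((((((((((((((((((((((((((((((((((((((((((((((((((((((((((((((((((((((((((((((((((((((((agList 0 10 19)).drop 2).drop 2).drop 2).drop 2).drop 2).drop 2).drop 2).drop 2).drop 2).drop 2).drop 2).drop 2).drop 2).drop 2).drop 2).drop 2).drop 2).drop 2).drop 2).drop 2).drop 2).drop 2).drop 2).drop 2).drop 2).drop 2).drop 2).drop 2).drop 2).drop 2).drop 2).drop 2).drop 2).drop 2).drop 2).drop 2).drop 2).drop 2).drop 2).drop 2).drop 2).drop 2).drop 2).drop 2).drop 2).drop 2).drop 2).drop 2).drop 2).drop 2).drop 2).drop 2).drop 2).drop 2).drop 2).drop 2).drop 2).drop 1).drop 1).drop 1).drop 1).drop 1).drop 1).drop 1).drop 1).drop 1).drop 1).drop 1).drop 1).drop 1).drop 1).drop 1).drop 1).drop 1).drop 1).drop 2).drop 2).drop 2).drop 2).drop 2).drop 2).drop 2).drop 2).drop 2).drop 2).drop 2).drop 2).drop 2).drop 2).drop 2).take 2) (Ag Fi24.A Fi23.A 19 (ivl 0 31671) 1 act1_ws 0) = true := by decide +kernel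

theorem act1_ag_91 : allL ((((((((((((((((((((((((((((((((((((((((((((((((((((((((((((((((((((((((((((((((((((((((((((((agList 0 10 19)).drop 2).drop 2).drop 2).drop 2).drop 2).drop 2).drop 2).drop 2).drop 2).drop 2).drop 2).drop 2).drop 2).drop 2).drop 2).drop 2).drop 2).drop 2).drop 2).drop 2).drop 2).drop 2).drop 2).drop 2).drop 2).drop 2).drop 2).drop 2).drop 2).drop 2).drop 2).drop 2).drop 2).drop 2).drop 2).drop 2).drop 2).drop 2).drop 2).drop 2).drop 2).drop 2).drop 2).drop 2).drop 2).drop 2).drop 2).drop 2).drop 2).drop 2).drop 2).drop 2).drop 2).drop 2).drop 2).drop 2).drop 2).drop 1).drop 1).drop 1).drop 1).drop 1).drop 1).drop 1).drop 1).drop 1).drop 1).drop 1).drop 1).drop 1).drop 1).drop 1).drop 1).drop 1).drop 1).drop 2).drop 2).drop 2).drop 2).drop 2).drop 2).drop 2).drop 2).drop 2).drop 2).drop 2).drop 2).drop 2).drop 2).drop 2).drop 2).take 2) (Ag Fi24.A Fi23.A 19 (ivl 0 31671) 1 act1_ws 0) = true := by decide +kernel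

theorem act1_ag_92 : allL (((((((((((((((((((((((((((((((((((((((((((((((((((((((((((((((((((((((((((((((((((((((((((((((agList 0 10 19)).drop 2).drop 2).drop 2).drop 2).drop 2).drop 2).drop 2).drop 2).drop 2).drop 2).drop 2).drop 2).drop 2).drop 2).drop 2).drop 2).drop 2).drop 2).drop 2).drop 2).drop 2).drop 2).drop 2).drop 2).drop 2).drop 2).drop 2).drop 2).drop 2).drop 2).drop 2).drop 2).drop 2).drop 2).drop 2).drop 2).drop 2).drop 2).drop 2).drop 2).drop 2).drop 2).drop 2).drop 2).drop 2).drop 2).drop 2).drop 2).drop 2).drop 2).drop 2).drop 2).drop 2).drop 2).drop 2).drop 2).drop 2).drop 1).drop 1).drop 1).drop 1).drop 1).drop 1).drop 1).drop 1).drop 1).drop 1).drop 1).drop 1).drop 1).drop 1).drop 1).drop 1).drop 1).drop 1).drop 2).drop 2).drop 2).drop 2).drop 2).drop 2).drop 2).drop 2).drop 2).drop 2).drop 2).drop 2).drop 2).drop 2).drop 2).drop 2).drop 2).take 2) (Ag Fi24.A Fi23.A 19 (ivl 0 31671) 1 act1_ws 0) = true := by decide +kernel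

theorem act1_ag_93 : allL ((((((((((((((((((((((((((((((((((((((((((((((((((((((((((((((((((((((((((((((((((((((((((((((((agList 0 10 19)).drop 2).drop 2).drop 2).drop 2).drop 2).drop 2).drop 2).drop 2).drop 2).drop 2).drop 2).drop 2).drop 2).drop 2).drop 2).drop 2).drop 2).drop 2).drop 2).drop 2).drop 2).drop 2).drop 2).drop 2).drop 2).drop 2).drop 2).drop 2).drop 2).drop 2).drop 2).drop 2).drop 2).drop 2).drop 2).drop 2).drop 2).drop 2).drop 2).drop 2).drop 2).drop 2).drop 2).drop 2).drop 2).drop 2).drop 2).drop 2).drop 2).drop 2).drop 2).drop 2).drop 2).drop 2).drop 2).drop 2).drop 2).drop 1).drop 1).drop 1).drop 1).drop 1).drop 1).drop 1).drop 1).drop 1).drop 1).drop 1).drop 1).drop 1).drop 1).drop 1).drop 1).drop 1).drop 1).drop 2).drop 2).drop 2).drop 2).drop 2).drop 2).drop 2).drop 2).drop 2).drop 2).drop 2).drop 2).drop 2).drop 2).drop 2).drop 2).drop 2).drop 2).take 2) (Ag Fi24.A Fi23.A 19 (ivl 0 31671) 1 act1_ws 0) = true := by decide +kernel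

theorem act1_ag_94 : allL (((((((((((((((((((((((((((((((((((((((((((((((((((((((((((((((((((((((((((((((((((((((((((((((((agList 0 10 19)).drop 2).drop 2).drop 2).drop 2).drop 2).drop 2).drop 2).drop 2).drop 2).drop 2).drop 2).drop 2).drop 2).drop 2).drop 2).drop 2).drop 2).drop 2).drop 2).drop 2).drop 2).drop 2).drop 2).drop 2).drop 2).drop 2).drop 2).drop 2).drop 2).drop 2).drop 2).drop 2).drop 2).drop 2).drop 2).drop 2).drop 2).drop 2).drop 2).drop 2).drop 2).drop 2).drop 2).drop 2).drop 2).drop 2).drop 2).drop 2).drop 2).drop 2).drop 2).drop 2).drop 2).drop 2).drop 2).drop 2).drop 2).drop 1).drop 1).drop 1).drop 1).drop 1).drop 1).drop 1).drop 1).drop 1).drop 1).drop 1).drop 1).drop 1).drop 1).drop 1).drop 1).drop 1).drop 1).drop 2).drop 2).drop 2).drop 2).drop 2).drop 2).drop 2).drop 2).drop 2).drop 2).drop 2).drop 2).drop 2).drop 2).drop 2).drop 2).drop 2).drop 2).drop 2).take 2) (Ag Fi24.A Fi23.A 19 (ivl 0 31671) 1 act1_ws 0) = true := by decide +kernel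

theorem act1_ag_95 : allL ((((((((((((((((((((((((((((((((((((((((((((((((((((((((((((((((((((((((((((((((((((((((((((((((((agList 0 10 19)).drop 2).drop 2).drop 2).drop 2).drop 2).drop 2).drop 2).drop 2).drop 2).drop 2).drop 2).drop 2).drop 2).drop 2).drop 2).drop 2).drop 2).drop 2).drop 2).drop 2).drop 2).drop 2).drop 2).drop 2).drop 2).drop 2).drop 2).drop 2).drop 2).drop 2).drop 2).drop 2).drop 2).drop 2).drop 2).drop 2).drop 2).drop 2).drop 2).drop 2).drop 2).drop 2).drop 2).drop 2).drop 2).drop 2).drop 2).drop 2).drop 2).drop 2).drop 2).drop 2).drop 2).drop 2).drop 2).drop 2).drop 2).drop 1).drop 1).drop 1).drop 1).drop 1).drop 1).drop 1).drop 1).drop 1).drop 1).drop 1).drop 1).drop 1).drop 1).drop 1).drop 1).drop 1).drop 1).drop 2).drop 2).drop 2).drop 2).drop 2).drop 2).drop 2).drop 2).drop 2).drop 2).drop 2).drop 2).drop 2).drop 2).drop 2).drop 2).drop 2).drop 2).drop 2).drop 2).take 2) (Ag Fi24.A Fi23.A 19 (ivl 0 31671) 1 act1_ws 0) = true := by decide +kernel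

theorem act1_ag_96 : allL (((((((((((((((((((((((((((((((((((((((((((((((((((((((((((((((((((((((((((((((((((((((((((((((((((agList 0 10 19)).drop 2).drop 2).drop 2).drop 2).drop 2).drop 2).drop 2).drop 2).drop 2).drop 2).drop 2).drop 2).drop 2).drop 2).drop 2).drop 2).drop 2).drop 2).drop 2).drop 2).drop 2).drop 2).drop 2).drop 2).drop 2).drop 2).drop 2).drop 2).drop 2).drop 2).drop 2).drop 2).drop 2).drop 2).drop 2).drop 2).drop 2).drop 2).drop 2).drop 2).drop 2).drop 2).drop 2).drop 2).drop 2).drop 2).drop 2).drop 2).drop 2).drop 2).drop 2).drop 2).drop 2).drop 2).drop 2).drop 2).drop 2).drop 1).drop 1).drop 1).drop 1).drop 1).drop 1).drop 1).drop 1).drop 1).drop 1).drop 1).drop 1).drop 1).drop 1).drop 1).drop 1).drop 1).drop 1).drop 2).drop 2).drop 2).drop 2).drop 2).drop 2).drop 2).drop 2).drop 2).drop 2).drop 2).drop 2).drop 2).drop 2).drop 2).drop 2).drop 2).drop 2).drop 2).drop 2).drop 2).take 2) (Ag Fi24.A Fi23.A 19 (ivl 0 31671) 1 act1_ws 0) = true := by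 decide +kernel

theorem act1_ag_97 : allL ((((((((((((((((((((((((((((((((((((((((((((((((((((((((((((((((((((((((((((((((((((((((((((((((((((agList 0 10 19)).drop 2).drop 2).drop 2).drop 2).drop 2).drop 2).drop 2).drop 2).drop 2).drop 2).drop 2).drop 2).drop 2).drop 2).drop 2).drop 2).drop 2).drop 2).drop 2).drop 2).drop 2).drop 2).drop 2).drop 2).drop 2).drop 2).drop 2).drop 2).drop 2).drop 2).drop 2).drop 2).drop 2).drop 2).drop 2).drop 2).drop 2).drop 2).drop 2).drop 2).drop 2).drop 2).drop 2).drop 2).drop 2).drop 2).drop 2).drop 2).drop 2).drop 2).drop 2).drop 2).drop 2).drop 2).drop 2).drop 2).drop 2).drop 1).drop 1).drop 1).drop 1).drop 1).drop 1).drop 1).drop 1).drop 1).drop 1).drop 1).drop 1).drop 1).drop 1).drop 1).drop 1).drop 1).drop 1).drop 2).drop 2).drop 2).drop 2).drop 2).drop 2).drop 2).drop 2).drop 2).drop 2).drop 2).drop 2).drop 2).drop 2).drop 2).drop 2).drop 2).drop 2).drop 2).drop 2).drop 2).drop 2).take 2) (Ag Fi24.A Fi23.A 19 (ivl 0 31671) 1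 act1_ws 0) = true := by decide +kernel

theorem act1_ag_98 : allL (((((((((((((((((((((((((((((((((((((((((((((((((((((((((((((((((((((((((((((((((((((((((((((((((((((agList 0 10 19)).drop 2).drop 2).drop 2).drop 2).drop 2).drop 2).drop 2).drop 2).drop 2).drop 2).drop 2).drop 2).drop 2).drop 2).drop 2).drop 2).drop 2).drop 2).drop 2).drop 2).drop 2).drop 2).drop 2).drop 2).drop 2).drop 2).drop 2).drop 2).drop 2).drop 2).drop 2).drop 2).drop 2).drop 2).drop 2).drop 2).drop 2).drop 2).drop 2).drop 2).drop 2).drop 2).drop 2).drop 2).drop 2).drop 2).drop 2).drop 2).drop 2).drop 2).drop 2).drop 2).drop 2).drop 2).drop 2).drop 2).drop 2).drop 1).drop 1).drop 1).drop 1).drop 1).drop 1).drop 1).drop 1).drop 1).drop 1).drop 1).drop 1).drop 1).drop 1).drop 1).drop 1).drop 1).drop 1).drop 2).drop 2).drop 2).drop 2).drop 2).drop 2).drop 2).drop 2).drop 2).drop 2).drop 2).drop 2).drop 2).drop 2).drop 2).drop 2).drop 2).drop 2).drop 2).drop 2).drop 2).drop 2).drop 2).take 2) (Ag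 Fi24.A Fi23.A 19 (ivl 0 31671) 1 act1_ws 0) = true := by decide +kernel

theorem act1_ag_99 : allL ((((((((((((((((((((((((((((((((((((((((((((((((((((((((((((((((((((((((((((((((((((((((((((((((((((((agList 0 10 19)).drop 2).drop 2).drop 2).drop 2).drop 2).drop 2).drop 2).drop 2).drop 2).drop 2).drop 2).drop 2).drop 2).drop 2).drop 2).drop 2).drop 2).drop 2).drop 2).drop 2).drop 2).drop 2).drop 2).drop 2).drop 2).drop 2).drop 2).drop 2).drop 2).drop 2).drop 2).drop 2).drop 2).drop 2).drop 2).drop 2).drop 2).drop 2).drop 2).drop 2).drop 2).drop 2).drop 2).drop 2).drop 2).drop 2).drop 2).drop 2).drop 2).drop 2).drop 2).drop 2).drop 2).drop 2).drop 2).drop 2).drop 2).drop 1).drop 1).drop 1).drop 1).drop 1).drop 1).drop 1).drop 1).drop 1).drop 1).drop 1).drop 1).drop 1).drop 1).drop 1).drop 1).drop 1).drop 1).drop 2).drop 2).drop 2).drop 2).drop 2).drop 2).drop 2).drop 2).drop 2).drop 2).drop 2).drop 2).drop 2).drop 2).drop 2).drop 2).drop 2).drop 2).drop 2).drop 2).drop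 2).drop 2).drop 2).drop 2).take 2) (Ag Fi24.A Fi23.A 19 (ivl 0 31671) 1 act1_ws 0) = true := by decide +kernel

theorem act1_ag_100 : allL (((((((((((((((((((((((((((((((((((((((((((((((((((((((((((((((((((((((((((((((((((((((((((((((((((((((agList 0 10 19)).drop 2).drop 2).drop 2).drop 2).drop 2).drop 2).drop 2).drop 2).drop 2).drop 2).drop 2).drop 2).drop 2).drop 2).drop 2).drop 2).drop 2).drop 2).drop 2).drop 2).drop 2).drop 2).drop 2).drop 2).drop 2).drop 2).drop 2).drop 2).drop 2).drop 2).drop 2).drop 2).drop 2).drop 2).drop 2).drop 2).drop 2).drop 2).drop 2).drop 2).drop 2).drop 2).drop 2).drop 2).drop 2).drop 2).drop 2).drop 2).drop 2).drop 2).drop 2).drop 2).drop 2).drop 2).drop 2).drop 2).drop 2).drop 1).drop 1).drop 1).drop 1).drop 1).drop 1).drop 1).drop 1).drop 1).drop 1).drop 1).drop 1).drop 1).drop 1).drop 1).drop 1).drop 1).drop 1).drop 2).drop 2).drop 2).drop 2).drop 2).drop 2).drop 2).drop 2).drop 2).drop 2).drop 2).drop 2).drop 2).drop 2).drop 2).drop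 2).drop 2).drop 2).drop 2).drop 2).drop 2).drop 2).drop 2).drop 2).drop 2).take 2) (Ag Fi24.A Fi23.A 19 (ivl 0 31671) 1 act1_ws 0) = true := by decide +kernel

theorem act1_ag_101 : allL ((((((((((((((((((((((((((((((((((((((((((((((((((((((((((((((((((((((((((((((((((((((((((((((((((((((((agList 0 10 19)).drop 2).drop 2).drop 2).drop 2).drop 2).drop 2).drop 2).drop 2).drop 2).drop 2).drop 2).drop 2).drop 2).drop 2).drop 2).drop 2).drop 2).drop 2).drop 2).drop 2).drop 2).drop 2).drop 2).drop 2).drop 2).drop 2).drop 2).drop 2).drop 2).drop 2).drop 2).drop 2).drop 2).drop 2).drop 2).drop 2).drop 2).drop 2).drop 2).drop 2).drop 2).drop 2).drop 2).drop 2).drop 2).drop 2).drop 2).drop 2).drop 2).drop 2).drop 2).drop 2).drop 2).drop 2).drop 2).drop 2).drop 2).drop 1).drop 1).drop 1).drop 1).drop 1).drop 1).drop 1).drop 1).drop 1).drop 1).drop 1).drop 1).drop 1).drop 1).drop 1).drop 1).drop 1).drop 1).drop 2).drop 2).drop 2).drop 2).drop 2).drop 2).drop 2).drop 2).drop 2).drop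 2).drop 2).drop 2).drop 2).drop 2).drop 2).drop 2).drop 2).drop 2).drop 2).drop 2).drop 2).drop 2).drop 2).drop 2).drop 2).drop 2).take 2) (Ag Fi24.A Fi23.A 19 (ivl 0 31671) 1 act1_ws 0) = true := by decide +kernel

theorem act1_ag_102 : allL (((((((((((((((((((((((((((((((((((((((((((((((((((((((((((((((((((((((((((((((((((((((((((((((((((((((((agList 0 10 19)).drop 2).drop 2).drop 2).drop 2).drop 2).drop 2).drop 2).drop 2).drop 2).drop 2).drop 2).drop 2).drop 2).drop 2).drop 2).drop 2).drop 2).drop 2).drop 2).drop 2).drop 2).drop 2).drop 2).drop 2).drop 2).drop 2).drop 2).drop 2).drop 2).drop 2).drop 2).drop 2).drop 2).drop 2).drop 2).drop 2).drop 2).drop 2).drop 2).drop 2).drop 2).drop 2).drop 2).drop 2).drop 2).drop 2).drop 2).drop 2).drop 2).drop 2).drop 2).drop 2).drop 2).drop 2).drop 2).drop 2).drop 2).drop 1).drop 1).drop 1).drop 1).drop 1).drop 1).drop 1).drop 1).drop 1).drop 1).drop 1).drop 1).drop 1).drop 1).drop 1).drop 1).drop 1).drop 1).drop 2).drop 2).drop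 2).drop 2).drop 2).drop 2).drop 2).drop 2).drop 2).drop 2).drop 2).drop 2).drop 2).drop 2).drop 2).drop 2).drop 2).drop 2).drop 2).drop 2).drop 2).drop 2).drop 2).drop 2).drop 2).drop 2).drop 2).take 2) (Ag Fi24.A Fi23.A 19 (ivl 0 31671) 1 act1_ws 0) = true := by decide +kernel

theorem act1_ag_103 : allL (((((((((((((((((((((((((((((((((((((((((((((((((((((((((((((((((((((((((((((((((((((((((((((((((((((((((agList 0 10 19)).drop 2).drop 2).drop 2).drop 2).drop 2).drop 2).drop 2).drop 2).drop 2).drop 2).drop 2).drop 2).drop 2).drop 2).drop 2).drop 2).drop 2).drop 2).drop 2).drop 2).drop 2).drop 2).drop 2).drop 2).drop 2).drop 2).drop 2).drop 2).drop 2).drop 2).drop 2).drop 2).drop 2).drop 2).drop 2).drop 2).drop 2).drop 2).drop 2).drop 2).drop 2).drop 2).drop 2).drop 2).drop 2).drop 2).drop 2).drop 2).drop 2).drop 2).drop 2).drop 2).drop 2).drop 2).drop 2).drop 2).drop 2).drop 1).drop 1).drop 1).drop 1).drop 1).drop 1).drop 1).drop 1).drop 1).drop 1).drop 1).drop 1).drop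 1).drop 1).drop 1).drop 1).drop 1).drop 1).drop 2).drop 2).drop 2).drop 2).drop 2).drop 2).drop 2).drop 2).drop 2).drop 2).drop 2).drop 2).drop 2).drop 2).drop 2).drop 2).drop 2).drop 2).drop 2).drop 2).drop 2).drop 2).drop 2).drop 2).drop 2).drop 2).drop 2).drop 2) (Ag Fi24.A Fi23.A 19 (ivl 0 31671) 1 act1_ws 0) = true := by decide +kernel

theorem act1_ag : ∀ c ∈ agList 0 10 19, (Ag Fi24.A Fi23.A 19 (ivl 0 31671) 1 act1_ws 0) c = true :=
  (forall_take_drop 2 (allL_spec act1_ag_0)
  (forall_take_drop 2 (allL_spec act1_ag_1)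
  (forall_take_drop 2 (allL_spec act1_ag_2)
  (forall_take_drop 2 (allL_spec act1_ag_3)
  (forall_take_drop 2 (allL_spec act1_ag_4)
  (forall_take_drop 2 (allL_spec act1_ag_5)
  (forall_take_drop 2 (allL_spec act1_ag_6)
  (forall_take_drop 2 (allL_spec act1_ag_7)
  (forall_take_drop 2 (allL_spec act1_ag_8)
  (forall_take_drop 2 (allL_spec act1_ag_9)
  (forall_take_drop 2 (allL_spec act1_ag_10)
  (forall_take_drop 2 (allL_spec act1_ag_11)
  (forall_take_drop 2 (allL_spec act1_ag_12)
  (forall_take_drop 2 (allL_spec act1_ag_13)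
  (forall_take_drop 2 (allL_spec act1_ag_14)
  (forall_take_drop 2 (allL_spec act1_ag_15)
  (forall_take_drop 2 (allL_spec act1_ag_16)
  (forall_take_drop 2 (allL_spec act1_ag_17)
  (forall_take_drop 2 (allL_spec act1_ag_18)
  (forall_take_drop 2 (allL_spec act1_ag_19)
  (forall_take_drop 2 (allL_spec act1_ag_20)
  (forall_take_drop 2 (allL_spec act1_ag_21)
  (forall_take_drop 2 (allL_spec act1_ag_22)
  (forall_take_drop 2 (allL_spec act1_ag_23)
  (forall_take_drop 2 (allL_spec act1_ag_24)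
  (forall_take_drop 2 (allL_spec act1_ag_25)
  (forall_take_drop 2 (allL_spec act1_ag_26)
  (forall_take_drop 2 (allL_spec act1_ag_27)
  (forall_take_drop 2 (allL_spec act1_ag_28)
  (forall_take_drop 2 (allL_spec act1_ag_29)
  (forall_take_drop 2 (allL_spec act1_ag_30)
  (forall_take_drop 2 (allL_spec act1_ag_31)
  (forall_take_drop 2 (allL_spec act1_ag_32)
  (forall_take_drop 2 (allL_spec act1_ag_33)
  (forall_take_drop 2 (allL_spec act1_ag_34)
  (forall_take_drop 2 (allL_spec act1_ag_35)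
  (forall_take_drop 2 (allL_spec act1_ag_36)
  (forall_take_drop 2 (allL_spec act1_ag_37)
  (forall_take_drop 2 (allL_spec act1_ag_38)
  (forall_take_drop 2 (allL_spec act1_ag_39)
  (forall_take_drop 2 (allL_spec act1_ag_40)
  (forall_take_drop 2 (allL_spec act1_ag_41)
  (forall_take_drop 2 (allL_spec act1_ag_42)
  (forall_take_drop 2 (allL_spec act1_ag_43)
  (forall_take_drop 2 (allL_spec act1_ag_44)
  (forall_take_drop 2 (allL_spec act1_ag_45)
  (forall_take_drop 2 (allL_spec act1_ag_46)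
  (forall_take_drop 2 (allL_spec act1_ag_47)
  (forall_take_drop 2 (allL_spec act1_ag_48)
  (forall_take_drop 2 (allL_spec act1_ag_49)
  (forall_take_drop 2 (allL_spec act1_ag_50)
  (forall_take_drop 2 (allL_spec act1_ag_51)
  (forall_take_drop 2 (allL_spec act1_ag_52)
  (forall_take_drop 2 (allL_spec act1_ag_53)
  (forall_take_drop 2 (allL_spec act1_ag_54)
  (forall_take_drop 2 (allL_spec act1_ag_55)
  (forall_take_drop 2 (allL_spec act1_ag_56)
  (forall_take_drop 1 (allL_spec act1_ag_57)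
  (forall_take_drop 1 (allL_spec act1_ag_58)
  (forall_take_drop 1 (allL_spec act1_ag_59)
  (forall_take_drop 1 (allL_spec act1_ag_60)
  (forall_take_drop 1 (allL_spec act1_ag_61)
  (forall_take_drop 1 (allL_spec act1_ag_62)
  (forall_take_drop 1 (allL_spec act1_ag_63)
  (forall_take_drop 1 (allL_spec act1_ag_64)
  (forall_take_drop 1 (allL_spec act1_ag_65)
  (forall_take_drop 1 (allL_spec act1_ag_66)
  (forall_take_drop 1 (allL_spec act1_ag_67)
  (forall_take_drop 1 (allL_spec act1_ag_68)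
  (forall_take_drop 1 (allL_spec act1_ag_69)
  (forall_take_drop 1 (allL_spec act1_ag_70)
  (forall_take_drop 1 (allL_spec act1_ag_71)
  (forall_take_drop 1 (allL_spec act1_ag_72)
  (forall_take_drop 1 (allL_spec act1_ag_73)
  (forall_take_drop 1 (allL_spec act1_ag_74)
  (forall_take_drop 2 (allL_spec act1_ag_75)
  (forall_take_drop 2 (allL_spec act1_ag_76)
  (forall_take_drop 2 (allL_spec act1_ag_77)
  (forall_take_drop 2 (allL_spec act1_ag_78)
  (forall_take_drop 2 (allL_spec act1_ag_79)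
  (forall_take_drop 2 (allL_spec act1_ag_80)
  (forall_take_drop 2 (allL_spec act1_ag_81)
  (forall_take_drop 2 (allL_spec act1_ag_82)
  (forall_take_drop 2 (allL_spec act1_ag_83)
  (forall_take_drop 2 (allL_spec act1_ag_84)
  (forall_take_drop 2 (allL_spec act1_ag_85)
  (forall_take_drop 2 (allL_spec act1_ag_86)
  (forall_take_drop 2 (allL_spec act1_ag_87)
  (forall_take_drop 2 (allL_spec act1_ag_88)
  (forall_take_drop 2 (allL_spec act1_ag_89)
  (forall_take_drop 2 (allL_spec act1_ag_90)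
  (forall_take_drop 2 (allL_spec act1_ag_91)
  (forall_take_drop 2 (allL_spec act1_ag_92)
  (forall_take_drop 2 (allL_spec act1_ag_93)
  (forall_take_drop 2 (allL_spec act1_ag_94)
  (forall_take_drop 2 (allL_spec act1_ag_95)
  (forall_take_drop 2 (allL_spec act1_ag_96)
  (forall_take_drop 2 (allL_spec act1_ag_97)
  (forall_take_drop 2 (allL_spec act1_ag_98)
  (forall_take_drop 2 (allL_spec act1_ag_99)
  (forall_take_drop 2 (allL_spec act1_ag_100)
  (forall_take_drop 2 (allL_spec act1_ag_101)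
  (forall_take_drop 2 (allL_spec act1_ag_102)
  (allL_spec act1_ag_103))))))))))))))))))))))))))))))))))))))))))))))))))))))))))))))))))))))))))))))))))))))))))))))))))))))))

theorem act1_inv : invB Fi23.A (kgens Fi23.A 0) (ivl 0 31671) = true := by decide +kernel

theorem act1 : ∀ j, 0 ≤ j → j < Fi23.A.length → Acts (fun i => wp Fi24.A 1 i) (bset (ivl 0 31671))
    (wp Fi24.A (nthD 1 act1_ws (j - 0))) (gp Fi23.A j) :=
  acts_of_Ag Fi24.hA Fi23.hA (by norm_num) (by rw [Fi23.hlen]; norm_num) act1_inv (by rw [Fi23.hlen]; exact act1_ag)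


end Cfsg.Agent.Spor.Fi24L
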