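import Cfsg.Agent.Lib.Spor.Fi24.Main
import Cfsg.Agent.Lib.Spor.FiHe.Main

set_option autoImplicit false
set_option maxRecDepth 100000
set_option Elab.async false
set_option exponentiation.threshold 100000

namespace Cfsg.Agent.Spor.Fi24H
open Cfsg.Agent.PG Cfsg.Agent.Spor

def act2_ws : List ℕ := [0x11816121016100f0c0f0c0c0c0e0b0d0a0e0a080d080d0608060f0d0804070a0a040d,
  0x116121410100e110c110c0e0a0a0a140a0a080b1216060811090f04110f080f,
  0x1181416121411120e110f0c0c0c12140a0d0b0c0a080810090c06090f0d0d050707180407,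
  0x118141112110e0e11140c0c0c0c0e100a0a140c080a121008060e0707140404070d120e14,
  0x1121412110e16110c0c10100a0a0a100e1108080a0808060a080707040f09100408,
  0x1181214121016100e100e0d0d0d110e0a0a110a160811090a12060f08060e040e1612,
  0x1141612141610140e100e0d0e0e0c0b0c0a0a080d100e06080f061008040c09110d]

theorem act2_ag_0 : allL (((agList 0 7 19)).take 1) (Ag Fi24.A FiHe.A 19 (ivl 0 2058) 0x102 act2_ws 0) = true := by decide +kernel

theorem act2_ag_1 : allL ((((agList 0 7 19)).drop 1).take 1) (Ag Fi24.A FiHe.A 19 (ivl 0 2058) 0x102 act2_ws 0) = true := by decide +kernel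

theorem act2_ag_2 : allL (((((agList 0 7 19)).drop 1).drop 1).take 1) (Ag Fi24.A FiHe.A 19 (ivl 0 2058) 0x102 act2_ws 0) = true := by decide +kernel

theorem act2_ag_3 : allL ((((((agList 0 7 19)).drop 1).drop 1).drop 1).take 1) (Ag Fi24.A FiHe.A 19 (ivl 0 2058) 0x102 act2_ws 0) = true := by decide +kernel

theorem act2_ag_4 : allL (((((((agList 0 7 19)).drop 1).drop 1).drop 1).drop 1).take 1) (Ag Fi24.A FiHe.A 19 (ivl 0 2058) 0x102 act2_ws 0) = true := by decide +kernel

theorem act2_ag_5 : allL ((((((((agList 0 7 19)).drop 1).drop 1).drop 1).drop 1).drop 1).take 1) (Ag Fi24.A FiHe.A 19 (ivl 0 2058) 0x102 act2_ws 0) = true := by decide +kernel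

theorem act2_ag_6 : allL (((((((((agList 0 7 19)).drop 1).drop 1).drop 1).drop 1).drop 1).drop 1).take 1) (Ag Fi24.A FiHe.A 19 (ivl 0 2058) 0x102 act2_ws 0) = true := by decide +kernel

theorem act2_ag_7 : allL ((((((((((agList 0 7 19)).drop 1).drop 1).drop 1).drop 1).drop 1).drop 1).drop 1).take 1) (Ag Fi24.A FiHe.A 19 (ivl 0 2058) 0x102 act2_ws 0) = true := by decide +kernel

theorem act2_ag_8 : allL (((((((((((agList 0 7 19)).drop 1).drop 1).drop 1).drop 1).drop 1).drop 1).drop 1).drop 1).take 1) (Ag Fi24.A FiHe.A 19 (ivl 0 2058) 0x102 act2_ws 0) = true := by decide +kernel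

theorem act2_ag_9 : allL ((((((((((((agList 0 7 19)).drop 1).drop 1).drop 1).drop 1).drop 1).drop 1).drop 1).drop 1).drop 1).take 1) (Ag Fi24.A FiHe.A 19 (ivl 0 2058) 0x102 act2_ws 0) = true := by decide +kernel

theorem act2_ag_10 : allL (((((((((((((agList 0 7 19)).drop 1).drop 1).drop 1).drop 1).drop 1).drop 1).drop 1).drop 1).drop 1).drop 1).take 1) (Ag Fi24.A FiHe.A 19 (ivl 0 2058) 0x102 act2_ws 0) = true := by decide +kernel

theorem act2_ag_11 : allL ((((((((((((((agList 0 7 19)).drop 1).drop 1).drop 1).drop 1).drop 1).drop 1).drop 1).drop 1).drop 1).drop 1).drop 1).take 1) (Ag Fi24.A FiHe.A 19 (ivl 0 2058) 0x102 act2_ws 0) = true := by decide +kernel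

theorem act2_ag_12 : allL (((((((((((((((agList 0 7 19)).drop 1).drop 1).drop 1).drop 1).drop 1).drop 1).drop 1).drop 1).drop 1).drop 1).drop 1).drop 1).take 1) (Ag Fi24.A FiHe.A 19 (ivl 0 2058) 0x102 act2_ws 0) = true := by decide +kernel

theorem act2_ag_13 : allL ((((((((((((((((agList 0 7 19)).drop 1).drop 1).drop 1).drop 1).drop 1).drop 1).drop 1).drop 1).drop 1).drop 1).drop 1).drop 1).drop 1).take 1) (Ag Fi24.A FiHe.A 19 (ivl 0 2058) 0x102 act2_ws 0) = true := by decide +kernel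

theorem act2_ag_14 : allL (((((((((((((((((agList 0 7 19)).drop 1).drop 1).drop 1).drop 1).drop 1).drop 1).drop 1).drop 1).drop 1).drop 1).drop 1).drop 1).drop 1).drop 1).take 1) (Ag Fi24.A FiHe.A 19 (ivl 0 2058) 0x102 act2_ws 0) = true := by decide +kernel

theorem act2_ag_15 : allL ((((((((((((((((((agList 0 7 19)).drop 1).drop 1).drop 1).drop 1).drop 1).drop 1).drop 1).drop 1).drop 1).drop 1).drop 1).drop 1).drop 1).drop 1).drop 1).take 1) (Ag Fi24.A FiHe.A 19 (ivl 0 2058) 0x102 act2_ws 0) = true := by decide +kernel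

theorem act2_ag_16 : allL (((((((((((((((((((agList 0 7 19)).drop 1).drop 1).drop 1).drop 1).drop 1).drop 1).drop 1).drop 1).drop 1).drop 1).drop 1).drop 1).drop 1).drop 1).drop 1).drop 1).take 1) (Ag Fi24.A FiHe.A 19 (ivl 0 2058) 0x102 act2_ws 0) = true := by decide +kernel

theorem act2_ag_17 : allL ((((((((((((((((((((agList 0 7 19)).drop 1).drop 1).drop 1).drop 1).drop 1).drop 1).drop 1).drop 1).drop 1).drop 1).drop 1).drop 1).drop 1).drop 1).drop 1).drop 1).drop 1).take 1) (Ag Fi24.A FiHe.A 19 (ivl 0 2058) 0x102 act2_ws 0) = true := by decide +kernel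

theorem act2_ag_18 : allL (((((((((((((((((((((agList 0 7 19)).drop 1).drop 1).drop 1).drop 1).drop 1).drop 1).drop 1).drop 1).drop 1).drop 1).drop 1).drop 1).drop 1).drop 1).drop 1).drop 1).drop 1).drop 1).take 1) (Ag Fi24.A FiHe.A 19 (ivl 0 2058) 0x102 act2_ws 0) = true := by decide +kernel

theorem act2_ag_19 : allL ((((((((((((((((((((((agList 0 7 19)).drop 1).drop 1).drop 1).drop 1).drop 1).drop 1).drop 1).drop 1).drop 1).drop 1).drop 1).drop 1).drop 1).drop 1).drop 1).drop 1).drop 1).drop 1).drop 1).take 1) (Ag Fi24.A FiHe.A 19 (ivl 0 2058) 0x102 act2_ws 0) = true := by decide +kernel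

theorem act2_ag_20 : allL (((((((((((((((((((((((agList 0 7 19)).drop 1).drop 1).drop 1).drop 1).drop 1).drop 1).drop 1).drop 1).drop 1).drop 1).drop 1).drop 1).drop 1).drop 1).drop 1).drop 1).drop 1).drop 1).drop 1).drop 1).take 1) (Ag Fi24.A FiHe.A 19 (ivl 0 2058) 0x102 act2_ws 0) = true := by decide +kernel

theorem act2_ag_21 : allL ((((((((((((((((((((((((agList 0 7 19)).drop 1).drop 1).drop 1).drop 1).drop 1).drop 1).drop 1).drop 1).drop 1).drop 1).drop 1).drop 1).drop 1).drop 1).drop 1).drop 1).drop 1).drop 1).drop 1).drop 1).drop 1).take 1) (Ag Fi24.A FiHe.A 19 (ivl 0 2058) 0x102 act2_ws 0) = true := by decide +kernel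

theorem act2_ag_22 : allL (((((((((((((((((((((((((agList 0 7 19)).drop 1).drop 1).drop 1).drop 1).drop 1).drop 1).drop 1).drop 1).drop 1).drop 1).drop 1).drop 1).drop 1).drop 1).drop 1).drop 1).drop 1).drop 1).drop 1).drop 1).drop 1).drop 1).take 1) (Ag Fi24.A FiHe.A 19 (ivl 0 2058) 0x102 act2_ws 0) = true := by decide +kernel

theorem act2_ag_23 : allL ((((((((((((((((((((((((((agList 0 7 19)).drop 1).drop 1).drop 1).drop 1).drop 1).drop 1).drop 1).drop 1).drop 1).drop 1).drop 1).drop 1).drop 1).drop 1).drop 1).drop 1).drop 1).drop 1).drop 1).drop 1).drop 1).drop 1).drop 1).take 1) (Ag Fi24.A FiHe.A 19 (ivl 0 2058) 0x102 act2_ws 0) = true := by decide +kernel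

theorem act2_ag_24 : allL (((((((((((((((((((((((((((agList 0 7 19)).drop 1).drop 1).drop 1).drop 1).drop 1).drop 1).drop 1).drop 1).drop 1).drop 1).drop 1).drop 1).drop 1).drop 1).drop 1).drop 1).drop 1).drop 1).drop 1).drop 1).drop 1).drop 1).drop 1).drop 1).take 1) (Ag Fi24.A FiHe.A 19 (ivl 0 2058) 0x102 act2_ws 0) = true := by decide +kernel

theorem act2_ag_25 : allL ((((((((((((((((((((((((((((agList 0 7 19)).drop 1).drop 1).drop 1).drop 1).drop 1).drop 1).drop 1).drop 1).drop 1).drop 1).drop 1).drop 1).drop 1).drop 1).drop 1).drop 1).drop 1).drop 1).drop 1).drop 1).drop 1).drop 1).drop 1).drop 1).drop 1).take 1) (Ag Fi24.A FiHe.A 19 (ivl 0 2058) 0x102 act2_ws 0) = true := by decide +kernel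

theorem act2_ag_26 : allL (((((((((((((((((((((((((((((agList 0 7 19)).drop 1).drop 1).drop 1).drop 1).drop 1).drop 1).drop 1).drop 1).drop 1).drop 1).drop 1).drop 1).drop 1).drop 1).drop 1).drop 1).drop 1).drop 1).drop 1).drop 1).drop 1).drop 1).drop 1).drop 1).drop 1).drop 1).take 1) (Ag Fi24.A FiHe.A 19 (ivl 0 2058) 0x102 act2_ws 0) = true := by decide +kernel

theorem act2_ag_27 : allL ((((((((((((((((((((((((((((((agList 0 7 19)).drop 1).drop 1).drop 1).drop 1).drop 1).drop 1).drop 1).drop 1).drop 1).drop 1).drop 1).drop 1).drop 1).drop 1).drop 1).drop 1).drop 1).drop 1).drop 1).drop 1).drop 1).drop 1).drop 1).drop 1).drop 1).drop 1).drop 1).take 1) (Ag Fi24.A FiHe.A 19 (ivl 0 2058) 0x102 act2_ws 0) = true := by decide +kernel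

theorem act2_ag_28 : allL (((((((((((((((((((((((((((((((agList 0 7 19)).drop 1).drop 1).drop 1).drop 1).drop 1).drop 1).drop 1).drop 1).drop 1).drop 1).drop 1).drop 1).drop 1).drop 1).drop 1).drop 1).drop 1).drop 1).drop 1).drop 1).drop 1).drop 1).drop 1).drop 1).drop 1).drop 1).drop 1).drop 1).take 1) (Ag Fi24.A FiHe.A 19 (ivl 0 2058) 0x102 act2_ws 0) = true := by decide +kernel

theorem act2_ag_29 : allL ((((((((((((((((((((((((((((((((agList 0 7 19)).drop 1).drop 1).drop 1).drop 1).drop 1).drop 1).drop 1).drop 1).drop 1).drop 1).drop 1).drop 1).drop 1).drop 1).drop 1).drop 1).drop 1).drop 1).drop 1).drop 1).drop 1).drop 1).drop 1).drop 1).drop 1).drop 1).drop 1).drop 1).drop 1).take 1) (Ag Fi24.A FiHe.A 19 (ivl 0 2058) 0x102 act2_ws 0) = true := by decide +kernel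

theorem act2_ag_30 : allL (((((((((((((((((((((((((((((((((agList 0 7 19)).drop 1).drop 1).drop 1).drop 1).drop 1).drop 1).drop 1).drop 1).drop 1).drop 1).drop 1).drop 1).drop 1).drop 1).drop 1).drop 1).drop 1).drop 1).drop 1).drop 1).drop 1).drop 1).drop 1).drop 1).drop 1).drop 1).drop 1).drop 1).drop 1).drop 1).take 1) (Ag Fi24.A FiHe.A 19 (ivl 0 2058) 0x102 act2_ws 0) = true := by decide +kernel

theorem act2_ag_31 : allL ((((((((((((((((((((((((((((((((((agList 0 7 19)).drop 1).drop 1).drop 1).drop 1).drop 1).drop 1).drop 1).drop 1).drop 1).drop 1).drop 1).drop 1).drop 1).drop 1).drop 1).drop 1).drop 1).drop 1).drop 1).drop 1).drop 1).drop 1).drop 1).drop 1).drop 1).drop 1).drop 1).drop 1).drop 1).drop 1).drop 1).take 1) (Ag Fi24.A FiHe.A 19 (ivl 0 2058) 0x102 act2_ws 0) = true := by decide +kernel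

theorem act2_ag_32 : allL (((((((((((((((((((((((((((((((((((agList 0 7 19)).drop 1).drop 1).drop 1).drop 1).drop 1).drop 1).drop 1).drop 1).drop 1).drop 1).drop 1).drop 1).drop 1).drop 1).drop 1).drop 1).drop 1).drop 1).drop 1).drop 1).drop 1).drop 1).drop 1).drop 1).drop 1).drop 1).drop 1).drop 1).drop 1).drop 1).drop 1).drop 1).take 1) (Ag Fi24.A FiHe.A 19 (ivl 0 2058) 0x102 act2_ws 0) = true := by decide +kernel

theorem act2_ag_33 : allL ((((((((((((((((((((((((((((((((((((agList 0 7 19)).drop 1).drop 1).drop 1).drop 1).drop 1).drop 1).drop 1).drop 1).drop 1).drop 1).drop 1).drop 1).drop 1).drop 1).drop 1).drop 1).drop 1).drop 1).drop 1).drop 1).drop 1).drop 1).drop 1).drop 1).drop 1).drop 1).drop 1).drop 1).drop 1).drop 1).drop 1).drop 1).drop 1).take 1) (Ag Fi24.A FiHe.A 19 (ivl 0 2058) 0x102 act2_ws 0) = true := by decide +kernel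

theorem act2_ag_34 : allL (((((((((((((((((((((((((((((((((((((agList 0 7 19)).drop 1).drop 1).drop 1).drop 1).drop 1).drop 1).drop 1).drop 1).drop 1).drop 1).drop 1).drop 1).drop 1).drop 1).drop 1).drop 1).drop 1).drop 1).drop 1).drop 1).drop 1).drop 1).drop 1).drop 1).drop 1).drop 1).drop 1).drop 1).drop 1).drop 1).drop 1).drop 1).drop 1).drop 1).take 1) (Ag Fi24.A FiHe.A 19 (ivl 0 2058) 0x102 act2_ws 0) = true := by decide +kernel

theorem act2_ag_35 : allL ((((((((((((((((((((((((((((((((((((((agList 0 7 19)).drop 1).drop 1).drop 1).drop 1).drop 1).drop 1).drop 1).drop 1).drop 1).drop 1).drop 1).drop 1).drop 1).drop 1).drop 1).drop 1).drop 1).drop 1).drop 1).drop 1).drop 1).drop 1).drop 1).drop 1).drop 1).drop 1).drop 1).drop 1).drop 1).drop 1).drop 1).drop 1).drop 1).drop 1).drop 1).take 1) (Ag Fi24.A FiHe.A 19 (ivl 0 2058) 0x102 act2_ws 0) = true := by decide +kernel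

theorem act2_ag_36 : allL (((((((((((((((((((((((((((((((((((((((agList 0 7 19)).drop 1).drop 1).drop 1).drop 1).drop 1).drop 1).drop 1).drop 1).drop 1).drop 1).drop 1).drop 1).drop 1).drop 1).drop 1).drop 1).drop 1).drop 1).drop 1).drop 1).drop 1).drop 1).drop 1).drop 1).drop 1).drop 1).drop 1).drop 1).drop 1).drop 1).drop 1).drop 1).drop 1).drop 1).drop 1).drop 1).take 1) (Ag Fi24.A FiHe.A 19 (ivl 0 2058) 0x102 act2_ws 0) = true := by decide +kernel

theorem act2_ag_37 : allL ((((((((((((((((((((((((((((((((((((((((agList 0 7 19)).drop 1).drop 1).drop 1).drop 1).drop 1).drop 1).drop 1).drop 1).drop 1).drop 1).drop 1).drop 1).drop 1).drop 1).drop 1).drop 1).drop 1).drop 1).drop 1).drop 1).drop 1).drop 1).drop 1).drop 1).drop 1).drop 1).drop 1).drop 1).drop 1).drop 1).drop 1).drop 1).drop 1).drop 1).drop 1).drop 1).drop 1).take 1) (Ag Fi24.A FiHe.A 19 (ivl 0 2058) 0x102 act2_ws 0) = true := by decide +kernel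

theorem act2_ag_38 : allL (((((((((((((((((((((((((((((((((((((((((agList 0 7 19)).drop 1).drop 1).drop 1).drop 1).drop 1).drop 1).drop 1).drop 1).drop 1).drop 1).drop 1).drop 1).drop 1).drop 1).drop 1).drop 1).drop 1).drop 1).drop 1).drop 1).drop 1).drop 1).drop 1).drop 1).drop 1).drop 1).drop 1).drop 1).drop 1).drop 1).drop 1).drop 1).drop 1).drop 1).drop 1).drop 1).drop 1).drop 1).take 1) (Ag Fi24.A FiHe.A 19 (ivl 0 2058) 0x102 act2_ws 0) = true := by decide +kernel

theorem act2_ag_39 : allL ((((((((((((((((((((((((((((((((((((((((((agList 0 7 19)).drop 1).drop 1).drop 1).drop 1).drop 1).drop 1).drop 1).drop 1).drop 1).drop 1).drop 1).drop 1).drop 1).drop 1).drop 1).drop 1).drop 1).drop 1).drop 1).drop 1).drop 1).drop 1).drop 1).drop 1).drop 1).drop 1).drop 1).drop 1).drop 1).drop 1).drop 1).drop 1).drop 1).drop 1).drop 1).drop 1).drop 1).drop 1).drop 1).take 1) (Ag Fi24.A FiHe.A 19 (ivl 0 2058) 0x102 act2_ws 0) = true := by decide +kernel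

theorem act2_ag_40 : allL (((((((((((((((((((((((((((((((((((((((((((agList 0 7 19)).drop 1).drop 1).drop 1).drop 1).drop 1).drop 1).drop 1).drop 1).drop 1).drop 1).drop 1).drop 1).drop 1).drop 1).drop 1).drop 1).drop 1).drop 1).drop 1).drop 1).drop 1).drop 1).drop 1).drop 1).drop 1).drop 1).drop 1).drop 1).drop 1).drop 1).drop 1).drop 1).drop 1).drop 1).drop 1).drop 1).drop 1).drop 1).drop 1).drop 1).take 1) (Ag Fi24.A FiHe.A 19 (ivl 0 2058) 0x102 act2_ws 0) = true := by decide +kernel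

theorem act2_ag_41 : allL ((((((((((((((((((((((((((((((((((((((((((((agList 0 7 19)).drop 1).drop 1).drop 1).drop 1).drop 1).drop 1).drop 1).drop 1).drop 1).drop 1).drop 1).drop 1).drop 1).drop 1).drop 1).drop 1).drop 1).drop 1).drop 1).drop 1).drop 1).drop 1).drop 1).drop 1).drop 1).drop 1).drop 1).drop 1).drop 1).drop 1).drop 1).drop 1).drop 1).drop 1).drop 1).drop 1).drop 1).drop 1).drop 1).drop 1).drop 1).take 1) (Ag Fi24.A FiHe.A 19 (ivl 0 2058) 0x102 act2_ws 0) = true := by decide +kernel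

theorem act2_ag_42 : allL (((((((((((((((((((((((((((((((((((((((((((((agList 0 7 19)).drop 1).drop 1).drop 1).drop 1).drop 1).drop 1).drop 1).drop 1).drop 1).drop 1).drop 1).drop 1).drop 1).drop 1).drop 1).drop 1).drop 1).drop 1).drop 1).drop 1).drop 1).drop 1).drop 1).drop 1).drop 1).drop 1).drop 1).drop 1).drop 1).drop 1).drop 1).drop 1).drop 1).drop 1).drop 1).drop 1).drop 1).drop 1).drop 1).drop 1).drop 1).drop 1).take 1) (Ag Fi24.A FiHe.A 19 (ivl 0 2058) 0x102 act2_ws 0) = true := by decide +kernel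

theorem act2_ag_43 : allL ((((((((((((((((((((((((((((((((((((((((((((((agList 0 7 19)).drop 1).drop 1).drop 1).drop 1).drop 1).drop 1).drop 1).drop 1).drop 1).drop 1).drop 1).drop 1).drop 1).drop 1).drop 1).drop 1).drop 1).drop 1).drop 1).drop 1).drop 1).drop 1).drop 1).drop 1).drop 1).drop 1).drop 1).drop 1).drop 1).drop 1).drop 1).drop 1).drop 1).drop 1).drop 1).drop 1).drop 1).drop 1).drop 1).drop 1).drop 1).drop 1).drop 1).take 1) (Ag Fi24.A FiHe.A 19 (ivl 0 2058) 0x102 act2_ws 0) = true := by decide +kernel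

theorem act2_ag_44 : allL (((((((((((((((((((((((((((((((((((((((((((((((agList 0 7 19)).drop 1).drop 1).drop 1).drop 1).drop 1).drop 1).drop 1).drop 1).drop 1).drop 1).drop 1).drop 1).drop 1).drop 1).drop 1).drop 1).drop 1).drop 1).drop 1).drop 1).drop 1).drop 1).drop 1).drop 1).drop 1).drop 1).drop 1).drop 1).drop 1).drop 1).drop 1).drop 1).drop 1).drop 1).drop 1).drop 1).drop 1).drop 1).drop 1).drop 1).drop 1).drop 1).drop 1).drop 1).take 1) (Ag Fi24.A FiHe.A 19 (ivl 0 2058) 0x102 act2_ws 0) = true := by decide +kernel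

theorem act2_ag_45 : allL ((((((((((((((((((((((((((((((((((((((((((((((((agList 0 7 19)).drop 1).drop 1).drop 1).drop 1).drop 1).drop 1).drop 1).drop 1).drop 1).drop 1).drop 1).drop 1).drop 1).drop 1).drop 1).drop 1).drop 1).drop 1).drop 1).drop 1).drop 1).drop 1).drop 1).drop 1).drop 1).drop 1).drop 1).drop 1).drop 1).drop 1).drop 1).drop 1).drop 1).drop 1).drop 1).drop 1).drop 1).drop 1).drop 1).drop 1).drop 1).drop 1).drop 1).drop 1).drop 1).take 1) (Ag Fi24.A FiHe.A 19 (ivl 0 2058) 0x102 act2_ws 0) = true := by decide +kernel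

theorem act2_ag_46 : allL (((((((((((((((((((((((((((((((((((((((((((((((((agList 0 7 19)).drop 1).drop 1).drop 1).drop 1).drop 1).drop 1).drop 1).drop 1).drop 1).drop 1).drop 1).drop 1).drop 1).drop 1).drop 1).drop 1).drop 1).drop 1).drop 1).drop 1).drop 1).drop 1).drop 1).drop 1).drop 1).drop 1).drop 1).drop 1).drop 1).drop 1).drop 1).drop 1).drop 1).drop 1).drop 1).drop 1).drop 1).drop 1).drop 1).drop 1).drop 1).drop 1).drop 1).drop 1).drop 1).drop 1).take 1) (Ag Fi24.A FiHe.A 19 (ivl 0 2058) 0x102 act2_ws 0) = true := by decide +kernel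

theorem act2_ag_47 : allL ((((((((((((((((((((((((((((((((((((((((((((((((((agList 0 7 19)).drop 1).drop 1).drop 1).drop 1).drop 1).drop 1).drop 1).drop 1).drop 1).drop 1).drop 1).drop 1).drop 1).drop 1).drop 1).drop 1).drop 1).drop 1).drop 1).drop 1).drop 1).drop 1).drop 1).drop 1).drop 1).drop 1).drop 1).drop 1).drop 1).drop 1).drop 1).drop 1).drop 1).drop 1).drop 1).drop 1).drop 1).drop 1).drop 1).drop 1).drop 1).drop 1).drop 1).drop 1).drop 1).drop 1).drop 1).take 1) (Ag Fi24.A FiHe.A 19 (ivl 0 2058) 0x102 act2_ws 0) = true := by decide +kernel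

theorem act2_ag_48 : allL (((((((((((((((((((((((((((((((((((((((((((((((((((agList 0 7 19)).drop 1).drop 1).drop 1).drop 1).drop 1).drop 1).drop 1).drop 1).drop 1).drop 1).drop 1).drop 1).drop 1).drop 1).drop 1).drop 1).drop 1).drop 1).drop 1).drop 1).drop 1).drop 1).drop 1).drop 1).drop 1).drop 1).drop 1).drop 1).drop 1).drop 1).drop 1).drop 1).drop 1).drop 1).drop 1).drop 1).drop 1).drop 1).drop 1).drop 1).drop 1).drop 1).drop 1).drop 1).drop 1).drop 1).drop 1).drop 1).take 1) (Ag Fi24.A FiHe.A 19 (ivl 0 2058) 0x102 act2_ws 0) = true := by decide +kernel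

theorem act2_ag_49 : allL ((((((((((((((((((((((((((((((((((((((((((((((((((((agList 0 7 19)).drop 1).drop 1).drop 1).drop 1).drop 1).drop 1).drop 1).drop 1).drop 1).drop 1).drop 1).drop 1).drop 1).drop 1).drop 1).drop 1).drop 1).drop 1).drop 1).drop 1).drop 1).drop 1).drop 1).drop 1).drop 1).drop 1).drop 1).drop 1).drop 1).drop 1).drop 1).drop 1).drop 1).drop 1).drop 1).drop 1).drop 1).drop 1).drop 1).drop 1).drop 1).drop 1).drop 1).drop 1).drop 1).drop 1).drop 1).drop 1).drop 1).take 1) (Ag Fi24.A FiHe.A 19 (ivl 0 2058) 0x102 act2_ws 0) = true := by decide +kernel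

theorem act2_ag_50 : allL (((((((((((((((((((((((((((((((((((((((((((((((((((((agList 0 7 19)).drop 1).drop 1).drop 1).drop 1).drop 1).drop 1).drop 1).drop 1).drop 1).drop 1).drop 1).drop 1).drop 1).drop 1).drop 1).drop 1).drop 1).drop 1).drop 1).drop 1).drop 1).drop 1).drop 1).drop 1).drop 1).drop 1).drop 1).drop 1).drop 1).drop 1).drop 1).drop 1).drop 1).drop 1).drop 1).drop 1).drop 1).drop 1).drop 1).drop 1).drop 1).drop 1).drop 1).drop 1).drop 1).drop 1).drop 1).drop 1).drop 1).drop 1).take 1) (Ag Fi24.A FiHe.A 19 (ivl 0 2058) 0x102 act2_ws 0) = true := by decide +kernel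

theorem act2_ag_51 : allL ((((((((((((((((((((((((((((((((((((((((((((((((((((((agList 0 7 19)).drop 1).drop 1).drop 1).drop 1).drop 1).drop 1).drop 1).drop 1).drop 1).drop 1).drop 1).drop 1).drop 1).drop 1).drop 1).drop 1).drop 1).drop 1).drop 1).drop 1).drop 1).drop 1).drop 1).drop 1).drop 1).drop 1).drop 1).drop 1).drop 1).drop 1).drop 1).drop 1).drop 1).drop 1).drop 1).drop 1).drop 1).drop 1).drop 1).drop 1).drop 1).drop 1).drop 1).drop 1).drop 1).drop 1).drop 1).drop 1).drop 1).drop 1).drop 1).take 1) (Ag Fi24.A FiHe.A 19 (ivl 0 2058) 0x102 act2_ws 0) = true := by decide +kernel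

theorem act2_ag_52 : allL (((((((((((((((((((((((((((((((((((((((((((((((((((((((agList 0 7 19)).drop 1).drop 1).drop 1).drop 1).drop 1).drop 1).drop 1).drop 1).drop 1).drop 1).drop 1).drop 1).drop 1).drop 1).drop 1).drop 1).drop 1).drop 1).drop 1).drop 1).drop 1).drop 1).drop 1).drop 1).drop 1).drop 1).drop 1).drop 1).drop 1).drop 1).drop 1).drop 1).drop 1).drop 1).drop 1).drop 1).drop 1).drop 1).drop 1).drop 1).drop 1).drop 1).drop 1).drop 1).drop 1).drop 1).drop 1).drop 1).drop 1).drop 1).drop 1).drop 1).take 1) (Ag Fi24.A FiHe.A 19 (ivl 0 2058) 0x102 act2_ws 0) = true := by decide +kernel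

theorem act2_ag_53 : allL ((((((((((((((((((((((((((((((((((((((((((((((((((((((((agList 0 7 19)).drop 1).drop 1).drop 1).drop 1).drop 1).drop 1).drop 1).drop 1).drop 1).drop 1).drop 1).drop 1).drop 1).drop 1).drop 1).drop 1).drop 1).drop 1).drop 1).drop 1).drop 1).drop 1).drop 1).drop 1).drop 1).drop 1).drop 1).drop 1).drop 1).drop 1).drop 1).drop 1).drop 1).drop 1).drop 1).drop 1).drop 1).drop 1).drop 1).drop 1).drop 1).drop 1).drop 1).drop 1).drop 1).drop 1).drop 1).drop 1).drop 1).drop 1).drop 1).drop 1).drop 1).take 1) (Ag Fi24.A FiHe.A 19 (ivl 0 2058) 0x102 act2_ws 0) = true := by decide +kernel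

theorem act2_ag_54 : allL (((((((((((((((((((((((((((((((((((((((((((((((((((((((((agList 0 7 19)).drop 1).drop 1).drop 1).drop 1).drop 1).drop 1).drop 1).drop 1).drop 1).drop 1).drop 1).drop 1).drop 1).drop 1).drop 1).drop 1).drop 1).drop 1).drop 1).drop 1).drop 1).drop 1).drop 1).drop 1).drop 1).drop 1).drop 1).drop 1).drop 1).drop 1).drop 1).drop 1).drop 1).drop 1).drop 1).drop 1).drop 1).drop 1).drop 1).drop 1).drop 1).drop 1).drop 1).drop 1).drop 1).drop 1).drop 1).drop 1).drop 1).drop 1).drop 1).drop 1).drop 1).drop 1).take 1) (Ag Fi24.A FiHe.A 19 (ivl 0 2058) 0x102 act2_ws 0) = true := by decide +kernel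

theorem act2_ag_55 : allL ((((((((((((((((((((((((((((((((((((((((((((((((((((((((((agList 0 7 19)).drop 1).drop 1).drop 1).drop 1).drop 1).drop 1).drop 1).drop 1).drop 1).drop 1).drop 1).drop 1).drop 1).drop 1).drop 1).drop 1).drop 1).drop 1).drop 1).drop 1).drop 1).drop 1).drop 1).drop 1).drop 1).drop 1).drop 1).drop 1).drop 1).drop 1).drop 1).drop 1).drop 1).drop 1).drop 1).drop 1).drop 1).drop 1).drop 1).drop 1).drop 1).drop 1).drop 1).drop 1).drop 1).drop 1).drop 1).drop 1).drop 1).drop 1).drop 1).drop 1).drop 1).drop 1).drop 1).take 1) (Ag Fi24.A FiHe.A 19 (ivl 0 2058) 0x102 act2_ws 0) = true := by decide +kernel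

theorem act2_ag_56 : allL (((((((((((((((((((((((((((((((((((((((((((((((((((((((((((agList 0 7 19)).drop 1).drop 1).drop 1).drop 1).drop 1).drop 1).drop 1).drop 1).drop 1).drop 1).drop 1).drop 1).drop 1).drop 1).drop 1).drop 1).drop 1).drop 1).drop 1).drop 1).drop 1).drop 1).drop 1).drop 1).drop 1).drop 1).drop 1).drop 1).drop 1).drop 1).drop 1).drop 1).drop 1).drop 1).drop 1).drop 1).drop 1).drop 1).drop 1).drop 1).drop 1).drop 1).drop 1).drop 1).drop 1).drop 1).drop 1).drop 1).drop 1).drop 1).drop 1).drop 1).drop 1).drop 1).drop 1).drop 1).take 1) (Ag Fi24.A FiHe.A 19 (ivl 0 2058) 0x102 act2_ws 0) = true := by decide +kernel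

theorem act2_ag_57 : allL ((((((((((((((((((((((((((((((((((((((((((((((((((((((((((((agList 0 7 19)).drop 1).drop 1).drop 1).drop 1).drop 1).drop 1).drop 1).drop 1).drop 1).drop 1).drop 1).drop 1).drop 1).drop 1).drop 1).drop 1).drop 1).drop 1).drop 1).drop 1).drop 1).drop 1).drop 1).drop 1).drop 1).drop 1).drop 1).drop 1).drop 1).drop 1).drop 1).drop 1).drop 1).drop 1).drop 1).drop 1).drop 1).drop 1).drop 1).drop 1).drop 1).drop 1).drop 1).drop 1).drop 1).drop 1).drop 1).drop 1).drop 1).drop 1).drop 1).drop 1).drop 1).drop 1).drop 1).drop 1).drop 1).take 1) (Ag Fi24.A FiHe.A 19 (ivl 0 2058) 0x102 act2_ws 0) = true := by decide +kernel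

theorem act2_ag_58 : allL (((((((((((((((((((((((((((((((((((((((((((((((((((((((((((((agList 0 7 19)).drop 1).drop 1).drop 1).drop 1).drop 1).drop 1).drop 1).drop 1).drop 1).drop 1).drop 1).drop 1).drop 1).drop 1).drop 1).drop 1).drop 1).drop 1).drop 1).drop 1).drop 1).drop 1).drop 1).drop 1).drop 1).drop 1).drop 1).drop 1).drop 1).drop 1).drop 1).drop 1).drop 1).drop 1).drop 1).drop 1).drop 1).drop 1).drop 1).drop 1).drop 1).drop 1).drop 1).drop 1).drop 1).drop 1).drop 1).drop 1).drop 1).drop 1).drop 1).drop 1).drop 1).drop 1).drop 1).drop 1).drop 1).drop 1).take 1) (Ag Fi24.A FiHe.A 19 (ivl 0 2058) 0x102 act2_ws 0) = true := by decide +kernel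

theorem act2_ag_59 : allL ((((((((((((((((((((((((((((((((((((((((((((((((((((((((((((((agList 0 7 19)).drop 1).drop 1).drop 1).drop 1).drop 1).drop 1).drop 1).drop 1).drop 1).drop 1).drop 1).drop 1).drop 1).drop 1).drop 1).drop 1).drop 1).drop 1).drop 1).drop 1).drop 1).drop 1).drop 1).drop 1).drop 1).drop 1).drop 1).drop 1).drop 1).drop 1).drop 1).drop 1).drop 1).drop 1).drop 1).drop 1).drop 1).drop 1).drop 1).drop 1).drop 1).drop 1).drop 1).drop 1).drop 1).drop 1).drop 1).drop 1).drop 1).drop 1).drop 1).drop 1).drop 1).drop 1).drop 1).drop 1).drop 1).drop 1).drop 1).take 1) (Ag Fi24.A FiHe.A 19 (ivl 0 2058) 0x102 act2_ws 0) = true := by decide +kernel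

theorem act2_ag_60 : allL (((((((((((((((((((((((((((((((((((((((((((((((((((((((((((((((agList 0 7 19)).drop 1).drop 1).drop 1).drop 1).drop 1).drop 1).drop 1).drop 1).drop 1).drop 1).drop 1).drop 1).drop 1).drop 1).drop 1).drop 1).drop 1).drop 1).drop 1).drop 1).drop 1).drop 1).drop 1).drop 1).drop 1).drop 1).drop 1).drop 1).drop 1).drop 1).drop 1).drop 1).drop 1).drop 1).drop 1).drop 1).drop 1).drop 1).drop 1).drop 1).drop 1).drop 1).drop 1).drop 1).drop 1).drop 1).drop 1).drop 1).drop 1).drop 1).drop 1).drop 1).drop 1).drop 1).drop 1).drop 1).drop 1).drop 1).drop 1).drop 1).take 1) (Ag Fi24.A FiHe.A 19 (ivl 0 2058) 0x102 act2_ws 0) = true := by decide +kernel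

theorem act2_ag_61 : allL ((((((((((((((((((((((((((((((((((((((((((((((((((((((((((((((((agList 0 7 19)).drop 1).drop 1).drop 1).drop 1).drop 1).drop 1).drop 1).drop 1).drop 1).drop 1).drop 1).drop 1).drop 1).drop 1).drop 1).drop 1).drop 1).drop 1).drop 1).drop 1).drop 1).drop 1).drop 1).drop 1).drop 1).drop 1).drop 1).drop 1).drop 1).drop 1).drop 1).drop 1).drop 1).drop 1).drop 1).drop 1).drop 1).drop 1).drop 1).drop 1).drop 1).drop 1).drop 1).drop 1).drop 1).drop 1).drop 1).drop 1).drop 1).drop 1).drop 1).drop 1).drop 1).drop 1).drop 1).drop 1).drop 1).drop 1).drop 1).drop 1).drop 1).take 1) (Ag Fi24.A FiHe.A 19 (ivl 0 2058) 0x102 act2_ws 0) = true := by decide +kernel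

theorem act2_ag_62 : allL (((((((((((((((((((((((((((((((((((((((((((((((((((((((((((((((((agList 0 7 19)).drop 1).drop 1).drop 1).drop 1).drop 1).drop 1).drop 1).drop 1).drop 1).drop 1).drop 1).drop 1).drop 1).drop 1).drop 1).drop 1).drop 1).drop 1).drop 1).drop 1).drop 1).drop 1).drop 1).drop 1).drop 1).drop 1).drop 1).drop 1).drop 1).drop 1).drop 1).drop 1).drop 1).drop 1).drop 1).drop 1).drop 1).drop 1).drop 1).drop 1).drop 1).drop 1).drop 1).drop 1).drop 1).drop 1).drop 1).drop 1).drop 1).drop 1).drop 1).drop 1).drop 1).drop 1).drop 1).drop 1).drop 1).drop 1).drop 1).drop 1).drop 1).drop 1).take 1) (Ag Fi24.A FiHe.A 19 (ivl 0 2058) 0x102 act2_ws 0) = true := by decide +kernel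

theorem act2_ag_63 : allL ((((((((((((((((((((((((((((((((((((((((((((((((((((((((((((((((((agList 0 7 19)).drop 1).drop 1).drop 1).drop 1).drop 1).drop 1).drop 1).drop 1).drop 1).drop 1).drop 1).drop 1).drop 1).drop 1).drop 1).drop 1).drop 1).drop 1).drop 1).drop 1).drop 1).drop 1).drop 1).drop 1).drop 1).drop 1).drop 1).drop 1).drop 1).drop 1).drop 1).drop 1).drop 1).drop 1).drop 1).drop 1).drop 1).drop 1).drop 1).drop 1).drop 1).drop 1).drop 1).drop 1).drop 1).drop 1).drop 1).drop 1).drop 1).drop 1).drop 1).drop 1).drop 1).drop 1).drop 1).drop 1).drop 1).drop 1).drop 1).drop 1).drop 1).drop 1).drop 1).take 1) (Ag Fi24.A FiHe.A 19 (ivl 0 2058) 0x102 act2_ws 0) = true := by decide +kernel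

theorem act2_ag_64 : allL (((((((((((((((((((((((((((((((((((((((((((((((((((((((((((((((((((agList 0 7 19)).drop 1).drop 1).drop 1).drop 1).drop 1).drop 1).drop 1).drop 1).drop 1).drop 1).drop 1).drop 1).drop 1).drop 1).drop 1).drop 1).drop 1).drop 1).drop 1).drop 1).drop 1).drop 1).drop 1).drop 1).drop 1).drop 1).drop 1).drop 1).drop 1).drop 1).drop 1).drop 1).drop 1).drop 1).drop 1).drop 1).drop 1).drop 1).drop 1).drop 1).drop 1).drop 1).drop 1).drop 1).drop 1).drop 1).drop 1).drop 1).drop 1).drop 1).drop 1).drop 1).drop 1).drop 1).drop 1).drop 1).drop 1).drop 1).drop 1).drop 1).drop 1).drop 1).drop 1).drop 1).take 1) (Ag Fi24.A FiHe.A 19 (ivl 0 2058) 0x102 act2_ws 0) = true := by decide +kernel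

theorem act2_ag_65 : allL ((((((((((((((((((((((((((((((((((((((((((((((((((((((((((((((((((((agList 0 7 19)).drop 1).drop 1).drop 1).drop 1).drop 1).drop 1).drop 1).drop 1).drop 1).drop 1).drop 1).drop 1).drop 1).drop 1).drop 1).drop 1).drop 1).drop 1).drop 1).drop 1).drop 1).drop 1).drop 1).drop 1).drop 1).drop 1).drop 1).drop 1).drop 1).drop 1).drop 1).drop 1).drop 1).drop 1).drop 1).drop 1).drop 1).drop 1).drop 1).drop 1).drop 1).drop 1).drop 1).drop 1).drop 1).drop 1).drop 1).drop 1).drop 1).drop 1).drop 1).drop 1).drop 1).drop 1).drop 1).drop 1).drop 1).drop 1).drop 1).drop 1).drop 1).drop 1).drop 1).drop 1).drop 1).take 1) (Ag Fi24.A FiHe.A 19 (ivl 0 2058) 0x102 act2_ws 0) = true := by decide +kernel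

theorem act2_ag_66 : allL (((((((((((((((((((((((((((((((((((((((((((((((((((((((((((((((((((((agList 0 7 19)).drop 1).drop 1).drop 1).drop 1).drop 1).drop 1).drop 1).drop 1).drop 1).drop 1).drop 1).drop 1).drop 1).drop 1).drop 1).drop 1).drop 1).drop 1).drop 1).drop 1).drop 1).drop 1).drop 1).drop 1).drop 1).drop 1).drop 1).drop 1).drop 1).drop 1).drop 1).drop 1).drop 1).drop 1).drop 1).drop 1).drop 1).drop 1).drop 1).drop 1).drop 1).drop 1).drop 1).drop 1).drop 1).drop 1).drop 1).drop 1).drop 1).drop 1).drop 1).drop 1).drop 1).drop 1).drop 1).drop 1).drop 1).drop 1).drop 1).drop 1).drop 1).drop 1).drop 1).drop 1).drop 1).drop 1).take 1) (Ag Fi24.A FiHe.A 19 (ivl 0 2058) 0x102 act2_ws 0) = true := by decide +kernel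

theorem act2_ag_67 : allL ((((((((((((((((((((((((((((((((((((((((((((((((((((((((((((((((((((((agList 0 7 19)).drop 1).drop 1).drop 1).drop 1).drop 1).drop 1).drop 1).drop 1).drop 1).drop 1).drop 1).drop 1).drop 1).drop 1).drop 1).drop 1).drop 1).drop 1).drop 1).drop 1).drop 1).drop 1).drop 1).drop 1).drop 1).drop 1).drop 1).drop 1).drop 1).drop 1).drop 1).drop 1).drop 1).drop 1).drop 1).drop 1).drop 1).drop 1).drop 1).drop 1).drop 1).drop 1).drop 1).drop 1).drop 1).drop 1).drop 1).drop 1).drop 1).drop 1).drop 1).drop 1).drop 1).drop 1).drop 1).drop 1).drop 1).drop 1).drop 1).drop 1).drop 1).drop 1).drop 1).drop 1).drop 1).drop 1).drop 1).take 1) (Ag Fi24.A FiHe.A 19 (ivl 0 2058) 0x102 act2_ws 0) = true := by decide +kernel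

theorem act2_ag_68 : allL (((((((((((((((((((((((((((((((((((((((((((((((((((((((((((((((((((((((agList 0 7 19)).drop 1).drop 1).drop 1).drop 1).drop 1).drop 1).drop 1).drop 1).drop 1).drop 1).drop 1).drop 1).drop 1).drop 1).drop 1).drop 1).drop 1).drop 1).drop 1).drop 1).drop 1).drop 1).drop 1).drop 1).drop 1).drop 1).drop 1).drop 1).drop 1).drop 1).drop 1).drop 1).drop 1).drop 1).drop 1).drop 1).drop 1).drop 1).drop 1).drop 1).drop 1).drop 1).drop 1).drop 1).drop 1).drop 1).drop 1).drop 1).drop 1).drop 1).drop 1).drop 1).drop 1).drop 1).drop 1).drop 1).drop 1).drop 1).drop 1).drop 1).drop 1).drop 1).drop 1).drop 1).drop 1).drop 1).drop 1).drop 1).take 1) (Ag Fi24.A FiHe.A 19 (ivl 0 2058) 0x102 act2_ws 0) = true := by decide +kernel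

theorem act2_ag_69 : allL ((((((((((((((((((((((((((((((((((((((((((((((((((((((((((((((((((((((((agList 0 7 19)).drop 1).drop 1).drop 1).drop 1).drop 1).drop 1).drop 1).drop 1).drop 1).drop 1).drop 1).drop 1).drop 1).drop 1).drop 1).drop 1).drop 1).drop 1).drop 1).drop 1).drop 1).drop 1).drop 1).drop 1).drop 1).drop 1).drop 1).drop 1).drop 1).drop 1).drop 1).drop 1).drop 1).drop 1).drop 1).drop 1).drop 1).drop 1).drop 1).drop 1).drop 1).drop 1).drop 1).drop 1).drop 1).drop 1).drop 1).drop 1).drop 1).drop 1).drop 1).drop 1).drop 1).drop 1).drop 1).drop 1).drop 1).drop 1).drop 1).drop 1).drop 1).drop 1).drop 1).drop 1).drop 1).drop 1).drop 1).drop 1).drop 1).take 1) (Ag Fi24.A FiHe.A 19 (ivl 0 2058) 0x102 act2_ws 0) = true := by decide +kernel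

theorem act2_ag_70 : allL (((((((((((((((((((((((((((((((((((((((((((((((((((((((((((((((((((((((((agList 0 7 19)).drop 1).drop 1).drop 1).drop 1).drop 1).drop 1).drop 1).drop 1).drop 1).drop 1).drop 1).drop 1).drop 1).drop 1).drop 1).drop 1).drop 1).drop 1).drop 1).drop 1).drop 1).drop 1).drop 1).drop 1).drop 1).drop 1).drop 1).drop 1).drop 1).drop 1).drop 1).drop 1).drop 1).drop 1).drop 1).drop 1).drop 1).drop 1).drop 1).drop 1).drop 1).drop 1).drop 1).drop 1).drop 1).drop 1).drop 1).drop 1).drop 1).drop 1).drop 1).drop 1).drop 1).drop 1).drop 1).drop 1).drop 1).drop 1).drop 1).drop 1).drop 1).drop 1).drop 1).drop 1).drop 1).drop 1).drop 1).drop 1).drop 1).drop 1).take 1) (Ag Fi24.A FiHe.A 19 (ivl 0 2058) 0x102 act2_ws 0) = true := by decide +kernel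

theorem act2_ag_71 : allL ((((((((((((((((((((((((((((((((((((((((((((((((((((((((((((((((((((((((((agList 0 7 19)).drop 1).drop 1).drop 1).drop 1).drop 1).drop 1).drop 1).drop 1).drop 1).drop 1).drop 1).drop 1).drop 1).drop 1).drop 1).drop 1).drop 1).drop 1).drop 1).drop 1).drop 1).drop 1).drop 1).drop 1).drop 1).drop 1).drop 1).drop 1).drop 1).drop 1).drop 1).drop 1).drop 1).drop 1).drop 1).drop 1).drop 1).drop 1).drop 1).drop 1).drop 1).drop 1).drop 1).drop 1).drop 1).drop 1).drop 1).drop 1).drop 1).drop 1).drop 1).drop 1).drop 1).drop 1).drop 1).drop 1).drop 1).drop 1).drop 1).drop 1).drop 1).drop 1).drop 1).drop 1).drop 1).drop 1).drop 1).drop 1).drop 1).drop 1).drop 1).take 1) (Ag Fi24.A FiHe.A 19 (ivl 0 2058) 0x102 act2_ws 0) = true := by decide +kernel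

theorem act2_ag_72 : allL (((((((((((((((((((((((((((((((((((((((((((((((((((((((((((((((((((((((((((agList 0 7 19)).drop 1).drop 1).drop 1).drop 1).drop 1).drop 1).drop 1).drop 1).drop 1).drop 1).drop 1).drop 1).drop 1).drop 1).drop 1).drop 1).drop 1).drop 1).drop 1).drop 1).drop 1).drop 1).drop 1).drop 1).drop 1).drop 1).drop 1).drop 1).drop 1).drop 1).drop 1).drop 1).drop 1).drop 1).drop 1).drop 1).drop 1).drop 1).drop 1).drop 1).drop 1).drop 1).drop 1).drop 1).drop 1).drop 1).drop 1).drop 1).drop 1).drop 1).drop 1).drop 1).drop 1).drop 1).drop 1).drop 1).drop 1).drop 1).drop 1).drop 1).drop 1).drop 1).drop 1).drop 1).drop 1).drop 1).drop 1).drop 1).drop 1).drop 1).drop 1).drop 1).take 1) (Ag Fi24.A FiHe.A 19 (ivl 0 2058) 0x102 act2_ws 0) = true := by decide +kernel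

theorem act2_ag_73 : allL ((((((((((((((((((((((((((((((((((((((((((((((((((((((((((((((((((((((((((((agList 0 7 19)).drop 1).drop 1).drop 1).drop 1).drop 1).drop 1).drop 1).drop 1).drop 1).drop 1).drop 1).drop 1).drop 1).drop 1).drop 1).drop 1).drop 1).drop 1).drop 1).drop 1).drop 1).drop 1).drop 1).drop 1).drop 1).drop 1).drop 1).drop 1).drop 1).drop 1).drop 1).drop 1).drop 1).drop 1).drop 1).drop 1).drop 1).drop 1).drop 1).drop 1).drop 1).drop 1).drop 1).drop 1).drop 1).drop 1).drop 1).drop 1).drop 1).drop 1).drop 1).drop 1).drop 1).drop 1).drop 1).drop 1).drop 1).drop 1).drop 1).drop 1).drop 1).drop 1).drop 1).drop 1).drop 1).drop 1).drop 1).drop 1).drop 1).drop 1).drop 1).drop 1).drop 1).take 1) (Ag Fi24.A FiHe.A 19 (ivl 0 2058) 0x102 act2_ws 0) = true := by decide +kernel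

theorem act2_ag_74 : allL (((((((((((((((((((((((((((((((((((((((((((((((((((((((((((((((((((((((((((((agList 0 7 19)).drop 1).drop 1).drop 1).drop 1).drop 1).drop 1).drop 1).drop 1).drop 1).drop 1).drop 1).drop 1).drop 1).drop 1).drop 1).drop 1).drop 1).drop 1).drop 1).drop 1).drop 1).drop 1).drop 1).drop 1).drop 1).drop 1).drop 1).drop 1).drop 1).drop 1).drop 1).drop 1).drop 1).drop 1).drop 1).drop 1).drop 1).drop 1).drop 1).drop 1).drop 1).drop 1).drop 1).drop 1).drop 1).drop 1).drop 1).drop 1).drop 1).drop 1).drop 1).drop 1).drop 1).drop 1).drop 1).drop 1).drop 1).drop 1).drop 1).drop 1).drop 1).drop 1).drop 1).drop 1).drop 1).drop 1).drop 1).drop 1).drop 1).drop 1).drop 1).drop 1).drop 1).drop 1).take 1) (Ag Fi24.A FiHe.A 19 (ivl 0 2058) 0x102 act2_ws 0) = true := by decide +kernel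

theorem act2_ag_75 : allL ((((((((((((((((((((((((((((((((((((((((((((((((((((((((((((((((((((((((((((((agList 0 7 19)).drop 1).drop 1).drop 1).drop 1).drop 1).drop 1).drop 1).drop 1).drop 1).drop 1).drop 1).drop 1).drop 1).drop 1).drop 1).drop 1).drop 1).drop 1).drop 1).drop 1).drop 1).drop 1).drop 1).drop 1).drop 1).drop 1).drop 1).drop 1).drop 1).drop 1).drop 1).drop 1).drop 1).drop 1).drop 1).drop 1).drop 1).drop 1).drop 1).drop 1).drop 1).drop 1).drop 1).drop 1).drop 1).drop 1).drop 1).drop 1).drop 1).drop 1).drop 1).drop 1).drop 1).drop 1).drop 1).drop 1).drop 1).drop 1).drop 1).drop 1).drop 1).drop 1).drop 1).drop 1).drop 1).drop 1).drop 1).drop 1).drop 1).drop 1).drop 1).drop 1).drop 1).drop 1).drop 1).take 1) (Ag Fi24.A FiHe.A 19 (ivl 0 2058) 0x102 act2_ws 0) = true := by decide +kernel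

theorem act2_ag_76 : allL (((((((((((((((((((((((((((((((((((((((((((((((((((((((((((((((((((((((((((((((agList 0 7 19)).drop 1).drop 1).drop 1).drop 1).drop 1).drop 1).drop 1).drop 1).drop 1).drop 1).drop 1).drop 1).drop 1).drop 1).drop 1).drop 1).drop 1).drop 1).drop 1).drop 1).drop 1).drop 1).drop 1).drop 1).drop 1).drop 1).drop 1).drop 1).drop 1).drop 1).drop 1).drop 1).drop 1).drop 1).drop 1).drop 1).drop 1).drop 1).drop 1).drop 1).drop 1).drop 1).drop 1).drop 1).drop 1).drop 1).drop 1).drop 1).drop 1).drop 1).drop 1).drop 1).drop 1).drop 1).drop 1).drop 1).drop 1).drop 1).drop 1).drop 1).drop 1).drop 1).drop 1).drop 1).drop 1).drop 1).drop 1).drop 1).drop 1).drop 1).drop 1).drop 1).drop 1).drop 1).drop 1).drop 1).take 1) (Ag Fi24.A FiHe.A 19 (ivl 0 2058) 0x102 act2_ws 0) = true := by decide +kernel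

theorem act2_ag_77 : allL ((((((((((((((((((((((((((((((((((((((((((((((((((((((((((((((((((((((((((((((((agList 0 7 19)).drop 1).drop 1).drop 1).drop 1).drop 1).drop 1).drop 1).drop 1).drop 1).drop 1).drop 1).drop 1).drop 1).drop 1).drop 1).drop 1).drop 1).drop 1).drop 1).drop 1).drop 1).drop 1).drop 1).drop 1).drop 1).drop 1).drop 1).drop 1).drop 1).drop 1).drop 1).drop 1).drop 1).drop 1).drop 1).drop 1).drop 1).drop 1).drop 1).drop 1).drop 1).drop 1).drop 1).drop 1).drop 1).drop 1).drop 1).drop 1).drop 1).drop 1).drop 1).drop 1).drop 1).drop 1).drop 1).drop 1).drop 1).drop 1).drop 1).drop 1).drop 1).drop 1).drop 1).drop 1).drop 1).drop 1).drop 1).drop 1).drop 1).drop 1).drop 1).drop 1).drop 1).drop 1).drop 1).drop 1).drop 1).take 1) (Ag Fi24.A FiHe.A 19 (ivl 0 2058) 0x102 act2_ws 0) = true := by decide +kernel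

theorem act2_ag_78 : allL (((((((((((((((((((((((((((((((((((((((((((((((((((((((((((((((((((((((((((((((((agList 0 7 19)).drop 1).drop 1).drop 1).drop 1).drop 1).drop 1).drop 1).drop 1).drop 1).drop 1).drop 1).drop 1).drop 1).drop 1).drop 1).drop 1).drop 1).drop 1).drop 1).drop 1).drop 1).drop 1).drop 1).drop 1).drop 1).drop 1).drop 1).drop 1).drop 1).drop 1).drop 1).drop 1).drop 1).drop 1).drop 1).drop 1).drop 1).drop 1).drop 1).drop 1).drop 1).drop 1).drop 1).drop 1).drop 1).drop 1).drop 1).drop 1).drop 1).drop 1).drop 1).drop 1).drop 1).drop 1).drop 1).drop 1).drop 1).drop 1).drop 1).drop 1).drop 1).drop 1).drop 1).drop 1).drop 1).drop 1).drop 1).drop 1).drop 1).drop 1).drop 1).drop 1).drop 1).drop 1).drop 1).drop 1).drop 1).drop 1).take 1) (Ag Fi24.A FiHe.A 19 (ivl 0 2058) 0x102 act2_ws 0) = true := by decide +kernel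

theorem act2_ag_79 : allL ((((((((((((((((((((((((((((((((((((((((((((((((((((((((((((((((((((((((((((((((((agList 0 7 19)).drop 1).drop 1).drop 1).drop 1).drop 1).drop 1).drop 1).drop 1).drop 1).drop 1).drop 1).drop 1).drop 1).drop 1).drop 1).drop 1).drop 1).drop 1).drop 1).drop 1).drop 1).drop 1).drop 1).drop 1).drop 1).drop 1).drop 1).drop 1).drop 1).drop 1).drop 1).drop 1).drop 1).drop 1).drop 1).drop 1).drop 1).drop 1).drop 1).drop 1).drop 1).drop 1).drop 1).drop 1).drop 1).drop 1).drop 1).drop 1).drop 1).drop 1).drop 1).drop 1).drop 1).drop 1).drop 1).drop 1).drop 1).drop 1).drop 1).drop 1).drop 1).drop 1).drop 1).drop 1).drop 1).drop 1).drop 1).drop 1).drop 1).drop 1).drop 1).drop 1).drop 1).drop 1).drop 1).drop 1).drop 1).drop 1).drop 1).take 1) (Ag Fi24.A FiHe.A 19 (ivl 0 2058) 0x102 act2_ws 0) = true := by decide +kernel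

theorem act2_ag_80 : allL (((((((((((((((((((((((((((((((((((((((((((((((((((((((((((((((((((((((((((((((((((agList 0 7 19)).drop 1).drop 1).drop 1).drop 1).drop 1).drop 1).drop 1).drop 1).drop 1).drop 1).drop 1).drop 1).drop 1).drop 1).drop 1).drop 1).drop 1).drop 1).drop 1).drop 1).drop 1).drop 1).drop 1).drop 1).drop 1).drop 1).drop 1).drop 1).drop 1).drop 1).drop 1).drop 1).drop 1).drop 1).drop 1).drop 1).drop 1).drop 1).drop 1).drop 1).drop 1).drop 1).drop 1).drop 1).drop 1).drop 1).drop 1).drop 1).drop 1).drop 1).drop 1).drop 1).drop 1).drop 1).drop 1).drop 1).drop 1).drop 1).drop 1).drop 1).drop 1).drop 1).drop 1).drop 1).drop 1).drop 1).drop 1).drop 1).drop 1).drop 1).drop 1).drop 1).drop 1).drop 1).drop 1).drop 1).drop 1).drop 1).drop 1).drop 1).take 1) (Ag Fi24.A FiHe.A 19 (ivl 0 2058) 0x102 act2_ws 0) = true := by decide +kernel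

theorem act2_ag_81 : allL ((((((((((((((((((((((((((((((((((((((((((((((((((((((((((((((((((((((((((((((((((((agList 0 7 19)).drop 1).drop 1).drop 1).drop 1).drop 1).drop 1).drop 1).drop 1).drop 1).drop 1).drop 1).drop 1).drop 1).drop 1).drop 1).drop 1).drop 1).drop 1).drop 1).drop 1).drop 1).drop 1).drop 1).drop 1).drop 1).drop 1).drop 1).drop 1).drop 1).drop 1).drop 1).drop 1).drop 1).drop 1).drop 1).drop 1).drop 1).drop 1).drop 1).drop 1).drop 1).drop 1).drop 1).drop 1).drop 1).drop 1).drop 1).drop 1).drop 1).drop 1).drop 1).drop 1).drop 1).drop 1).drop 1).drop 1).drop 1).drop 1).drop 1).drop 1).drop 1).drop 1).drop 1).drop 1).drop 1).drop 1).drop 1).drop 1).drop 1).drop 1).drop 1).drop 1).drop 1).drop 1).drop 1).drop 1).drop 1).drop 1).drop 1).drop 1).drop 1).take 1) (Ag Fi24.A FiHe.A 19 (ivl 0 2058) 0x102 act2_ws 0) = true := by decide +kernel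

theorem act2_ag_82 : allL (((((((((((((((((((((((((((((((((((((((((((((((((((((((((((((((((((((((((((((((((((((agList 0 7 19)).drop 1).drop 1).drop 1).drop 1).drop 1).drop 1).drop 1).drop 1).drop 1).drop 1).drop 1).drop 1).drop 1).drop 1).drop 1).drop 1).drop 1).drop 1).drop 1).drop 1).drop 1).drop 1).drop 1).drop 1).drop 1).drop 1).drop 1).drop 1).drop 1).drop 1).drop 1).drop 1).drop 1).drop 1).drop 1).drop 1).drop 1).drop 1).drop 1).drop 1).drop 1).drop 1).drop 1).drop 1).drop 1).drop 1).drop 1).drop 1).drop 1).drop 1).drop 1).drop 1).drop 1).drop 1).drop 1).drop 1).drop 1).drop 1).drop 1).drop 1).drop 1).drop 1).drop 1).drop 1).drop 1).drop 1).drop 1).drop 1).drop 1).drop 1).drop 1).drop 1).drop 1).drop 1).drop 1).drop 1).drop 1).drop 1).drop 1).drop 1).drop 1).drop 1).take 1) (Ag Fi24.A FiHe.A 19 (ivl 0 2058) 0x102 act2_ws 0) = true := by decide +kernel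

theorem act2_ag_83 : allL ((((((((((((((((((((((((((((((((((((((((((((((((((((((((((((((((((((((((((((((((((((((agList 0 7 19)).drop 1).drop 1).drop 1).drop 1).drop 1).drop 1).drop 1).drop 1).drop 1).drop 1).drop 1).drop 1).drop 1).drop 1).drop 1).drop 1).drop 1).drop 1).drop 1).drop 1).drop 1).drop 1).drop 1).drop 1).drop 1).drop 1).drop 1).drop 1).drop 1).drop 1).drop 1).drop 1).drop 1).drop 1).drop 1).drop 1).drop 1).drop 1).drop 1).drop 1).drop 1).drop 1).drop 1).drop 1).drop 1).drop 1).drop 1).drop 1).drop 1).drop 1).drop 1).drop 1).drop 1).drop 1).drop 1).drop 1).drop 1).drop 1).drop 1).drop 1).drop 1).drop 1).drop 1).drop 1).drop 1).drop 1).drop 1).drop 1).drop 1).drop 1).drop 1).drop 1).drop 1).drop 1).drop 1).drop 1).drop 1).drop 1).drop 1).drop 1).drop 1).drop 1).drop 1).take 1) (Ag Fi24.A FiHe.A 19 (ivl 0 2058) 0x102 act2_ws 0) = true := by decide +kernel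

theorem act2_ag_84 : allL (((((((((((((((((((((((((((((((((((((((((((((((((((((((((((((((((((((((((((((((((((((((agList 0 7 19)).drop 1).drop 1).drop 1).drop 1).drop 1).drop 1).drop 1).drop 1).drop 1).drop 1).drop 1).drop 1).drop 1).drop 1).drop 1).drop 1).drop 1).drop 1).drop 1).drop 1).drop 1).drop 1).drop 1).drop 1).drop 1).drop 1).drop 1).drop 1).drop 1).drop 1).drop 1).drop 1).drop 1).drop 1).drop 1).drop 1).drop 1).drop 1).drop 1).drop 1).drop 1).drop 1).drop 1).drop 1).drop 1).drop 1).drop 1).drop 1).drop 1).drop 1).drop 1).drop 1).drop 1).drop 1).drop 1).drop 1).drop 1).drop 1).drop 1).drop 1).drop 1).drop 1).drop 1).drop 1).drop 1).drop 1).drop 1).drop 1).drop 1).drop 1).drop 1).drop 1).drop 1).drop 1).drop 1).drop 1).drop 1).drop 1).drop 1).drop 1).drop 1).drop 1).drop 1).drop 1).take 1) (Ag Fi24.A FiHe.A 19 (ivl 0 2058) 0x102 act2_ws 0) = true := by decide +kernel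

theorem act2_ag_85 : allL ((((((((((((((((((((((((((((((((((((((((((((((((((((((((((((((((((((((((((((((((((((((((agList 0 7 19)).drop 1).drop 1).drop 1).drop 1).drop 1).drop 1).drop 1).drop 1).drop 1).drop 1).drop 1).drop 1).drop 1).drop 1).drop 1).drop 1).drop 1).drop 1).drop 1).drop 1).drop 1).drop 1).drop 1).drop 1).drop 1).drop 1).drop 1).drop 1).drop 1).drop 1).drop 1).drop 1).drop 1).drop 1).drop 1).drop 1).drop 1).drop 1).drop 1).drop 1).drop 1).drop 1).drop 1).drop 1).drop 1).drop 1).drop 1).drop 1).drop 1).drop 1).drop 1).drop 1).drop 1).drop 1).drop 1).drop 1).drop 1).drop 1).drop 1).drop 1).drop 1).drop 1).drop 1).drop 1).drop 1).drop 1).drop 1).drop 1).drop 1).drop 1).drop 1).drop 1).drop 1).drop 1).drop 1).drop 1).drop 1).drop 1).drop 1).drop 1).drop 1).drop 1).drop 1).drop 1).drop 1).take 1) (Ag Fi24.A FiHe.A 19 (ivl 0 2058) 0x102 act2_ws 0) = true := by decide +kernel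

theorem act2_ag_86 : allL (((((((((((((((((((((((((((((((((((((((((((((((((((((((((((((((((((((((((((((((((((((((((agList 0 7 19)).drop 1).drop 1).drop 1).drop 1).drop 1).drop 1).drop 1).drop 1).drop 1).drop 1).drop 1).drop 1).drop 1).drop 1).drop 1).drop 1).drop 1).drop 1).drop 1).drop 1).drop 1).drop 1).drop 1).drop 1).drop 1).drop 1).drop 1).drop 1).drop 1).drop 1).drop 1).drop 1).drop 1).drop 1).drop 1).drop 1).drop 1).drop 1).drop 1).drop 1).drop 1).drop 1).drop 1).drop 1).drop 1).drop 1).drop 1).drop 1).drop 1).drop 1).drop 1).drop 1).drop 1).drop 1).drop 1).drop 1).drop 1).drop 1).drop 1).drop 1).drop 1).drop 1).drop 1).drop 1).drop 1).drop 1).drop 1).drop 1).drop 1).drop 1).drop 1).drop 1).drop 1).drop 1).drop 1).drop 1).drop 1).drop 1).drop 1).drop 1).drop 1).drop 1).drop 1).drop 1).drop 1).drop 1).take 1) (Ag Fi24.A FiHe.A 19 (ivl 0 2058) 0x102 act2_ws 0) = true := by decide +kernel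

theorem act2_ag_87 : allL ((((((((((((((((((((((((((((((((((((((((((((((((((((((((((((((((((((((((((((((((((((((((((agList 0 7 19)).drop 1).drop 1).drop 1).drop 1).drop 1).drop 1).drop 1).drop 1).drop 1).drop 1).drop 1).drop 1).drop 1).drop 1).drop 1).drop 1).drop 1).drop 1).drop 1).drop 1).drop 1).drop 1).drop 1).drop 1).drop 1).drop 1).drop 1).drop 1).drop 1).drop 1).drop 1).drop 1).drop 1).drop 1).drop 1).drop 1).drop 1).drop 1).drop 1).drop 1).drop 1).drop 1).drop 1).drop 1).drop 1).drop 1).drop 1).drop 1).drop 1).drop 1).drop 1).drop 1).drop 1).drop 1).drop 1).drop 1).drop 1).drop 1).drop 1).drop 1).drop 1).drop 1).drop 1).drop 1).drop 1).drop 1).drop 1).drop 1).drop 1).drop 1).drop 1).drop 1).drop 1).drop 1).drop 1).drop 1).drop 1).drop 1).drop 1).drop 1).drop 1).drop 1).drop 1).drop 1).drop 1).drop 1).drop 1).take 1) (Ag Fi24.A FiHe.A 19 (ivl 0 2058) 0x102 act2_ws 0) = true := by decide +kernel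

theorem act2_ag_88 : allL (((((((((((((((((((((((((((((((((((((((((((((((((((((((((((((((((((((((((((((((((((((((((((agList 0 7 19)).drop 1).drop 1).drop 1).drop 1).drop 1).drop 1).drop 1).drop 1).drop 1).drop 1).drop 1).drop 1).drop 1).drop 1).drop 1).drop 1).drop 1).drop 1).drop 1).drop 1).drop 1).drop 1).drop 1).drop 1).drop 1).drop 1).drop 1).drop 1).drop 1).drop 1).drop 1).drop 1).drop 1).drop 1).drop 1).drop 1).drop 1).drop 1).drop 1).drop 1).drop 1).drop 1).drop 1).drop 1).drop 1).drop 1).drop 1).drop 1).drop 1).drop 1).drop 1).drop 1).drop 1).drop 1).drop 1).drop 1).drop 1).drop 1).drop 1).drop 1).drop 1).drop 1).drop 1).drop 1).drop 1).drop 1).drop 1).drop 1).drop 1).drop 1).drop 1).drop 1).drop 1).drop 1).drop 1).drop 1).drop 1).drop 1).drop 1).drop 1).drop 1).drop 1).drop 1).drop 1).drop 1).drop 1).drop 1).drop 1).take 1) (Ag Fi24.A FiHe.A 19 (ivl 0 2058) 0x102 act2_ws 0) = true := by decide +kernel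

theorem act2_ag_89 : allL ((((((((((((((((((((((((((((((((((((((((((((((((((((((((((((((((((((((((((((((((((((((((((((agList 0 7 19)).drop 1).drop 1).drop 1).drop 1).drop 1).drop 1).drop 1).drop 1).drop 1).drop 1).drop 1).drop 1).drop 1).drop 1).drop 1).drop 1).drop 1).drop 1).drop 1).drop 1).drop 1).drop 1).drop 1).drop 1).drop 1).drop 1).drop 1).drop 1).drop 1).drop 1).drop 1).drop 1).drop 1).drop 1).drop 1).drop 1).drop 1).drop 1).drop 1).drop 1).drop 1).drop 1).drop 1).drop 1).drop 1).drop 1).drop 1).drop 1).drop 1).drop 1).drop 1).drop 1).drop 1).drop 1).drop 1).drop 1).drop 1).drop 1).drop 1).drop 1).drop 1).drop 1).drop 1).drop 1).drop 1).drop 1).drop 1).drop 1).drop 1).drop 1).drop 1).drop 1).drop 1).drop 1).drop 1).drop 1).drop 1).drop 1).drop 1).drop 1).drop 1).drop 1).drop 1).drop 1).drop 1).drop 1).drop 1).drop 1).drop 1).take 1) (Ag Fi24.A FiHe.A 19 (ivl 0 2058) 0x102 act2_ws 0) = true := by decide +kernel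

theorem act2_ag_90 : allL (((((((((((((((((((((((((((((((((((((((((((((((((((((((((((((((((((((((((((((((((((((((((((((agList 0 7 19)).drop 1).drop 1).drop 1).drop 1).drop 1).drop 1).drop 1).drop 1).drop 1).drop 1).drop 1).drop 1).drop 1).drop 1).drop 1).drop 1).drop 1).drop 1).drop 1).drop 1).drop 1).drop 1).drop 1).drop 1).drop 1).drop 1).drop 1).drop 1).drop 1).drop 1).drop 1).drop 1).drop 1).drop 1).drop 1).drop 1).drop 1).drop 1).drop 1).drop 1).drop 1).drop 1).drop 1).drop 1).drop 1).drop 1).drop 1).drop 1).drop 1).drop 1).drop 1).drop 1).drop 1).drop 1).drop 1).drop 1).drop 1).drop 1).drop 1).drop 1).drop 1).drop 1).drop 1).drop 1).drop 1).drop 1).drop 1).drop 1).drop 1).drop 1).drop 1).drop 1).drop 1).drop 1).drop 1).drop 1).drop 1).drop 1).drop 1).drop 1).drop 1).drop 1).drop 1).drop 1).drop 1).drop 1).drop 1).drop 1).drop 1).drop 1).take 1) (Ag Fi24.A FiHe.A 19 (ivl 0 2058) 0x102 act2_ws 0) = true := by decide +kernel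

theorem act2_ag_91 : allL ((((((((((((((((((((((((((((((((((((((((((((((((((((((((((((((((((((((((((((((((((((((((((((((agList 0 7 19)).drop 1).drop 1).drop 1).drop 1).drop 1).drop 1).drop 1).drop 1).drop 1).drop 1).drop 1).drop 1).drop 1).drop 1).drop 1).drop 1).drop 1).drop 1).drop 1).drop 1).drop 1).drop 1).drop 1).drop 1).drop 1).drop 1).drop 1).drop 1).drop 1).drop 1).drop 1).drop 1).drop 1).drop 1).drop 1).drop 1).drop 1).drop 1).drop 1).drop 1).drop 1).drop 1).drop 1).drop 1).drop 1).drop 1).drop 1).drop 1).drop 1).drop 1).drop 1).drop 1).drop 1).drop 1).drop 1).drop 1).drop 1).drop 1).drop 1).drop 1).drop 1).drop 1).drop 1).drop 1).drop 1).drop 1).drop 1).drop 1).drop 1).drop 1).drop 1).drop 1).drop 1).drop 1).drop 1).drop 1).drop 1).drop 1).drop 1).drop 1).drop 1).drop 1).drop 1).drop 1).drop 1).drop 1).drop 1).drop 1).drop 1).drop 1).drop 1).take 1) (Ag Fi24.A FiHe.A 19 (ivl 0 2058) 0x102 act2_ws 0) = true := by decide +kernel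

theorem act2_ag_92 : allL (((((((((((((((((((((((((((((((((((((((((((((((((((((((((((((((((((((((((((((((((((((((((((((((agList 0 7 19)).drop 1).drop 1).drop 1).drop 1).drop 1).drop 1).drop 1).drop 1).drop 1).drop 1).drop 1).drop 1).drop 1).drop 1).drop 1).drop 1).drop 1).drop 1).drop 1).drop 1).drop 1).drop 1).drop 1).drop 1).drop 1).drop 1).drop 1).drop 1).drop 1).drop 1).drop 1).drop 1).drop 1).drop 1).drop 1).drop 1).drop 1).drop 1).drop 1).drop 1).drop 1).drop 1).drop 1).drop 1).drop 1).drop 1).drop 1).drop 1).drop 1).drop 1).drop 1).drop 1).drop 1).drop 1).drop 1).drop 1).drop 1).drop 1).drop 1).drop 1).drop 1).drop 1).drop 1).drop 1).drop 1).drop 1).drop 1).drop 1).drop 1).drop 1).drop 1).drop 1).drop 1).drop 1).drop 1).drop 1).drop 1).drop 1).drop 1).drop 1).drop 1).drop 1).drop 1).drop 1).drop 1).drop 1).drop 1).drop 1).drop 1).drop 1).drop 1).drop 1).take 1) (Ag Fi24.A FiHe.A 19 (ivl 0 2058) 0x102 act2_ws 0) = true := by decide +kernel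

theorem act2_ag_93 : allL ((((((((((((((((((((((((((((((((((((((((((((((((((((((((((((((((((((((((((((((((((((((((((((((((agList 0 7 19)).drop 1).drop 1).drop 1).drop 1).drop 1).drop 1).drop 1).drop 1).drop 1).drop 1).drop 1).drop 1).drop 1).drop 1).drop 1).drop 1).drop 1).drop 1).drop 1).drop 1).drop 1).drop 1).drop 1).drop 1).drop 1).drop 1).drop 1).drop 1).drop 1).drop 1).drop 1).drop 1).drop 1).drop 1).drop 1).drop 1).drop 1).drop 1).drop 1).drop 1).drop 1).drop 1).drop 1).drop 1).drop 1).drop 1).drop 1).drop 1).drop 1).drop 1).drop 1).drop 1).drop 1).drop 1).drop 1).drop 1).drop 1).drop 1).drop 1).drop 1).drop 1).drop 1).drop 1).drop 1).drop 1).drop 1).drop 1).drop 1).drop 1).drop 1).drop 1).drop 1).drop 1).drop 1).drop 1).drop 1).drop 1).drop 1).drop 1).drop 1).drop 1).drop 1).drop 1).drop 1).drop 1).drop 1).drop 1).drop 1).drop 1).drop 1).drop 1).drop 1).drop 1).take 1) (Ag Fi24.A FiHe.A 19 (ivl 0 2058) 0x102 act2_ws 0) = true := by decide +kernel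

theorem act2_ag_94 : allL (((((((((((((((((((((((((((((((((((((((((((((((((((((((((((((((((((((((((((((((((((((((((((((((((agList 0 7 19)).drop 1).drop 1).drop 1).drop 1).drop 1).drop 1).drop 1).drop 1).drop 1).drop 1).drop 1).drop 1).drop 1).drop 1).drop 1).drop 1).drop 1).drop 1).drop 1).drop 1).drop 1).drop 1).drop 1).drop 1).drop 1).drop 1).drop 1).drop 1).drop 1).drop 1).drop 1).drop 1).drop 1).drop 1).drop 1).drop 1).drop 1).drop 1).drop 1).drop 1).drop 1).drop 1).drop 1).drop 1).drop 1).drop 1).drop 1).drop 1).drop 1).drop 1).drop 1).drop 1).drop 1).drop 1).drop 1).drop 1).drop 1).drop 1).drop 1).drop 1).drop 1).drop 1).drop 1).drop 1).drop 1).drop 1).drop 1).drop 1).drop 1).drop 1).drop 1).drop 1).drop 1).drop 1).drop 1).drop 1).drop 1).drop 1).drop 1).drop 1).drop 1).drop 1).drop 1).drop 1).drop 1).drop 1).drop 1).drop 1).drop 1).drop 1).drop 1).drop 1).drop 1).drop 1).take 1) (Ag Fi24.A FiHe.A 19 (ivl 0 2058) 0x102 act2_ws 0) = true := by decide +kernel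

theorem act2_ag_95 : allL ((((((((((((((((((((((((((((((((((((((((((((((((((((((((((((((((((((((((((((((((((((((((((((((((((agList 0 7 19)).drop 1).drop 1).drop 1).drop 1).drop 1).drop 1).drop 1).drop 1).drop 1).drop 1).drop 1).drop 1).drop 1).drop 1).drop 1).drop 1).drop 1).drop 1).drop 1).drop 1).drop 1).drop 1).drop 1).drop 1).drop 1).drop 1).drop 1).drop 1).drop 1).drop 1).drop 1).drop 1).drop 1).drop 1).drop 1).drop 1).drop 1).drop 1).drop 1).drop 1).drop 1).drop 1).drop 1).drop 1).drop 1).drop 1).drop 1).drop 1).drop 1).drop 1).drop 1).drop 1).drop 1).drop 1).drop 1).drop 1).drop 1).drop 1).drop 1).drop 1).drop 1).drop 1).drop 1).drop 1).drop 1).drop 1).drop 1).drop 1).drop 1).drop 1).drop 1).drop 1).drop 1).drop 1).drop 1).drop 1).drop 1).drop 1).drop 1).drop 1).drop 1).drop 1).drop 1).drop 1).drop 1).drop 1).drop 1).drop 1).drop 1).drop 1).drop 1).drop 1).drop 1).drop 1).drop 1).take 1) (Ag Fi24.A FiHe.A 19 (ivl 0 2058) 0x102 act2_ws 0) = true := by decide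 +kernel

theorem act2_ag_96 : allL (((((((((((((((((((((((((((((((((((((((((((((((((((((((((((((((((((((((((((((((((((((((((((((((((((agList 0 7 19)).drop 1).drop 1).drop 1).drop 1).drop 1).drop 1).drop 1).drop 1).drop 1).drop 1).drop 1).drop 1).drop 1).drop 1).drop 1).drop 1).drop 1).drop 1).drop 1).drop 1).drop 1).drop 1).drop 1).drop 1).drop 1).drop 1).drop 1).drop 1).drop 1).drop 1).drop 1).drop 1).drop 1).drop 1).drop 1).drop 1).drop 1).drop 1).drop 1).drop 1).drop 1).drop 1).drop 1).drop 1).drop 1).drop 1).drop 1).drop 1).drop 1).drop 1).drop 1).drop 1).drop 1).drop 1).drop 1).drop 1).drop 1).drop 1).drop 1).drop 1).drop 1).drop 1).drop 1).drop 1).drop 1).drop 1).drop 1).drop 1).drop 1).drop 1).drop 1).drop 1).drop 1).drop 1).drop 1).drop 1).drop 1).drop 1).drop 1).drop 1).drop 1).drop 1).drop 1).drop 1).drop 1).drop 1).drop 1).drop 1).drop 1).drop 1).drop 1).drop 1).drop 1).drop 1).drop 1).drop 1).take 1) (Ag Fi24.A FiHe.A 19 (ivl 0 2058) 0x102 act2_ws 0) = true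 := by decide +kernel

theorem act2_ag_97 : allL ((((((((((((((((((((((((((((((((((((((((((((((((((((((((((((((((((((((((((((((((((((((((((((((((((((agList 0 7 19)).drop 1).drop 1).drop 1).drop 1).drop 1).drop 1).drop 1).drop 1).drop 1).drop 1).drop 1).drop 1).drop 1).drop 1).drop 1).drop 1).drop 1).drop 1).drop 1).drop 1).drop 1).drop 1).drop 1).drop 1).drop 1).drop 1).drop 1).drop 1).drop 1).drop 1).drop 1).drop 1).drop 1).drop 1).drop 1).drop 1).drop 1).drop 1).drop 1).drop 1).drop 1).drop 1).drop 1).drop 1).drop 1).drop 1).drop 1).drop 1).drop 1).drop 1).drop 1).drop 1).drop 1).drop 1).drop 1).drop 1).drop 1).drop 1).drop 1).drop 1).drop 1).drop 1).drop 1).drop 1).drop 1).drop 1).drop 1).drop 1).drop 1).drop 1).drop 1).drop 1).drop 1).drop 1).drop 1).drop 1).drop 1).drop 1).drop 1).drop 1).drop 1).drop 1).drop 1).drop 1).drop 1).drop 1).drop 1).drop 1).drop 1).drop 1).drop 1).drop 1).drop 1).drop 1).drop 1).drop 1).drop 1).take 1) (Ag Fi24.A FiHe.A 19 (ivl 0 2058)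 0x102 act2_ws 0) = true := by decide +kernel

theorem act2_ag_98 : allL (((((((((((((((((((((((((((((((((((((((((((((((((((((((((((((((((((((((((((((((((((((((((((((((((((((agList 0 7 19)).drop 1).drop 1).drop 1).drop 1).drop 1).drop 1).drop 1).drop 1).drop 1).drop 1).drop 1).drop 1).drop 1).drop 1).drop 1).drop 1).drop 1).drop 1).drop 1).drop 1).drop 1).drop 1).drop 1).drop 1).drop 1).drop 1).drop 1).drop 1).drop 1).drop 1).drop 1).drop 1).drop 1).drop 1).drop 1).drop 1).drop 1).drop 1).drop 1).drop 1).drop 1).drop 1).drop 1).drop 1).drop 1).drop 1).drop 1).drop 1).drop 1).drop 1).drop 1).drop 1).drop 1).drop 1).drop 1).drop 1).drop 1).drop 1).drop 1).drop 1).drop 1).drop 1).drop 1).drop 1).drop 1).drop 1).drop 1).drop 1).drop 1).drop 1).drop 1).drop 1).drop 1).drop 1).drop 1).drop 1).drop 1).drop 1).drop 1).drop 1).drop 1).drop 1).drop 1).drop 1).drop 1).drop 1).drop 1).drop 1).drop 1).drop 1).drop 1).drop 1).drop 1).drop 1).drop 1).drop 1).drop 1).drop 1).take 1)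 (Ag Fi24.A FiHe.A 19 (ivl 0 2058) 0x102 act2_ws 0) = true := by decide +kernel

theorem act2_ag_99 : allL ((((((((((((((((((((((((((((((((((((((((((((((((((((((((((((((((((((((((((((((((((((((((((((((((((((((agList 0 7 19)).drop 1).drop 1).drop 1).drop 1).drop 1).drop 1).drop 1).drop 1).drop 1).drop 1).drop 1).drop 1).drop 1).drop 1).drop 1).drop 1).drop 1).drop 1).drop 1).drop 1).drop 1).drop 1).drop 1).drop 1).drop 1).drop 1).drop 1).drop 1).drop 1).drop 1).drop 1).drop 1).drop 1).drop 1).drop 1).drop 1).drop 1).drop 1).drop 1).drop 1).drop 1).drop 1).drop 1).drop 1).drop 1).drop 1).drop 1).drop 1).drop 1).drop 1).drop 1).drop 1).drop 1).drop 1).drop 1).drop 1).drop 1).drop 1).drop 1).drop 1).drop 1).drop 1).drop 1).drop 1).drop 1).drop 1).drop 1).drop 1).drop 1).drop 1).drop 1).drop 1).drop 1).drop 1).drop 1).drop 1).drop 1).drop 1).drop 1).drop 1).drop 1).drop 1).drop 1).drop 1).drop 1).drop 1).drop 1).drop 1).drop 1).drop 1).drop 1).drop 1).drop 1).drop 1).drop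 1).drop 1).drop 1).drop 1).drop 1).take 1) (Ag Fi24.A FiHe.A 19 (ivl 0 2058) 0x102 act2_ws 0) = true := by decide +kernel

theorem act2_ag_100 : allL (((((((((((((((((((((((((((((((((((((((((((((((((((((((((((((((((((((((((((((((((((((((((((((((((((((((agList 0 7 19)).drop 1).drop 1).drop 1).drop 1).drop 1).drop 1).drop 1).drop 1).drop 1).drop 1).drop 1).drop 1).drop 1).drop 1).drop 1).drop 1).drop 1).drop 1).drop 1).drop 1).drop 1).drop 1).drop 1).drop 1).drop 1).drop 1).drop 1).drop 1).drop 1).drop 1).drop 1).drop 1).drop 1).drop 1).drop 1).drop 1).drop 1).drop 1).drop 1).drop 1).drop 1).drop 1).drop 1).drop 1).drop 1).drop 1).drop 1).drop 1).drop 1).drop 1).drop 1).drop 1).drop 1).drop 1).drop 1).drop 1).drop 1).drop 1).drop 1).drop 1).drop 1).drop 1).drop 1).drop 1).drop 1).drop 1).drop 1).drop 1).drop 1).drop 1).drop 1).drop 1).drop 1).drop 1).drop 1).drop 1).drop 1).drop 1).drop 1).drop 1).drop 1).drop 1).drop 1).drop 1).drop 1).drop 1).drop 1).drop 1).drop 1).drop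 1).drop 1).drop 1).drop 1).drop 1).drop 1).drop 1).drop 1).drop 1).drop 1).drop 1).take 1) (Ag Fi24.A FiHe.A 19 (ivl 0 2058) 0x102 act2_ws 0) = true := by decide +kernel

theorem act2_ag_101 : allL ((((((((((((((((((((((((((((((((((((((((((((((((((((((((((((((((((((((((((((((((((((((((((((((((((((((((agList 0 7 19)).drop 1).drop 1).drop 1).drop 1).drop 1).drop 1).drop 1).drop 1).drop 1).drop 1).drop 1).drop 1).drop 1).drop 1).drop 1).drop 1).drop 1).drop 1).drop 1).drop 1).drop 1).drop 1).drop 1).drop 1).drop 1).drop 1).drop 1).drop 1).drop 1).drop 1).drop 1).drop 1).drop 1).drop 1).drop 1).drop 1).drop 1).drop 1).drop 1).drop 1).drop 1).drop 1).drop 1).drop 1).drop 1).drop 1).drop 1).drop 1).drop 1).drop 1).drop 1).drop 1).drop 1).drop 1).drop 1).drop 1).drop 1).drop 1).drop 1).drop 1).drop 1).drop 1).drop 1).drop 1).drop 1).drop 1).drop 1).drop 1).drop 1).drop 1).drop 1).drop 1).drop 1).drop 1).drop 1).drop 1).drop 1).drop 1).drop 1).drop 1).drop 1).drop 1).drop 1).drop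 1).drop 1).drop 1).drop 1).drop 1).drop 1).drop 1).drop 1).drop 1).drop 1).drop 1).drop 1).drop 1).drop 1).drop 1).drop 1).drop 1).drop 1).take 1) (Ag Fi24.A FiHe.A 19 (ivl 0 2058) 0x102 act2_ws 0) = true := by decide +kernel

theorem act2_ag_102 : allL (((((((((((((((((((((((((((((((((((((((((((((((((((((((((((((((((((((((((((((((((((((((((((((((((((((((((agList 0 7 19)).drop 1).drop 1).drop 1).drop 1).drop 1).drop 1).drop 1).drop 1).drop 1).drop 1).drop 1).drop 1).drop 1).drop 1).drop 1).drop 1).drop 1).drop 1).drop 1).drop 1).drop 1).drop 1).drop 1).drop 1).drop 1).drop 1).drop 1).drop 1).drop 1).drop 1).drop 1).drop 1).drop 1).drop 1).drop 1).drop 1).drop 1).drop 1).drop 1).drop 1).drop 1).drop 1).drop 1).drop 1).drop 1).drop 1).drop 1).drop 1).drop 1).drop 1).drop 1).drop 1).drop 1).drop 1).drop 1).drop 1).drop 1).drop 1).drop 1).drop 1).drop 1).drop 1).drop 1).drop 1).drop 1).drop 1).drop 1).drop 1).drop 1).drop 1).drop 1).drop 1).drop 1).drop 1).drop 1).drop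 1).drop 1).drop 1).drop 1).drop 1).drop 1).drop 1).drop 1).drop 1).drop 1).drop 1).drop 1).drop 1).drop 1).drop 1).drop 1).drop 1).drop 1).drop 1).drop 1).drop 1).drop 1).drop 1).drop 1).drop 1).drop 1).drop 1).take 1) (Ag Fi24.A FiHe.A 19 (ivl 0 2058) 0x102 act2_ws 0) = true := by decide +kernel

theorem act2_ag_103 : allL ((((((((((((((((((((((((((((((((((((((((((((((((((((((((((((((((((((((((((((((((((((((((((((((((((((((((((agList 0 7 19)).drop 1).drop 1).drop 1).drop 1).drop 1).drop 1).drop 1).drop 1).drop 1).drop 1).drop 1).drop 1).drop 1).drop 1).drop 1).drop 1).drop 1).drop 1).drop 1).drop 1).drop 1).drop 1).drop 1).drop 1).drop 1).drop 1).drop 1).drop 1).drop 1).drop 1).drop 1).drop 1).drop 1).drop 1).drop 1).drop 1).drop 1).drop 1).drop 1).drop 1).drop 1).drop 1).drop 1).drop 1).drop 1).drop 1).drop 1).drop 1).drop 1).drop 1).drop 1).drop 1).drop 1).drop 1).drop 1).drop 1).drop 1).drop 1).drop 1).drop 1).drop 1).drop 1).drop 1).drop 1).drop 1).drop 1).drop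 1).drop 1).drop 1).drop 1).drop 1).drop 1).drop 1).drop 1).drop 1).drop 1).drop 1).drop 1).drop 1).drop 1).drop 1).drop 1).drop 1).drop 1).drop 1).drop 1).drop 1).drop 1).drop 1).drop 1).drop 1).drop 1).drop 1).drop 1).drop 1).drop 1).drop 1).drop 1).drop 1).drop 1).drop 1).drop 1).drop 1).take 1) (Ag Fi24.A FiHe.A 19 (ivl 0 2058) 0x102 act2_ws 0) = true := by decide +kernel

theorem act2_ag_104 : allL (((((((((((((((((((((((((((((((((((((((((((((((((((((((((((((((((((((((((((((((((((((((((((((((((((((((((((agList 0 7 19)).drop 1).drop 1).drop 1).drop 1).drop 1).drop 1).drop 1).drop 1).drop 1).drop 1).drop 1).drop 1).drop 1).drop 1).drop 1).drop 1).drop 1).drop 1).drop 1).drop 1).drop 1).drop 1).drop 1).drop 1).drop 1).drop 1).drop 1).drop 1).drop 1).drop 1).drop 1).drop 1).drop 1).drop 1).drop 1).drop 1).drop 1).drop 1).drop 1).drop 1).drop 1).drop 1).drop 1).drop 1).drop 1).drop 1).drop 1).drop 1).drop 1).drop 1).drop 1).drop 1).drop 1).drop 1).drop 1).drop 1).drop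 1).drop 1).drop 1).drop 1).drop 1).drop 1).drop 1).drop 1).drop 1).drop 1).drop 1).drop 1).drop 1).drop 1).drop 1).drop 1).drop 1).drop 1).drop 1).drop 1).drop 1).drop 1).drop 1).drop 1).drop 1).drop 1).drop 1).drop 1).drop 1).drop 1).drop 1).drop 1).drop 1).drop 1).drop 1).drop 1).drop 1).drop 1).drop 1).drop 1).drop 1).drop 1).drop 1).drop 1).drop 1).drop 1).drop 1).drop 1).take 1) (Ag Fi24.A FiHe.A 19 (ivl 0 2058) 0x102 act2_ws 0) = true := by decide +kernel

theorem act2_ag_105 : allL ((((((((((((((((((((((((((((((((((((((((((((((((((((((((((((((((((((((((((((((((((((((((((((((((((((((((((((agList 0 7 19)).drop 1).drop 1).drop 1).drop 1).drop 1).drop 1).drop 1).drop 1).drop 1).drop 1).drop 1).drop 1).drop 1).drop 1).drop 1).drop 1).drop 1).drop 1).drop 1).drop 1).drop 1).drop 1).drop 1).drop 1).drop 1).drop 1).drop 1).drop 1).drop 1).drop 1).drop 1).drop 1).drop 1).drop 1).drop 1).drop 1).drop 1).drop 1).drop 1).drop 1).drop 1).drop 1).drop 1).drop 1).drop 1).drop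 1).drop 1).drop 1).drop 1).drop 1).drop 1).drop 1).drop 1).drop 1).drop 1).drop 1).drop 1).drop 1).drop 1).drop 1).drop 1).drop 1).drop 1).drop 1).drop 1).drop 1).drop 1).drop 1).drop 1).drop 1).drop 1).drop 1).drop 1).drop 1).drop 1).drop 1).drop 1).drop 1).drop 1).drop 1).drop 1).drop 1).drop 1).drop 1).drop 1).drop 1).drop 1).drop 1).drop 1).drop 1).drop 1).drop 1).drop 1).drop 1).drop 1).drop 1).drop 1).drop 1).drop 1).drop 1).drop 1).drop 1).drop 1).drop 1).drop 1).take 1) (Ag Fi24.A FiHe.A 19 (ivl 0 2058) 0x102 act2_ws 0) = true := by decide +kernel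

theorem act2_ag_106 : allL (((((((((((((((((((((((((((((((((((((((((((((((((((((((((((((((((((((((((((((((((((((((((((((((((((((((((((((agList 0 7 19)).drop 1).drop 1).drop 1).drop 1).drop 1).drop 1).drop 1).drop 1).drop 1).drop 1).drop 1).drop 1).drop 1).drop 1).drop 1).drop 1).drop 1).drop 1).drop 1).drop 1).drop 1).drop 1).drop 1).drop 1).drop 1).drop 1).drop 1).drop 1).drop 1).drop 1).drop 1).drop 1).drop 1).drop 1).drop 1).drop 1).drop 1).drop 1).drop 1).drop 1).drop 1).drop 1).drop 1).drop 1).drop 1).drop 1).drop 1).drop 1).drop 1).drop 1).drop 1).drop 1).drop 1).drop 1).drop 1).drop 1).drop 1).drop 1).drop 1).drop 1).drop 1).drop 1).drop 1).drop 1).drop 1).drop 1).drop 1).drop 1).drop 1).drop 1).drop 1).drop 1).drop 1).drop 1).drop 1).drop 1).drop 1).drop 1).drop 1).drop 1).drop 1).drop 1).drop 1).drop 1).drop 1).drop 1).drop 1).drop 1).drop 1).drop 1).drop 1).drop 1).drop 1).drop 1).drop 1).drop 1).drop 1).drop 1).drop 1).drop 1).drop 1).drop 1).drop 1).drop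 1).drop 1).drop 1).take 1) (Ag Fi24.A FiHe.A 19 (ivl 0 2058) 0x102 act2_ws 0) = true := by decide +kernel

theorem act2_ag_107 : allL ((((((((((((((((((((((((((((((((((((((((((((((((((((((((((((((((((((((((((((((((((((((((((((((((((((((((((((((agList 0 7 19)).drop 1).drop 1).drop 1).drop 1).drop 1).drop 1).drop 1).drop 1).drop 1).drop 1).drop 1).drop 1).drop 1).drop 1).drop 1).drop 1).drop 1).drop 1).drop 1).drop 1).drop 1).drop 1).drop 1).drop 1).drop 1).drop 1).drop 1).drop 1).drop 1).drop 1).drop 1).drop 1).drop 1).drop 1).drop 1).drop 1).drop 1).drop 1).drop 1).drop 1).drop 1).drop 1).drop 1).drop 1).drop 1).drop 1).drop 1).drop 1).drop 1).drop 1).drop 1).drop 1).drop 1).drop 1).drop 1).drop 1).drop 1).drop 1).drop 1).drop 1).drop 1).drop 1).drop 1).drop 1).drop 1).drop 1).drop 1).drop 1).drop 1).drop 1).drop 1).drop 1).drop 1).drop 1).drop 1).drop 1).drop 1).drop 1).drop 1).drop 1).drop 1).drop 1).drop 1).drop 1).drop 1).drop 1).drop 1).drop 1).drop 1).drop 1).drop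 1).drop 1).drop 1).drop 1).drop 1).drop 1).drop 1).drop 1).drop 1).drop 1).drop 1).drop 1).drop 1).drop 1).drop 1).drop 1).drop 1).take 1) (Ag Fi24.A FiHe.A 19 (ivl 0 2058) 0x102 act2_ws 0) = true := by decide +kernel

theorem act2_ag_108 : allL (((((((((((((((((((((((((((((((((((((((((((((((((((((((((((((((((((((((((((((((((((((((((((((((((((((((((((((((agList 0 7 19)).drop 1).drop 1).drop 1).drop 1).drop 1).drop 1).drop 1).drop 1).drop 1).drop 1).drop 1).drop 1).drop 1).drop 1).drop 1).drop 1).drop 1).drop 1).drop 1).drop 1).drop 1).drop 1).drop 1).drop 1).drop 1).drop 1).drop 1).drop 1).drop 1).drop 1).drop 1).drop 1).drop 1).drop 1).drop 1).drop 1).drop 1).drop 1).drop 1).drop 1).drop 1).drop 1).drop 1).drop 1).drop 1).drop 1).drop 1).drop 1).drop 1).drop 1).drop 1).drop 1).drop 1).drop 1).drop 1).drop 1).drop 1).drop 1).drop 1).drop 1).drop 1).drop 1).drop 1).drop 1).drop 1).drop 1).drop 1).drop 1).drop 1).drop 1).drop 1).drop 1).drop 1).drop 1).drop 1).drop 1).drop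 1).drop 1).drop 1).drop 1).drop 1).drop 1).drop 1).drop 1).drop 1).drop 1).drop 1).drop 1).drop 1).drop 1).drop 1).drop 1).drop 1).drop 1).drop 1).drop 1).drop 1).drop 1).drop 1).drop 1).drop 1).drop 1).drop 1).drop 1).drop 1).drop 1).drop 1).drop 1).take 1) (Ag Fi24.A FiHe.A 19 (ivl 0 2058) 0x102 act2_ws 0) = true := by decide +kernel

theorem act2_ag_109 : allL ((((((((((((((((((((((((((((((((((((((((((((((((((((((((((((((((((((((((((((((((((((((((((((((((((((((((((((((((agList 0 7 19)).drop 1).drop 1).drop 1).drop 1).drop 1).drop 1).drop 1).drop 1).drop 1).drop 1).drop 1).drop 1).drop 1).drop 1).drop 1).drop 1).drop 1).drop 1).drop 1).drop 1).drop 1).drop 1).drop 1).drop 1).drop 1).drop 1).drop 1).drop 1).drop 1).drop 1).drop 1).drop 1).drop 1).drop 1).drop 1).drop 1).drop 1).drop 1).drop 1).drop 1).drop 1).drop 1).drop 1).drop 1).drop 1).drop 1).drop 1).drop 1).drop 1).drop 1).drop 1).drop 1).drop 1).drop 1).drop 1).drop 1).drop 1).drop 1).drop 1).drop 1).drop 1).drop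 1).drop 1).drop 1).drop 1).drop 1).drop 1).drop 1).drop 1).drop 1).drop 1).drop 1).drop 1).drop 1).drop 1).drop 1).drop 1).drop 1).drop 1).drop 1).drop 1).drop 1).drop 1).drop 1).drop 1).drop 1).drop 1).drop 1).drop 1).drop 1).drop 1).drop 1).drop 1).drop 1).drop 1).drop 1).drop 1).drop 1).drop 1).drop 1).drop 1).drop 1).drop 1).drop 1).drop 1).drop 1).drop 1).drop 1).drop 1).take 1) (Ag Fi24.A FiHe.A 19 (ivl 0 2058) 0x102 act2_ws 0) = true := by decide +kernel

theorem act2_ag_110 : allL (((((((((((((((((((((((((((((((((((((((((((((((((((((((((((((((((((((((((((((((((((((((((((((((((((((((((((((((((agList 0 7 19)).drop 1).drop 1).drop 1).drop 1).drop 1).drop 1).drop 1).drop 1).drop 1).drop 1).drop 1).drop 1).drop 1).drop 1).drop 1).drop 1).drop 1).drop 1).drop 1).drop 1).drop 1).drop 1).drop 1).drop 1).drop 1).drop 1).drop 1).drop 1).drop 1).drop 1).drop 1).drop 1).drop 1).drop 1).drop 1).drop 1).drop 1).drop 1).drop 1).drop 1).drop 1).drop 1).drop 1).drop 1).drop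 1).drop 1).drop 1).drop 1).drop 1).drop 1).drop 1).drop 1).drop 1).drop 1).drop 1).drop 1).drop 1).drop 1).drop 1).drop 1).drop 1).drop 1).drop 1).drop 1).drop 1).drop 1).drop 1).drop 1).drop 1).drop 1).drop 1).drop 1).drop 1).drop 1).drop 1).drop 1).drop 1).drop 1).drop 1).drop 1).drop 1).drop 1).drop 1).drop 1).drop 1).drop 1).drop 1).drop 1).drop 1).drop 1).drop 1).drop 1).drop 1).drop 1).drop 1).drop 1).drop 1).drop 1).drop 1).drop 1).drop 1).drop 1).drop 1).drop 1).drop 1).drop 1).drop 1).drop 1).drop 1).drop 1).take 1) (Ag Fi24.A FiHe.A 19 (ivl 0 2058) 0x102 act2_ws 0) = true := by decide +kernel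

theorem act2_ag_111 : allL ((((((((((((((((((((((((((((((((((((((((((((((((((((((((((((((((((((((((((((((((((((((((((((((((((((((((((((((((((agList 0 7 19)).drop 1).drop 1).drop 1).drop 1).drop 1).drop 1).drop 1).drop 1).drop 1).drop 1).drop 1).drop 1).drop 1).drop 1).drop 1).drop 1).drop 1).drop 1).drop 1).drop 1).drop 1).drop 1).drop 1).drop 1).drop 1).drop 1).drop 1).drop 1).drop 1).drop 1).drop 1).drop 1).drop 1).drop 1).drop 1).drop 1).drop 1).drop 1).drop 1).drop 1).drop 1).drop 1).drop 1).drop 1).drop 1).drop 1).drop 1).drop 1).drop 1).drop 1).drop 1).drop 1).drop 1).drop 1).drop 1).drop 1).drop 1).drop 1).drop 1).drop 1).drop 1).drop 1).drop 1).drop 1).drop 1).drop 1).drop 1).drop 1).drop 1).drop 1).drop 1).drop 1).drop 1).drop 1).drop 1).drop 1).drop 1).drop 1).drop 1).drop 1).drop 1).drop 1).drop 1).drop 1).drop 1).drop 1).drop 1).drop 1).drop 1).drop 1).drop 1).drop 1).drop 1).drop 1).drop 1).drop 1).drop 1).drop 1).drop 1).drop 1).drop 1).drop 1).drop 1).drop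 1).drop 1).drop 1).drop 1).drop 1).drop 1).drop 1).drop 1).take 1) (Ag Fi24.A FiHe.A 19 (ivl 0 2058) 0x102 act2_ws 0) = true := by decide +kernel

theorem act2_ag_112 : allL (((((((((((((((((((((((((((((((((((((((((((((((((((((((((((((((((((((((((((((((((((((((((((((((((((((((((((((((((((agList 0 7 19)).drop 1).drop 1).drop 1).drop 1).drop 1).drop 1).drop 1).drop 1).drop 1).drop 1).drop 1).drop 1).drop 1).drop 1).drop 1).drop 1).drop 1).drop 1).drop 1).drop 1).drop 1).drop 1).drop 1).drop 1).drop 1).drop 1).drop 1).drop 1).drop 1).drop 1).drop 1).drop 1).drop 1).drop 1).drop 1).drop 1).drop 1).drop 1).drop 1).drop 1).drop 1).drop 1).drop 1).drop 1).drop 1).drop 1).drop 1).drop 1).drop 1).drop 1).drop 1).drop 1).drop 1).drop 1).drop 1).drop 1).drop 1).drop 1).drop 1).drop 1).drop 1).drop 1).drop 1).drop 1).drop 1).drop 1).drop 1).drop 1).drop 1).drop 1).drop 1).drop 1).drop 1).drop 1).drop 1).drop 1).drop 1).drop 1).drop 1).drop 1).drop 1).drop 1).drop 1).drop 1).drop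 1).drop 1).drop 1).drop 1).drop 1).drop 1).drop 1).drop 1).drop 1).drop 1).drop 1).drop 1).drop 1).drop 1).drop 1).drop 1).drop 1).drop 1).drop 1).drop 1).drop 1).drop 1).drop 1).drop 1).drop 1).drop 1).drop 1).drop 1).take 1) (Ag Fi24.A FiHe.A 19 (ivl 0 2058) 0x102 act2_ws 0) = true := by decide +kernel

theorem act2_ag_113 : allL ((((((((((((((((((((((((((((((((((((((((((((((((((((((((((((((((((((((((((((((((((((((((((((((((((((((((((((((((((((agList 0 7 19)).drop 1).drop 1).drop 1).drop 1).drop 1).drop 1).drop 1).drop 1).drop 1).drop 1).drop 1).drop 1).drop 1).drop 1).drop 1).drop 1).drop 1).drop 1).drop 1).drop 1).drop 1).drop 1).drop 1).drop 1).drop 1).drop 1).drop 1).drop 1).drop 1).drop 1).drop 1).drop 1).drop 1).drop 1).drop 1).drop 1).drop 1).drop 1).drop 1).drop 1).drop 1).drop 1).drop 1).drop 1).drop 1).drop 1).drop 1).drop 1).drop 1).drop 1).drop 1).drop 1).drop 1).drop 1).drop 1).drop 1).drop 1).drop 1).drop 1).drop 1).drop 1).drop 1).drop 1).drop 1).drop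 1).drop 1).drop 1).drop 1).drop 1).drop 1).drop 1).drop 1).drop 1).drop 1).drop 1).drop 1).drop 1).drop 1).drop 1).drop 1).drop 1).drop 1).drop 1).drop 1).drop 1).drop 1).drop 1).drop 1).drop 1).drop 1).drop 1).drop 1).drop 1).drop 1).drop 1).drop 1).drop 1).drop 1).drop 1).drop 1).drop 1).drop 1).drop 1).drop 1).drop 1).drop 1).drop 1).drop 1).drop 1).drop 1).drop 1).drop 1).drop 1).take 1) (Ag Fi24.A FiHe.A 19 (ivl 0 2058) 0x102 act2_ws 0) = true := by decide +kernel

theorem act2_ag_114 : allL (((((((((((((((((((((((((((((((((((((((((((((((((((((((((((((((((((((((((((((((((((((((((((((((((((((((((((((((((((((agList 0 7 19)).drop 1).drop 1).drop 1).drop 1).drop 1).drop 1).drop 1).drop 1).drop 1).drop 1).drop 1).drop 1).drop 1).drop 1).drop 1).drop 1).drop 1).drop 1).drop 1).drop 1).drop 1).drop 1).drop 1).drop 1).drop 1).drop 1).drop 1).drop 1).drop 1).drop 1).drop 1).drop 1).drop 1).drop 1).drop 1).drop 1).drop 1).drop 1).drop 1).drop 1).drop 1).drop 1).drop 1).drop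 1).drop 1).drop 1).drop 1).drop 1).drop 1).drop 1).drop 1).drop 1).drop 1).drop 1).drop 1).drop 1).drop 1).drop 1).drop 1).drop 1).drop 1).drop 1).drop 1).drop 1).drop 1).drop 1).drop 1).drop 1).drop 1).drop 1).drop 1).drop 1).drop 1).drop 1).drop 1).drop 1).drop 1).drop 1).drop 1).drop 1).drop 1).drop 1).drop 1).drop 1).drop 1).drop 1).drop 1).drop 1).drop 1).drop 1).drop 1).drop 1).drop 1).drop 1).drop 1).drop 1).drop 1).drop 1).drop 1).drop 1).drop 1).drop 1).drop 1).drop 1).drop 1).drop 1).drop 1).drop 1).drop 1).drop 1).drop 1).drop 1).drop 1).drop 1).take 1) (Ag Fi24.A FiHe.A 19 (ivl 0 2058) 0x102 act2_ws 0) = true := by decide +kernel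

theorem act2_ag_115 : allL ((((((((((((((((((((((((((((((((((((((((((((((((((((((((((((((((((((((((((((((((((((((((((((((((((((((((((((((((((((((agList 0 7 19)).drop 1).drop 1).drop 1).drop 1).drop 1).drop 1).drop 1).drop 1).drop 1).drop 1).drop 1).drop 1).drop 1).drop 1).drop 1).drop 1).drop 1).drop 1).drop 1).drop 1).drop 1).drop 1).drop 1).drop 1).drop 1).drop 1).drop 1).drop 1).drop 1).drop 1).drop 1).drop 1).drop 1).drop 1).drop 1).drop 1).drop 1).drop 1).drop 1).drop 1).drop 1).drop 1).drop 1).drop 1).drop 1).drop 1).drop 1).drop 1).drop 1).drop 1).drop 1).drop 1).drop 1).drop 1).drop 1).drop 1).drop 1).drop 1).drop 1).drop 1).drop 1).drop 1).drop 1).drop 1).drop 1).drop 1).drop 1).drop 1).drop 1).drop 1).drop 1).drop 1).drop 1).drop 1).drop 1).drop 1).drop 1).drop 1).drop 1).drop 1).drop 1).drop 1).drop 1).drop 1).drop 1).drop 1).drop 1).drop 1).drop 1).drop 1).drop 1).drop 1).drop 1).drop 1).drop 1).drop 1).drop 1).drop 1).drop 1).drop 1).drop 1).drop 1).drop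 1).drop 1).drop 1).drop 1).drop 1).drop 1).drop 1).drop 1).drop 1).drop 1).drop 1).drop 1).drop 1).take 1) (Ag Fi24.A FiHe.A 19 (ivl 0 2058) 0x102 act2_ws 0) = true := by decide +kernel

theorem act2_ag_116 : allL (((((((((((((((((((((((((((((((((((((((((((((((((((((((((((((((((((((((((((((((((((((((((((((((((((((((((((((((((((((((agList 0 7 19)).drop 1).drop 1).drop 1).drop 1).drop 1).drop 1).drop 1).drop 1).drop 1).drop 1).drop 1).drop 1).drop 1).drop 1).drop 1).drop 1).drop 1).drop 1).drop 1).drop 1).drop 1).drop 1).drop 1).drop 1).drop 1).drop 1).drop 1).drop 1).drop 1).drop 1).drop 1).drop 1).drop 1).drop 1).drop 1).drop 1).drop 1).drop 1).drop 1).drop 1).drop 1).drop 1).drop 1).drop 1).drop 1).drop 1).drop 1).drop 1).drop 1).drop 1).drop 1).drop 1).drop 1).drop 1).drop 1).drop 1).drop 1).drop 1).drop 1).drop 1).drop 1).drop 1).drop 1).drop 1).drop 1).drop 1).drop 1).drop 1).drop 1).drop 1).drop 1).drop 1).drop 1).drop 1).drop 1).drop 1).drop 1).drop 1).drop 1).drop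 1).drop 1).drop 1).drop 1).drop 1).drop 1).drop 1).drop 1).drop 1).drop 1).drop 1).drop 1).drop 1).drop 1).drop 1).drop 1).drop 1).drop 1).drop 1).drop 1).drop 1).drop 1).drop 1).drop 1).drop 1).drop 1).drop 1).drop 1).drop 1).drop 1).drop 1).drop 1).drop 1).drop 1).drop 1).drop 1).drop 1).take 1) (Ag Fi24.A FiHe.A 19 (ivl 0 2058) 0x102 act2_ws 0) = true := by decide +kernel

theorem act2_ag_117 : allL ((((((((((((((((((((((((((((((((((((((((((((((((((((((((((((((((((((((((((((((((((((((((((((((((((((((((((((((((((((((((agList 0 7 19)).drop 1).drop 1).drop 1).drop 1).drop 1).drop 1).drop 1).drop 1).drop 1).drop 1).drop 1).drop 1).drop 1).drop 1).drop 1).drop 1).drop 1).drop 1).drop 1).drop 1).drop 1).drop 1).drop 1).drop 1).drop 1).drop 1).drop 1).drop 1).drop 1).drop 1).drop 1).drop 1).drop 1).drop 1).drop 1).drop 1).drop 1).drop 1).drop 1).drop 1).drop 1).drop 1).drop 1).drop 1).drop 1).drop 1).drop 1).drop 1).drop 1).drop 1).drop 1).drop 1).drop 1).drop 1).drop 1).drop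 1).drop 1).drop 1).drop 1).drop 1).drop 1).drop 1).drop 1).drop 1).drop 1).drop 1).drop 1).drop 1).drop 1).drop 1).drop 1).drop 1).drop 1).drop 1).drop 1).drop 1).drop 1).drop 1).drop 1).drop 1).drop 1).drop 1).drop 1).drop 1).drop 1).drop 1).drop 1).drop 1).drop 1).drop 1).drop 1).drop 1).drop 1).drop 1).drop 1).drop 1).drop 1).drop 1).drop 1).drop 1).drop 1).drop 1).drop 1).drop 1).drop 1).drop 1).drop 1).drop 1).drop 1).drop 1).drop 1).drop 1).drop 1).drop 1).drop 1).drop 1).drop 1).take 1) (Ag Fi24.A FiHe.A 19 (ivl 0 2058) 0x102 act2_ws 0) = true := by decide +kernel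

theorem act2_ag_118 : allL (((((((((((((((((((((((((((((((((((((((((((((((((((((((((((((((((((((((((((((((((((((((((((((((((((((((((((((((((((((((((agList 0 7 19)).drop 1).drop 1).drop 1).drop 1).drop 1).drop 1).drop 1).drop 1).drop 1).drop 1).drop 1).drop 1).drop 1).drop 1).drop 1).drop 1).drop 1).drop 1).drop 1).drop 1).drop 1).drop 1).drop 1).drop 1).drop 1).drop 1).drop 1).drop 1).drop 1).drop 1).drop 1).drop 1).drop 1).drop 1).drop 1).drop 1).drop 1).drop 1).drop 1).drop 1).drop 1).drop 1).drop 1).drop 1).drop 1).drop 1).drop 1).drop 1).drop 1).drop 1).drop 1).drop 1).drop 1).drop 1).drop 1).drop 1).drop 1).drop 1).drop 1).drop 1).drop 1).drop 1).drop 1).drop 1).drop 1).drop 1).drop 1).drop 1).drop 1).drop 1).drop 1).drop 1).drop 1).drop 1).drop 1).drop 1).drop 1).drop 1).drop 1).drop 1).drop 1).drop 1).drop 1).drop 1).drop 1).drop 1).drop 1).drop 1).drop 1).drop 1).drop 1).drop 1).drop 1).drop 1).drop 1).drop 1).drop 1).drop 1).drop 1).drop 1).drop 1).drop 1).drop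 1).drop 1).drop 1).drop 1).drop 1).drop 1).drop 1).drop 1).drop 1).drop 1).drop 1).drop 1).drop 1).drop 1).drop 1).drop 1).take 1) (Ag Fi24.A FiHe.A 19 (ivl 0 2058) 0x102 act2_ws 0) = true := by decide +kernel

theorem act2_ag_119 : allL ((((((((((((((((((((((((((((((((((((((((((((((((((((((((((((((((((((((((((((((((((((((((((((((((((((((((((((((((((((((((((agList 0 7 19)).drop 1).drop 1).drop 1).drop 1).drop 1).drop 1).drop 1).drop 1).drop 1).drop 1).drop 1).drop 1).drop 1).drop 1).drop 1).drop 1).drop 1).drop 1).drop 1).drop 1).drop 1).drop 1).drop 1).drop 1).drop 1).drop 1).drop 1).drop 1).drop 1).drop 1).drop 1).drop 1).drop 1).drop 1).drop 1).drop 1).drop 1).drop 1).drop 1).drop 1).drop 1).drop 1).drop 1).drop 1).drop 1).drop 1).drop 1).drop 1).drop 1).drop 1).drop 1).drop 1).drop 1).drop 1).drop 1).drop 1).drop 1).drop 1).drop 1).drop 1).drop 1).drop 1).drop 1).drop 1).drop 1).drop 1).drop 1).drop 1).drop 1).drop 1).drop 1).drop 1).drop 1).drop 1).drop 1).drop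 1).drop 1).drop 1).drop 1).drop 1).drop 1).drop 1).drop 1).drop 1).drop 1).drop 1).drop 1).drop 1).drop 1).drop 1).drop 1).drop 1).drop 1).drop 1).drop 1).drop 1).drop 1).drop 1).drop 1).drop 1).drop 1).drop 1).drop 1).drop 1).drop 1).drop 1).drop 1).drop 1).drop 1).drop 1).drop 1).drop 1).drop 1).drop 1).drop 1).drop 1).drop 1).drop 1).drop 1).take 1) (Ag Fi24.A FiHe.A 19 (ivl 0 2058) 0x102 act2_ws 0) = true := by decide +kernel

theorem act2_ag_120 : allL (((((((((((((((((((((((((((((((((((((((((((((((((((((((((((((((((((((((((((((((((((((((((((((((((((((((((((((((((((((((((((agList 0 7 19)).drop 1).drop 1).drop 1).drop 1).drop 1).drop 1).drop 1).drop 1).drop 1).drop 1).drop 1).drop 1).drop 1).drop 1).drop 1).drop 1).drop 1).drop 1).drop 1).drop 1).drop 1).drop 1).drop 1).drop 1).drop 1).drop 1).drop 1).drop 1).drop 1).drop 1).drop 1).drop 1).drop 1).drop 1).drop 1).drop 1).drop 1).drop 1).drop 1).drop 1).drop 1).drop 1).drop 1).drop 1).drop 1).drop 1).drop 1).drop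 1).drop 1).drop 1).drop 1).drop 1).drop 1).drop 1).drop 1).drop 1).drop 1).drop 1).drop 1).drop 1).drop 1).drop 1).drop 1).drop 1).drop 1).drop 1).drop 1).drop 1).drop 1).drop 1).drop 1).drop 1).drop 1).drop 1).drop 1).drop 1).drop 1).drop 1).drop 1).drop 1).drop 1).drop 1).drop 1).drop 1).drop 1).drop 1).drop 1).drop 1).drop 1).drop 1).drop 1).drop 1).drop 1).drop 1).drop 1).drop 1).drop 1).drop 1).drop 1).drop 1).drop 1).drop 1).drop 1).drop 1).drop 1).drop 1).drop 1).drop 1).drop 1).drop 1).drop 1).drop 1).drop 1).drop 1).drop 1).drop 1).drop 1).drop 1).drop 1).drop 1).take 1) (Ag Fi24.A FiHe.A 19 (ivl 0 2058) 0x102 act2_ws 0) = true := by decide +kernel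

theorem act2_ag_121 : allL ((((((((((((((((((((((((((((((((((((((((((((((((((((((((((((((((((((((((((((((((((((((((((((((((((((((((((((((((((((((((((((agList 0 7 19)).drop 1).drop 1).drop 1).drop 1).drop 1).drop 1).drop 1).drop 1).drop 1).drop 1).drop 1).drop 1).drop 1).drop 1).drop 1).drop 1).drop 1).drop 1).drop 1).drop 1).drop 1).drop 1).drop 1).drop 1).drop 1).drop 1).drop 1).drop 1).drop 1).drop 1).drop 1).drop 1).drop 1).drop 1).drop 1).drop 1).drop 1).drop 1).drop 1).drop 1).drop 1).drop 1).drop 1).drop 1).drop 1).drop 1).drop 1).drop 1).drop 1).drop 1).drop 1).drop 1).drop 1).drop 1).drop 1).drop 1).drop 1).drop 1).drop 1).drop 1).drop 1).drop 1).drop 1).drop 1).drop 1).drop 1).drop 1).drop 1).drop 1).drop 1).drop 1).drop 1).drop 1).drop 1).drop 1).drop 1).drop 1).drop 1).drop 1).drop 1).drop 1).drop 1).drop 1).drop 1).drop 1).drop 1).drop 1).drop 1).drop 1).drop 1).drop 1).drop 1).drop 1).drop 1).drop 1).drop 1).drop 1).drop 1).drop 1).drop 1).drop 1).drop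 1).drop 1).drop 1).drop 1).drop 1).drop 1).drop 1).drop 1).drop 1).drop 1).drop 1).drop 1).drop 1).drop 1).drop 1).drop 1).drop 1).drop 1).drop 1).drop 1).take 1) (Ag Fi24.A FiHe.A 19 (ivl 0 2058) 0x102 act2_ws 0) = true := by decide +kernel

theorem act2_ag_122 : allL (((((((((((((((((((((((((((((((((((((((((((((((((((((((((((((((((((((((((((((((((((((((((((((((((((((((((((((((((((((((((((((agList 0 7 19)).drop 1).drop 1).drop 1).drop 1).drop 1).drop 1).drop 1).drop 1).drop 1).drop 1).drop 1).drop 1).drop 1).drop 1).drop 1).drop 1).drop 1).drop 1).drop 1).drop 1).drop 1).drop 1).drop 1).drop 1).drop 1).drop 1).drop 1).drop 1).drop 1).drop 1).drop 1).drop 1).drop 1).drop 1).drop 1).drop 1).drop 1).drop 1).drop 1).drop 1).drop 1).drop 1).drop 1).drop 1).drop 1).drop 1).drop 1).drop 1).drop 1).drop 1).drop 1).drop 1).drop 1).drop 1).drop 1).drop 1).drop 1).drop 1).drop 1).drop 1).drop 1).drop 1).drop 1).drop 1).drop 1).drop 1).drop 1).drop 1).drop 1).drop 1).drop 1).drop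 1).drop 1).drop 1).drop 1).drop 1).drop 1).drop 1).drop 1).drop 1).drop 1).drop 1).drop 1).drop 1).drop 1).drop 1).drop 1).drop 1).drop 1).drop 1).drop 1).drop 1).drop 1).drop 1).drop 1).drop 1).drop 1).drop 1).drop 1).drop 1).drop 1).drop 1).drop 1).drop 1).drop 1).drop 1).drop 1).drop 1).drop 1).drop 1).drop 1).drop 1).drop 1).drop 1).drop 1).drop 1).drop 1).drop 1).drop 1).drop 1).drop 1).drop 1).take 1) (Ag Fi24.A FiHe.A 19 (ivl 0 2058) 0x102 act2_ws 0) = true := by decide +kernel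

theorem act2_ag_123 : allL ((((((((((((((((((((((((((((((((((((((((((((((((((((((((((((((((((((((((((((((((((((((((((((((((((((((((((((((((((((((((((((((agList 0 7 19)).drop 1).drop 1).drop 1).drop 1).drop 1).drop 1).drop 1).drop 1).drop 1).drop 1).drop 1).drop 1).drop 1).drop 1).drop 1).drop 1).drop 1).drop 1).drop 1).drop 1).drop 1).drop 1).drop 1).drop 1).drop 1).drop 1).drop 1).drop 1).drop 1).drop 1).drop 1).drop 1).drop 1).drop 1).drop 1).drop 1).drop 1).drop 1).drop 1).drop 1).drop 1).drop 1).drop 1).drop 1).drop 1).drop 1).drop 1).drop 1).drop 1).drop 1).drop 1).drop 1).drop 1).drop 1).drop 1).drop 1).drop 1).drop 1).drop 1).drop 1).drop 1).drop 1).drop 1).drop 1).drop 1).drop 1).drop 1).drop 1).drop 1).drop 1).drop 1).drop 1).drop 1).drop 1).drop 1).drop 1).drop 1).drop 1).drop 1).drop 1).drop 1).drop 1).drop 1).drop 1).drop 1).drop 1).drop 1).drop 1).drop 1).drop 1).drop 1).drop 1).drop 1).drop 1).drop 1).drop 1).drop 1).drop 1).drop 1).drop 1).drop 1).drop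 1).drop 1).drop 1).drop 1).drop 1).drop 1).drop 1).drop 1).drop 1).drop 1).drop 1).drop 1).drop 1).drop 1).drop 1).drop 1).drop 1).drop 1).drop 1).drop 1).drop 1).drop 1).take 1) (Ag Fi24.A FiHe.A 19 (ivl 0 2058) 0x102 act2_ws 0) = true := by decide +kernel

theorem act2_ag_124 : allL (((((((((((((((((((((((((((((((((((((((((((((((((((((((((((((((((((((((((((((((((((((((((((((((((((((((((((((((((((((((((((((((agList 0 7 19)).drop 1).drop 1).drop 1).drop 1).drop 1).drop 1).drop 1).drop 1).drop 1).drop 1).drop 1).drop 1).drop 1).drop 1).drop 1).drop 1).drop 1).drop 1).drop 1).drop 1).drop 1).drop 1).drop 1).drop 1).drop 1).drop 1).drop 1).drop 1).drop 1).drop 1).drop 1).drop 1).drop 1).drop 1).drop 1).drop 1).drop 1).drop 1).drop 1).drop 1).drop 1).drop 1).drop 1).drop 1).drop 1).drop 1).drop 1).drop 1).drop 1).drop 1).drop 1).drop 1).drop 1).drop 1).drop 1).drop 1).drop 1).drop 1).drop 1).drop 1).drop 1).drop 1).drop 1).drop 1).drop 1).drop 1).drop 1).drop 1).drop 1).drop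 1).drop 1).drop 1).drop 1).drop 1).drop 1).drop 1).drop 1).drop 1).drop 1).drop 1).drop 1).drop 1).drop 1).drop 1).drop 1).drop 1).drop 1).drop 1).drop 1).drop 1).drop 1).drop 1).drop 1).drop 1).drop 1).drop 1).drop 1).drop 1).drop 1).drop 1).drop 1).drop 1).drop 1).drop 1).drop 1).drop 1).drop 1).drop 1).drop 1).drop 1).drop 1).drop 1).drop 1).drop 1).drop 1).drop 1).drop 1).drop 1).drop 1).drop 1).drop 1).drop 1).drop 1).drop 1).take 1) (Ag Fi24.A FiHe.A 19 (ivl 0 2058) 0x102 act2_ws 0) = true := by decide +kernel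

theorem act2_ag_125 : allL ((((((((((((((((((((((((((((((((((((((((((((((((((((((((((((((((((((((((((((((((((((((((((((((((((((((((((((((((((((((((((((((((agList 0 7 19)).drop 1).drop 1).drop 1).drop 1).drop 1).drop 1).drop 1).drop 1).drop 1).drop 1).drop 1).drop 1).drop 1).drop 1).drop 1).drop 1).drop 1).drop 1).drop 1).drop 1).drop 1).drop 1).drop 1).drop 1).drop 1).drop 1).drop 1).drop 1).drop 1).drop 1).drop 1).drop 1).drop 1).drop 1).drop 1).drop 1).drop 1).drop 1).drop 1).drop 1).drop 1).drop 1).drop 1).drop 1).drop 1).drop 1).drop 1).drop 1).drop 1).drop 1).drop 1).drop 1).drop 1).drop 1).drop 1).drop 1).drop 1).drop 1).drop 1).drop 1).drop 1).drop 1).drop 1).drop 1).drop 1).drop 1).drop 1).drop 1).drop 1).drop 1).drop 1).drop 1).drop 1).drop 1).drop 1).drop 1).drop 1).drop 1).drop 1).drop 1).drop 1).drop 1).drop 1).drop 1).drop 1).drop 1).drop 1).drop 1).drop 1).drop 1).drop 1).drop 1).drop 1).drop 1).drop 1).drop 1).drop 1).drop 1).drop 1).drop 1).drop 1).drop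 1).drop 1).drop 1).drop 1).drop 1).drop 1).drop 1).drop 1).drop 1).drop 1).drop 1).drop 1).drop 1).drop 1).drop 1).drop 1).drop 1).drop 1).drop 1).drop 1).drop 1).drop 1).drop 1).drop 1).take 1) (Ag Fi24.A FiHe.A 19 (ivl 0 2058) 0x102 act2_ws 0) = true := by decide +kernel

theorem act2_ag_126 : allL (((((((((((((((((((((((((((((((((((((((((((((((((((((((((((((((((((((((((((((((((((((((((((((((((((((((((((((((((((((((((((((((((agList 0 7 19)).drop 1).drop 1).drop 1).drop 1).drop 1).drop 1).drop 1).drop 1).drop 1).drop 1).drop 1).drop 1).drop 1).drop 1).drop 1).drop 1).drop 1).drop 1).drop 1).drop 1).drop 1).drop 1).drop 1).drop 1).drop 1).drop 1).drop 1).drop 1).drop 1).drop 1).drop 1).drop 1).drop 1).drop 1).drop 1).drop 1).drop 1).drop 1).drop 1).drop 1).drop 1).drop 1).drop 1).drop 1).drop 1).drop 1).drop 1).drop 1).drop 1).drop 1).drop 1).drop 1).drop 1).drop 1).drop 1).drop 1).drop 1).drop 1).drop 1).drop 1).drop 1).drop 1).drop 1).drop 1).drop 1).drop 1).drop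 1).drop 1).drop 1).drop 1).drop 1).drop 1).drop 1).drop 1).drop 1).drop 1).drop 1).drop 1).drop 1).drop 1).drop 1).drop 1).drop 1).drop 1).drop 1).drop 1).drop 1).drop 1).drop 1).drop 1).drop 1).drop 1).drop 1).drop 1).drop 1).drop 1).drop 1).drop 1).drop 1).drop 1).drop 1).drop 1).drop 1).drop 1).drop 1).drop 1).drop 1).drop 1).drop 1).drop 1).drop 1).drop 1).drop 1).drop 1).drop 1).drop 1).drop 1).drop 1).drop 1).drop 1).drop 1).drop 1).drop 1).drop 1).drop 1).drop 1).take 1) (Ag Fi24.A FiHe.A 19 (ivl 0 2058) 0x102 act2_ws 0) = true := by decide +kernel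

theorem act2_ag_127 : allL ((((((((((((((((((((((((((((((((((((((((((((((((((((((((((((((((((((((((((((((((((((((((((((((((((((((((((((((((((((((((((((((((((agList 0 7 19)).drop 1).drop 1).drop 1).drop 1).drop 1).drop 1).drop 1).drop 1).drop 1).drop 1).drop 1).drop 1).drop 1).drop 1).drop 1).drop 1).drop 1).drop 1).drop 1).drop 1).drop 1).drop 1).drop 1).drop 1).drop 1).drop 1).drop 1).drop 1).drop 1).drop 1).drop 1).drop 1).drop 1).drop 1).drop 1).drop 1).drop 1).drop 1).drop 1).drop 1).drop 1).drop 1).drop 1).drop 1).drop 1).drop 1).drop 1).drop 1).drop 1).drop 1).drop 1).drop 1).drop 1).drop 1).drop 1).drop 1).drop 1).drop 1).drop 1).drop 1).drop 1).drop 1).drop 1).drop 1).drop 1).drop 1).drop 1).drop 1).drop 1).drop 1).drop 1).drop 1).drop 1).drop 1).drop 1).drop 1).drop 1).drop 1).drop 1).drop 1).drop 1).drop 1).drop 1).drop 1).drop 1).drop 1).drop 1).drop 1).drop 1).drop 1).drop 1).drop 1).drop 1).drop 1).drop 1).drop 1).drop 1).drop 1).drop 1).drop 1).drop 1).drop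 1).drop 1).drop 1).drop 1).drop 1).drop 1).drop 1).drop 1).drop 1).drop 1).drop 1).drop 1).drop 1).drop 1).drop 1).drop 1).drop 1).drop 1).drop 1).drop 1).drop 1).drop 1).drop 1).drop 1).drop 1).drop 1).take 1) (Ag Fi24.A FiHe.A 19 (ivl 0 2058) 0x102 act2_ws 0) = true := by decide +kernel

theorem act2_ag_128 : allL (((((((((((((((((((((((((((((((((((((((((((((((((((((((((((((((((((((((((((((((((((((((((((((((((((((((((((((((((((((((((((((((((((agList 0 7 19)).drop 1).drop 1).drop 1).drop 1).drop 1).drop 1).drop 1).drop 1).drop 1).drop 1).drop 1).drop 1).drop 1).drop 1).drop 1).drop 1).drop 1).drop 1).drop 1).drop 1).drop 1).drop 1).drop 1).drop 1).drop 1).drop 1).drop 1).drop 1).drop 1).drop 1).drop 1).drop 1).drop 1).drop 1).drop 1).drop 1).drop 1).drop 1).drop 1).drop 1).drop 1).drop 1).drop 1).drop 1).drop 1).drop 1).drop 1).drop 1).drop 1).drop 1).drop 1).drop 1).drop 1).drop 1).drop 1).drop 1).drop 1).drop 1).drop 1).drop 1).drop 1).drop 1).drop 1).drop 1).drop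 1).drop 1).drop 1).drop 1).drop 1).drop 1).drop 1).drop 1).drop 1).drop 1).drop 1).drop 1).drop 1).drop 1).drop 1).drop 1).drop 1).drop 1).drop 1).drop 1).drop 1).drop 1).drop 1).drop 1).drop 1).drop 1).drop 1).drop 1).drop 1).drop 1).drop 1).drop 1).drop 1).drop 1).drop 1).drop 1).drop 1).drop 1).drop 1).drop 1).drop 1).drop 1).drop 1).drop 1).drop 1).drop 1).drop 1).drop 1).drop 1).drop 1).drop 1).drop 1).drop 1).drop 1).drop 1).drop 1).drop 1).drop 1).drop 1).drop 1).drop 1).drop 1).drop 1).drop 1).take 1) (Ag Fi24.A FiHe.A 19 (ivl 0 2058) 0x102 act2_ws 0) = true := by decide +kernel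

theorem act2_ag_129 : allL ((((((((((((((((((((((((((((((((((((((((((((((((((((((((((((((((((((((((((((((((((((((((((((((((((((((((((((((((((((((((((((((((((((agList 0 7 19)).drop 1).drop 1).drop 1).drop 1).drop 1).drop 1).drop 1).drop 1).drop 1).drop 1).drop 1).drop 1).drop 1).drop 1).drop 1).drop 1).drop 1).drop 1).drop 1).drop 1).drop 1).drop 1).drop 1).drop 1).drop 1).drop 1).drop 1).drop 1).drop 1).drop 1).drop 1).drop 1).drop 1).drop 1).drop 1).drop 1).drop 1).drop 1).drop 1).drop 1).drop 1).drop 1).drop 1).drop 1).drop 1).drop 1).drop 1).drop 1).drop 1).drop 1).drop 1).drop 1).drop 1).drop 1).drop 1).drop 1).drop 1).drop 1).drop 1).drop 1).drop 1).drop 1).drop 1).drop 1).drop 1).drop 1).drop 1).drop 1).drop 1).drop 1).drop 1).drop 1).drop 1).drop 1).drop 1).drop 1).drop 1).drop 1).drop 1).drop 1).drop 1).drop 1).drop 1).drop 1).drop 1).drop 1).drop 1).drop 1).drop 1).drop 1).drop 1).drop 1).drop 1).drop 1).drop 1).drop 1).drop 1).drop 1).drop 1).drop 1).drop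 1).drop 1).drop 1).drop 1).drop 1).drop 1).drop 1).drop 1).drop 1).drop 1).drop 1).drop 1).drop 1).drop 1).drop 1).drop 1).drop 1).drop 1).drop 1).drop 1).drop 1).drop 1).drop 1).drop 1).drop 1).drop 1).drop 1).drop 1).drop 1).take 1) (Ag Fi24.A FiHe.A 19 (ivl 0 2058) 0x102 act2_ws 0) = true := by decide +kernel

theorem act2_ag_130 : allL (((((((((((((((((((((((((((((((((((((((((((((((((((((((((((((((((((((((((((((((((((((((((((((((((((((((((((((((((((((((((((((((((((((agList 0 7 19)).drop 1).drop 1).drop 1).drop 1).drop 1).drop 1).drop 1).drop 1).drop 1).drop 1).drop 1).drop 1).drop 1).drop 1).drop 1).drop 1).drop 1).drop 1).drop 1).drop 1).drop 1).drop 1).drop 1).drop 1).drop 1).drop 1).drop 1).drop 1).drop 1).drop 1).drop 1).drop 1).drop 1).drop 1).drop 1).drop 1).drop 1).drop 1).drop 1).drop 1).drop 1).drop 1).drop 1).drop 1).drop 1).drop 1).drop 1).drop 1).drop 1).drop 1).drop 1).drop 1).drop 1).drop 1).drop 1).drop 1).drop 1).drop 1).drop 1).drop 1).drop 1).drop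 1).drop 1).drop 1).drop 1).drop 1).drop 1).drop 1).drop 1).drop 1).drop 1).drop 1).drop 1).drop 1).drop 1).drop 1).drop 1).drop 1).drop 1).drop 1).drop 1).drop 1).drop 1).drop 1).drop 1).drop 1).drop 1).drop 1).drop 1).drop 1).drop 1).drop 1).drop 1).drop 1).drop 1).drop 1).drop 1).drop 1).drop 1).drop 1).drop 1).drop 1).drop 1).drop 1).drop 1).drop 1).drop 1).drop 1).drop 1).drop 1).drop 1).drop 1).drop 1).drop 1).drop 1).drop 1).drop 1).drop 1).drop 1).drop 1).drop 1).drop 1).drop 1).drop 1).drop 1).drop 1).drop 1).drop 1).drop 1).drop 1).take 1) (Ag Fi24.A FiHe.A 19 (ivl 0 2058) 0x102 act2_ws 0) = true := by decide +kernel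

theorem act2_ag_131 : allL ((((((((((((((((((((((((((((((((((((((((((((((((((((((((((((((((((((((((((((((((((((((((((((((((((((((((((((((((((((((((((((((((((((((agList 0 7 19)).drop 1).drop 1).drop 1).drop 1).drop 1).drop 1).drop 1).drop 1).drop 1).drop 1).drop 1).drop 1).drop 1).drop 1).drop 1).drop 1).drop 1).drop 1).drop 1).drop 1).drop 1).drop 1).drop 1).drop 1).drop 1).drop 1).drop 1).drop 1).drop 1).drop 1).drop 1).drop 1).drop 1).drop 1).drop 1).drop 1).drop 1).drop 1).drop 1).drop 1).drop 1).drop 1).drop 1).drop 1).drop 1).drop 1).drop 1).drop 1).drop 1).drop 1).drop 1).drop 1).drop 1).drop 1).drop 1).drop 1).drop 1).drop 1).drop 1).drop 1).drop 1).drop 1).drop 1).drop 1).drop 1).drop 1).drop 1).drop 1).drop 1).drop 1).drop 1).drop 1).drop 1).drop 1).drop 1).drop 1).drop 1).drop 1).drop 1).drop 1).drop 1).drop 1).drop 1).drop 1).drop 1).drop 1).drop 1).drop 1).drop 1).drop 1).drop 1).drop 1).drop 1).drop 1).drop 1).drop 1).drop 1).drop 1).drop 1).drop 1).drop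 1).drop 1).drop 1).drop 1).drop 1).drop 1).drop 1).drop 1).drop 1).drop 1).drop 1).drop 1).drop 1).drop 1).drop 1).drop 1).drop 1).drop 1).drop 1).drop 1).drop 1).drop 1).drop 1).drop 1).drop 1).drop 1).drop 1).drop 1).drop 1).drop 1).drop 1).take 1) (Ag Fi24.A FiHe.A 19 (ivl 0 2058) 0x102 act2_ws 0) = true := by decide +kernel

theorem act2_ag_132 : allL ((((((((((((((((((((((((((((((((((((((((((((((((((((((((((((((((((((((((((((((((((((((((((((((((((((((((((((((((((((((((((((((((((((((agList 0 7 19)).drop 1).drop 1).drop 1).drop 1).drop 1).drop 1).drop 1).drop 1).drop 1).drop 1).drop 1).drop 1).drop 1).drop 1).drop 1).drop 1).drop 1).drop 1).drop 1).drop 1).drop 1).drop 1).drop 1).drop 1).drop 1).drop 1).drop 1).drop 1).drop 1).drop 1).drop 1).drop 1).drop 1).drop 1).drop 1).drop 1).drop 1).drop 1).drop 1).drop 1).drop 1).drop 1).drop 1).drop 1).drop 1).drop 1).drop 1).drop 1).drop 1).drop 1).drop 1).drop 1).drop 1).drop 1).drop 1).drop 1).drop 1).drop 1).drop 1).drop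 1).drop 1).drop 1).drop 1).drop 1).drop 1).drop 1).drop 1).drop 1).drop 1).drop 1).drop 1).drop 1).drop 1).drop 1).drop 1).drop 1).drop 1).drop 1).drop 1).drop 1).drop 1).drop 1).drop 1).drop 1).drop 1).drop 1).drop 1).drop 1).drop 1).drop 1).drop 1).drop 1).drop 1).drop 1).drop 1).drop 1).drop 1).drop 1).drop 1).drop 1).drop 1).drop 1).drop 1).drop 1).drop 1).drop 1).drop 1).drop 1).drop 1).drop 1).drop 1).drop 1).drop 1).drop 1).drop 1).drop 1).drop 1).drop 1).drop 1).drop 1).drop 1).drop 1).drop 1).drop 1).drop 1).drop 1).drop 1).drop 1).drop 1).drop 1).drop 1).drop 1) (Ag Fi24.A FiHe.A 19 (ivl 0 2058) 0x102 act2_ws 0) = true := by decide +kernel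

theorem act2_ag : ∀ c ∈ agList 0 7 19, (Ag Fi24.A FiHe.A 19 (ivl 0 2058) 0x102 act2_ws 0) c = true :=
  (forall_take_drop 1 (allL_spec act2_ag_0)
  (forall_take_drop 1 (allL_spec act2_ag_1)
  (forall_take_drop 1 (allL_spec act2_ag_2)
  (forall_take_drop 1 (allL_spec act2_ag_3)
  (forall_take_drop 1 (allL_spec act2_ag_4)
  (forall_take_drop 1 (allL_spec act2_ag_5)
  (forall_take_drop 1 (allL_spec act2_ag_6)
  (forall_take_drop 1 (allL_spec act2_ag_7)
  (forall_take_drop 1 (allL_spec act2_ag_8)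
  (forall_take_drop 1 (allL_spec act2_ag_9)
  (forall_take_drop 1 (allL_spec act2_ag_10)
  (forall_take_drop 1 (allL_spec act2_ag_11)
  (forall_take_drop 1 (allL_spec act2_ag_12)
  (forall_take_drop 1 (allL_spec act2_ag_13)
  (forall_take_drop 1 (allL_spec act2_ag_14)
  (forall_take_drop 1 (allL_spec act2_ag_15)
  (forall_take_drop 1 (allL_spec act2_ag_16)
  (forall_take_drop 1 (allL_spec act2_ag_17)
  (forall_take_drop 1 (allL_spec act2_ag_18)
  (forall_take_drop 1 (allL_spec act2_ag_19)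
  (forall_take_drop 1 (allL_spec act2_ag_20)
  (forall_take_drop 1 (allL_spec act2_ag_21)
  (forall_take_drop 1 (allL_spec act2_ag_22)
  (forall_take_drop 1 (allL_spec act2_ag_23)
  (forall_take_drop 1 (allL_spec act2_ag_24)
  (forall_take_drop 1 (allL_spec act2_ag_25)
  (forall_take_drop 1 (allL_spec act2_ag_26)
  (forall_take_drop 1 (allL_spec act2_ag_27)
  (forall_take_drop 1 (allL_spec act2_ag_28)
  (forall_take_drop 1 (allL_spec act2_ag_29)
  (forall_take_drop 1 (allL_spec act2_ag_30)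
  (forall_take_drop 1 (allL_spec act2_ag_31)
  (forall_take_drop 1 (allL_spec act2_ag_32)
  (forall_take_drop 1 (allL_spec act2_ag_33)
  (forall_take_drop 1 (allL_spec act2_ag_34)
  (forall_take_drop 1 (allL_spec act2_ag_35)
  (forall_take_drop 1 (allL_spec act2_ag_36)
  (forall_take_drop 1 (allL_spec act2_ag_37)
  (forall_take_drop 1 (allL_spec act2_ag_38)
  (forall_take_drop 1 (allL_spec act2_ag_39)
  (forall_take_drop 1 (allL_spec act2_ag_40)
  (forall_take_drop 1 (allL_spec act2_ag_41)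
  (forall_take_drop 1 (allL_spec act2_ag_42)
  (forall_take_drop 1 (allL_spec act2_ag_43)
  (forall_take_drop 1 (allL_spec act2_ag_44)
  (forall_take_drop 1 (allL_spec act2_ag_45)
  (forall_take_drop 1 (allL_spec act2_ag_46)
  (forall_take_drop 1 (allL_spec act2_ag_47)
  (forall_take_drop 1 (allL_spec act2_ag_48)
  (forall_take_drop 1 (allL_spec act2_ag_49)
  (forall_take_drop 1 (allL_spec act2_ag_50)
  (forall_take_drop 1 (allL_spec act2_ag_51)
  (forall_take_drop 1 (allL_spec act2_ag_52)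
  (forall_take_drop 1 (allL_spec act2_ag_53)
  (forall_take_drop 1 (allL_spec act2_ag_54)
  (forall_take_drop 1 (allL_spec act2_ag_55)
  (forall_take_drop 1 (allL_spec act2_ag_56)
  (forall_take_drop 1 (allL_spec act2_ag_57)
  (forall_take_drop 1 (allL_spec act2_ag_58)
  (forall_take_drop 1 (allL_spec act2_ag_59)
  (forall_take_drop 1 (allL_spec act2_ag_60)
  (forall_take_drop 1 (allL_spec act2_ag_61)
  (forall_take_drop 1 (allL_spec act2_ag_62)
  (forall_take_drop 1 (allL_spec act2_ag_63)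
  (forall_take_drop 1 (allL_spec act2_ag_64)
  (forall_take_drop 1 (allL_spec act2_ag_65)
  (forall_take_drop 1 (allL_spec act2_ag_66)
  (forall_take_drop 1 (allL_spec act2_ag_67)
  (forall_take_drop 1 (allL_spec act2_ag_68)
  (forall_take_drop 1 (allL_spec act2_ag_69)
  (forall_take_drop 1 (allL_spec act2_ag_70)
  (forall_take_drop 1 (allL_spec act2_ag_71)
  (forall_take_drop 1 (allL_spec act2_ag_72)
  (forall_take_drop 1 (allL_spec act2_ag_73)
  (forall_take_drop 1 (allL_spec act2_ag_74)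
  (forall_take_drop 1 (allL_spec act2_ag_75)
  (forall_take_drop 1 (allL_spec act2_ag_76)
  (forall_take_drop 1 (allL_spec act2_ag_77)
  (forall_take_drop 1 (allL_spec act2_ag_78)
  (forall_take_drop 1 (allL_spec act2_ag_79)
  (forall_take_drop 1 (allL_spec act2_ag_80)
  (forall_take_drop 1 (allL_spec act2_ag_81)
  (forall_take_drop 1 (allL_spec act2_ag_82)
  (forall_take_drop 1 (allL_spec act2_ag_83)
  (forall_take_drop 1 (allL_spec act2_ag_84)
  (forall_take_drop 1 (allL_spec act2_ag_85)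
  (forall_take_drop 1 (allL_spec act2_ag_86)
  (forall_take_drop 1 (allL_spec act2_ag_87)
  (forall_take_drop 1 (allL_spec act2_ag_88)
  (forall_take_drop 1 (allL_spec act2_ag_89)
  (forall_take_drop 1 (allL_spec act2_ag_90)
  (forall_take_drop 1 (allL_spec act2_ag_91)
  (forall_take_drop 1 (allL_spec act2_ag_92)
  (forall_take_drop 1 (allL_spec act2_ag_93)
  (forall_take_drop 1 (allL_spec act2_ag_94)
  (forall_take_drop 1 (allL_spec act2_ag_95)
  (forall_take_drop 1 (allL_spec act2_ag_96)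
  (forall_take_drop 1 (allL_spec act2_ag_97)
  (forall_take_drop 1 (allL_spec act2_ag_98)
  (forall_take_drop 1 (allL_spec act2_ag_99)
  (forall_take_drop 1 (allL_spec act2_ag_100)
  (forall_take_drop 1 (allL_spec act2_ag_101)
  (forall_take_drop 1 (allL_spec act2_ag_102)
  (forall_take_drop 1 (allL_spec act2_ag_103)
  (forall_take_drop 1 (allL_spec act2_ag_104)
  (forall_take_drop 1 (allL_spec act2_ag_105)
  (forall_take_drop 1 (allL_spec act2_ag_106)
  (forall_take_drop 1 (allL_spec act2_ag_107)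
  (forall_take_drop 1 (allL_spec act2_ag_108)
  (forall_take_drop 1 (allL_spec act2_ag_109)
  (forall_take_drop 1 (allL_spec act2_ag_110)
  (forall_take_drop 1 (allL_spec act2_ag_111)
  (forall_take_drop 1 (allL_spec act2_ag_112)
  (forall_take_drop 1 (allL_spec act2_ag_113)
  (forall_take_drop 1 (allL_spec act2_ag_114)
  (forall_take_drop 1 (allL_spec act2_ag_115)
  (forall_take_drop 1 (allL_spec act2_ag_116)
  (forall_take_drop 1 (allL_spec act2_ag_117)
  (forall_take_drop 1 (allL_spec act2_ag_118)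
  (forall_take_drop 1 (allL_spec act2_ag_119)
  (forall_take_drop 1 (allL_spec act2_ag_120)
  (forall_take_drop 1 (allL_spec act2_ag_121)
  (forall_take_drop 1 (allL_spec act2_ag_122)
  (forall_take_drop 1 (allL_spec act2_ag_123)
  (forall_take_drop 1 (allL_spec act2_ag_124)
  (forall_take_drop 1 (allL_spec act2_ag_125)
  (forall_take_drop 1 (allL_spec act2_ag_126)
  (forall_take_drop 1 (allL_spec act2_ag_127)
  (forall_take_drop 1 (allL_spec act2_ag_128)
  (forall_take_drop 1 (allL_spec act2_ag_129)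
  (forall_take_drop 1 (allL_spec act2_ag_130)
  (forall_take_drop 1 (allL_spec act2_ag_131)
  (allL_spec act2_ag_132)))))))))))))))))))))))))))))))))))))))))))))))))))))))))))))))))))))))))))))))))))))))))))))))))))))))))))))))))))))))))))))))))))))

theorem act2_inv : invB FiHe.A (kgens FiHe.A 0) (ivl 0 2058) = true := by decide +kernel

theorem act2 : ∀ j, 0 ≤ j → j < FiHe.A.length → Acts (fun i => wp Fi24.A 0x102 i) (bset (ivl 0 2058))
    (wp Fi24.A (nthD 1 act2_ws (j - 0))) (gp FiHe.A j) :=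
  acts_of_Ag Fi24.hA FiHe.hA (by norm_num) (by rw [FiHe.hlen]; norm_num) act2_inv (by rw [FiHe.hlen]; exact act2_ag)

def fixB_lv : List (ℕ × List (List ℕ) × ℕ × ℕ) := [(2, [[0x0230], [0x023028]], 2, 4),
  (28, [[0x02282c]], 2, 2)]

theorem fixB_ok : lbB Fi24.A 16 10 fixB_lv [] = true := by decide +kernel

theorem fixB : FixTriv (K Fi24.A 10) ((fun i => wp Fi24.A 0x102 i) '' bset (ivl 0 2058)) := by
  have := lb_fixTriv Fi24.hA fixB_ok (by rw [KS_nil, Fi24.card8]; decide +kernel) (B := (fun i => wp Fi24.A 0x102 i) '' bset (ivl 0 2058))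
    (fun q hq => by
      simp only [fixB_lv, List.mem_cons, List.not_mem_nil, or_false] at hq
      rcases hq with rfl | rfl
      · exact mem_image_of Fi24.hA (i := 0) (by decide +kernel)
      · exact mem_image_of Fi24.hA (i := 2) (by decide +kernel))
  rwa [KS_nil] at this

theorem fixA : FixTriv (K Fi24.A 2) ((fun i => wp Fi24.A 0x102 i) '' bset (ivl 0 2058)) :=
  fixTriv_step Fi24.stab0 (mem_image_of Fi24.hA (i := 425) (by decide +kernel)) <|
  fixTriv_step Fi24.stab1 (mem_image_of Fi24.hA (i := 363) (by decide +kernel)) <|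
  fixTriv_step Fi24.stab2 (mem_image_of Fi24.hA (i := 20) (by decide +kernel)) <|
  fixTriv_step Fi24.stab3 (mem_image_of Fi24.hA (i := 73) (by decide +kernel)) <|
  fixTriv_step Fi24.stab4 (mem_image_of Fi24.hA (i := 154) (by decide +kernel)) <|
  fixTriv_step Fi24.stab5 (mem_image_of Fi24.hA (i := 178) (by decide +kernel)) <|
  fixTriv_step Fi24.stab6 (mem_image_of Fi24.hA (i := 204) (by decide +kernel)) <|
  fixTriv_step Fi24.stab7 (mem_image_of Fi24.hA (i := 19) (by decide +kernel)) <|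
  fixB

theorem subHe : ∃ S : Subgroup (Equiv.Perm ℕ), S ≤ K Fi24.A 2 ∧ Nonempty (S ≃* K FiHe.A 0) :=
  sub_iso act2 (by decide +kernel) (FiHe.fixTriv0 (mem_bset_ivl.2 (by norm_num)) (mem_bset_ivl.2 (by norm_num)) (mem_bset_ivl.2 (by norm_num)) (mem_bset_ivl.2 (by norm_num)) (mem_bset_ivl.2 (by norm_num)) (mem_bset_ivl.2 (by norm_num)) (mem_bset_ivl.2 (by norm_num))) fixA


end Cfsg.Agent.Spor.Fi24H
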