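import Cfsg.Agent.Lib.Spor.Fi24.C0
import Cfsg.Agent.Lib.Spor.Fi24.C1
import Cfsg.Agent.Lib.Spor.Fi24.C2
import Cfsg.Agent.Lib.Spor.Fi24.C3
import Cfsg.Agent.Lib.Spor.Fi24.C4
import Cfsg.Agent.Lib.Spor.Fi24.C5
import Cfsg.Agent.Lib.Spor.Fi24.C6
import Cfsg.Agent.Lib.Spor.Fi24.C7
import Cfsg.Agent.Lib.Spor.Fi24.C8
import Cfsg.Agent.Lib.Spor.Fi24.C9
import Cfsg.Agent.Lib.Spor.Fi24.C10
import Cfsg.Agent.Lib.Spor.Fi24.C11
import Cfsg.Agent.Lib.Spor.Fi24.C12
import Cfsg.Agent.Lib.Spor.Fi24.C13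
import Cfsg.Agent.Lib.Spor.Fi24.C14
import Cfsg.Agent.Lib.Spor.Fi24.C15
import Cfsg.Agent.Lib.Spor.Fi24.C16
import Cfsg.Agent.Lib.Spor.Fi24.C17
import Cfsg.Agent.Lib.Spor.Fi24.C18
import Cfsg.Agent.Lib.Spor.Fi24.C19
import Cfsg.Agent.Lib.Spor.Fi24.C20
import Cfsg.Agent.Lib.Spor.Fi24.C21
import Cfsg.Agent.Lib.Spor.Fi24.Defs

set_option autoImplicit false
set_option maxRecDepth 100000
set_option Elab.async false
set_option exponentiation.threshold 100000

namespace Cfsg.Agent.Spor.Fi24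
open Cfsg.Agent.PG

theorem card10 : Nat.card (K A 13) = 1 := card_K_last A (le_of_eq hlen)

theorem cl9 : ∀ c ∈ cl9_l, Holds A c :=
  (fun c hc => HoldsOn.holds hA (((((((((((((((((((chkOn_spec hA cl9_0_0 c hc).append (chkOn_spec hA cl9_0_1 c hc)).append (chkOn_spec hA cl9_0_2 c hc)).append (chkOn_spec hA cl9_0_3 c hc)).append (chkOn_spec hA cl9_0_4 c hc)).append (chkOn_spec hA cl9_0_5 c hc)).append (chkOn_spec hA cl9_0_6 c hc)).append (chkOn_spec hA cl9_0_7 c hc)).append (chkOn_spec hA cl9_0_8 c hc)).append (chkOn_spec hA cl9_0_9 c hc)).append (chkOn_spec hA cl9_0_10 c hc)).append (chkOn_spec hA cl9_0_11 c hc)).append (chkOn_spec hA cl9_0_12 c hc)).append (chkOn_spec hA cl9_0_13 c hc)).append (chkOn_spec hA cl9_0_14 c hc)).append (chkOn_spec hA cl9_0_15 c hc)).append (chkOn_spec hA cl9_0_16 c hc)).append (chkOn_spec hA cl9_0_17 c hc)).append (chkOn_spec hA cl9_0_18 c hc)))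

theorem stab9 : StabIs A 12 0 13 := stabIs_plain hA ok9 cl9

theorem card9 : Nat.card (K A 12) = 2 := card_K_step hA stab9 orb9 card10

theorem cl8 : ∀ c ∈ cl8_l, Holds A c :=
  (fun c hc => HoldsOn.holds hA (((((((((((((((((((chkOn_spec hA cl8_0_0 c hc).append (chkOn_spec hA cl8_0_1 c hc)).append (chkOn_spec hA cl8_0_2 c hc)).append (chkOn_spec hA cl8_0_3 c hc)).append (chkOn_spec hA cl8_0_4 c hc)).append (chkOn_spec hA cl8_0_5 c hc)).append (chkOn_spec hA cl8_0_6 c hc)).append (chkOn_spec hA cl8_0_7 c hc)).append (chkOn_spec hA cl8_0_8 c hc)).append (chkOn_spec hA cl8_0_9 c hc)).append (chkOn_spec hA cl8_0_10 c hc)).append (chkOn_spec hA cl8_0_11 c hc)).append (chkOn_spec hA cl8_0_12 c hc)).append (chkOn_spec hA cl8_0_13 c hc)).append (chkOn_spec hA cl8_0_14 c hc)).append (chkOn_spec hA cl8_0_15 c hc)).append (chkOn_spec hA cl8_0_16 c hc)).append (chkOn_spec hA cl8_0_17 c hc)).append (chkOn_spec hA cl8_0_18 c hc)))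

theorem stab8 : StabIs A 10 31254 12 := stabIs_plain hA ok8 cl8

theorem card8 : Nat.card (K A 10) = 8 := card_K_step hA stab8 orb8 card9

theorem cl7 : ∀ c ∈ cl7_l, Holds A c :=
  (forall_take_drop 15 (fun c hc => HoldsOn.holds hA (((((((((((((((((((chkOn_spec hA cl7_0_0 c hc).append (chkOn_spec hA cl7_0_1 c hc)).append (chkOn_spec hA cl7_0_2 c hc)).append (chkOn_spec hA cl7_0_3 c hc)).append (chkOn_spec hA cl7_0_4 c hc)).append (chkOn_spec hA cl7_0_5 c hc)).append (chkOn_spec hA cl7_0_6 c hc)).append (chkOn_spec hA cl7_0_7 c hc)).append (chkOn_spec hA cl7_0_8 c hc)).append (chkOn_spec hA cl7_0_9 c hc)).append (chkOn_spec hA cl7_0_10 c hc)).append (chkOn_spec hA cl7_0_11 c hc)).append (chkOn_spec hA cl7_0_12 c hc)).append (chkOn_spec hA cl7_0_13 c hc)).append (chkOn_spec hA cl7_0_14 c hc)).append (chkOn_spec hA cl7_0_15 c hc)).append (chkOn_spec hA cl7_0_16 c hc)).append (chkOn_spec hA cl7_0_17 c hc)).append (chkOn_spec hA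 cl7_0_18 c hc)))
  (forall_take_drop 8 (fun c hc => HoldsOn.holds hA (((((((((((((((((((chkOn_spec hA cl7_1_0 c hc).append (chkOn_spec hA cl7_1_1 c hc)).append (chkOn_spec hA cl7_1_2 c hc)).append (chkOn_spec hA cl7_1_3 c hc)).append (chkOn_spec hA cl7_1_4 c hc)).append (chkOn_spec hA cl7_1_5 c hc)).append (chkOn_spec hA cl7_1_6 c hc)).append (chkOn_spec hA cl7_1_7 c hc)).append (chkOn_spec hA cl7_1_8 c hc)).append (chkOn_spec hA cl7_1_9 c hc)).append (chkOn_spec hA cl7_1_10 c hc)).append (chkOn_spec hA cl7_1_11 c hc)).append (chkOn_spec hA cl7_1_12 c hc)).append (chkOn_spec hA cl7_1_13 c hc)).append (chkOn_spec hA cl7_1_14 c hc)).append (chkOn_spec hA cl7_1_15 c hc)).append (chkOn_spec hA cl7_1_16 c hc)).append (chkOn_spec hA cl7_1_17 c hc)).append (chkOn_spec hA cl7_1_18 c hc)))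
  (fun c hc => HoldsOn.holds hA (((((((((((((((((((chkOn_spec hA cl7_2_0 c hc).append (chkOn_spec hA cl7_2_1 c hc)).append (chkOn_spec hA cl7_2_2 c hc)).append (chkOn_spec hA cl7_2_3 c hc)).append (chkOn_spec hA cl7_2_4 c hc)).append (chkOn_spec hA cl7_2_5 c hc)).append (chkOn_spec hA cl7_2_6 c hc)).append (chkOn_spec hA cl7_2_7 c hc)).append (chkOn_spec hA cl7_2_8 c hc)).append (chkOn_spec hA cl7_2_9 c hc)).append (chkOn_spec hA cl7_2_10 c hc)).append (chkOn_spec hA cl7_2_11 c hc)).append (chkOn_spec hA cl7_2_12 c hc)).append (chkOn_spec hA cl7_2_13 c hc)).append (chkOn_spec hA cl7_2_14 c hc)).append (chkOn_spec hA cl7_2_15 c hc)).append (chkOn_spec hA cl7_2_16 c hc)).append (chkOn_spec hA cl7_2_17 c hc)).append (chkOn_spec hA cl7_2_18 c hc)))))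

theorem stab7 : StabIs A 9 550 10 := stabIs_plain hA ok7 cl7

theorem card7 : Nat.card (K A 9) = 48 := card_K_step hA stab7 orb7 card8

theorem cl6 : ∀ c ∈ cl6_l, Holds A c :=
  (forall_take_drop 12 (fun c hc => HoldsOn.holds hA (((((((((((((((((((chkOn_spec hA cl6_0_0 c hc).append (chkOn_spec hA cl6_0_1 c hc)).append (chkOn_spec hA cl6_0_2 c hc)).append (chkOn_spec hA cl6_0_3 c hc)).append (chkOn_spec hA cl6_0_4 c hc)).append (chkOn_spec hA cl6_0_5 c hc)).append (chkOn_spec hA cl6_0_6 c hc)).append (chkOn_spec hA cl6_0_7 c hc)).append (chkOn_spec hA cl6_0_8 c hc)).append (chkOn_spec hA cl6_0_9 c hc)).append (chkOn_spec hA cl6_0_10 c hc)).append (chkOn_spec hA cl6_0_11 c hc)).append (chkOn_spec hA cl6_0_12 c hc)).append (chkOn_spec hA cl6_0_13 c hc)).append (chkOn_spec hA cl6_0_14 c hc)).append (chkOn_spec hA cl6_0_15 c hc)).append (chkOn_spec hA cl6_0_16 c hc)).append (chkOn_spec hA cl6_0_17 c hc)).append (chkOn_spec hA cl6_0_18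 c hc)))
  (forall_take_drop 6 (fun c hc => HoldsOn.holds hA (((((((((((((((((((chkOn_spec hA cl6_1_0 c hc).append (chkOn_spec hA cl6_1_1 c hc)).append (chkOn_spec hA cl6_1_2 c hc)).append (chkOn_spec hA cl6_1_3 c hc)).append (chkOn_spec hA cl6_1_4 c hc)).append (chkOn_spec hA cl6_1_5 c hc)).append (chkOn_spec hA cl6_1_6 c hc)).append (chkOn_spec hA cl6_1_7 c hc)).append (chkOn_spec hA cl6_1_8 c hc)).append (chkOn_spec hA cl6_1_9 c hc)).append (chkOn_spec hA cl6_1_10 c hc)).append (chkOn_spec hA cl6_1_11 c hc)).append (chkOn_spec hA cl6_1_12 c hc)).append (chkOn_spec hA cl6_1_13 c hc)).append (chkOn_spec hA cl6_1_14 c hc)).append (chkOn_spec hA cl6_1_15 c hc)).append (chkOn_spec hA cl6_1_16 c hc)).append (chkOn_spec hA cl6_1_17 c hc)).append (chkOn_spec hA cl6_1_18 c hc)))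
  (forall_take_drop 5 (fun c hc => HoldsOn.holds hA (((((((((((((((((((chkOn_spec hA cl6_2_0 c hc).append (chkOn_spec hA cl6_2_1 c hc)).append (chkOn_spec hA cl6_2_2 c hc)).append (chkOn_spec hA cl6_2_3 c hc)).append (chkOn_spec hA cl6_2_4 c hc)).append (chkOn_spec hA cl6_2_5 c hc)).append (chkOn_spec hA cl6_2_6 c hc)).append (chkOn_spec hA cl6_2_7 c hc)).append (chkOn_spec hA cl6_2_8 c hc)).append (chkOn_spec hA cl6_2_9 c hc)).append (chkOn_spec hA cl6_2_10 c hc)).append (chkOn_spec hA cl6_2_11 c hc)).append (chkOn_spec hA cl6_2_12 c hc)).append (chkOn_spec hA cl6_2_13 c hc)).append (chkOn_spec hA cl6_2_14 c hc)).append (chkOn_spec hA cl6_2_15 c hc)).append (chkOn_spec hA cl6_2_16 c hc)).append (chkOn_spec hA cl6_2_17 c hc)).append (chkOn_spec hA cl6_2_18 c hc)))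
  (fun c hc => HoldsOn.holds hA (((((((((((((((((((chkOn_spec hA cl6_3_0 c hc).append (chkOn_spec hA cl6_3_1 c hc)).append (chkOn_spec hA cl6_3_2 c hc)).append (chkOn_spec hA cl6_3_3 c hc)).append (chkOn_spec hA cl6_3_4 c hc)).append (chkOn_spec hA cl6_3_5 c hc)).append (chkOn_spec hA cl6_3_6 c hc)).append (chkOn_spec hA cl6_3_7 c hc)).append (chkOn_spec hA cl6_3_8 c hc)).append (chkOn_spec hA cl6_3_9 c hc)).append (chkOn_spec hA cl6_3_10 c hc)).append (chkOn_spec hA cl6_3_11 c hc)).append (chkOn_spec hA cl6_3_12 c hc)).append (chkOn_spec hA cl6_3_13 c hc)).append (chkOn_spec hA cl6_3_14 c hc)).append (chkOn_spec hA cl6_3_15 c hc)).append (chkOn_spec hA cl6_3_16 c hc)).append (chkOn_spec hA cl6_3_17 c hc)).append (chkOn_spec hA cl6_3_18 c hc))))))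

theorem stab6 : StabIs A 8 11293 9 := stabIs_dc' hA stab7 ok6
  (forall_take_drop 1 (allL_spec ok6_0)
  (forall_take_drop 1 (allL_spec ok6_1)
  (forall_take_drop 1 (allL_spec ok6_2)
  (forall_take_drop 1 (allL_spec ok6_3)
  (forall_take_drop 1 (allL_spec ok6_4)
  (allL_spec ok6_5)))))) cl6

theorem card6 : Nat.card (K A 8) = 768 := card_K_step hA stab6 orb6 card7

theorem cl5 : ∀ c ∈ cl5_l, Holds A c :=
  (forall_take_drop 12 (fun c hc => HoldsOn.holds hA (((((((((((((((((((chkOn_spec hA cl5_0_0 c hc).append (chkOn_spec hA cl5_0_1 c hc)).append (chkOn_spec hA cl5_0_2 c hc)).append (chkOn_spec hA cl5_0_3 c hc)).append (chkOn_spec hA cl5_0_4 c hc)).append (chkOn_spec hA cl5_0_5 c hc)).append (chkOn_spec hA cl5_0_6 c hc)).append (chkOn_spec hA cl5_0_7 c hc)).append (chkOn_spec hA cl5_0_8 c hc)).append (chkOn_spec hA cl5_0_9 c hc)).append (chkOn_spec hA cl5_0_10 c hc)).append (chkOn_spec hA cl5_0_11 c hc)).append (chkOn_spec hA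 cl5_0_12 c hc)).append (chkOn_spec hA cl5_0_13 c hc)).append (chkOn_spec hA cl5_0_14 c hc)).append (chkOn_spec hA cl5_0_15 c hc)).append (chkOn_spec hA cl5_0_16 c hc)).append (chkOn_spec hA cl5_0_17 c hc)).append (chkOn_spec hA cl5_0_18 c hc)))
  (forall_take_drop 5 (fun c hc => HoldsOn.holds hA (((((((((((((((((((chkOn_spec hA cl5_1_0 c hc).append (chkOn_spec hA cl5_1_1 c hc)).append (chkOn_spec hA cl5_1_2 c hc)).append (chkOn_spec hA cl5_1_3 c hc)).append (chkOn_spec hA cl5_1_4 c hc)).append (chkOn_spec hA cl5_1_5 c hc)).append (chkOn_spec hA cl5_1_6 c hc)).append (chkOn_spec hA cl5_1_7 c hc)).append (chkOn_spec hA cl5_1_8 c hc)).append (chkOn_spec hA cl5_1_9 c hc)).append (chkOn_spec hA cl5_1_10 c hc)).append (chkOn_spec hA cl5_1_11 c hc)).append (chkOn_spec hA cl5_1_12 c hc)).append (chkOn_spec hA cl5_1_13 c hc)).append (chkOn_spec hA cl5_1_14 c hc)).append (chkOn_spec hA cl5_1_15 c hc)).append (chkOn_spec hA cl5_1_16 c hc)).append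 (chkOn_spec hA cl5_1_17 c hc)).append (chkOn_spec hA cl5_1_18 c hc)))
  (forall_take_drop 3 (fun c hc => HoldsOn.holds hA (((((((((((((((((((chkOn_spec hA cl5_2_0 c hc).append (chkOn_spec hA cl5_2_1 c hc)).append (chkOn_spec hA cl5_2_2 c hc)).append (chkOn_spec hA cl5_2_3 c hc)).append (chkOn_spec hA cl5_2_4 c hc)).append (chkOn_spec hA cl5_2_5 c hc)).append (chkOn_spec hA cl5_2_6 c hc)).append (chkOn_spec hA cl5_2_7 c hc)).append (chkOn_spec hA cl5_2_8 c hc)).append (chkOn_spec hA cl5_2_9 c hc)).append (chkOn_spec hA cl5_2_10 c hc)).append (chkOn_spec hA cl5_2_11 c hc)).append (chkOn_spec hA cl5_2_12 c hc)).append (chkOn_spec hA cl5_2_13 c hc)).append (chkOn_spec hA cl5_2_14 c hc)).append (chkOn_spec hA cl5_2_15 c hc)).append (chkOn_spec hA cl5_2_16 c hc)).append (chkOn_spec hA cl5_2_17 c hc)).append (chkOn_spec hA cl5_2_18 c hc)))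
  (forall_take_drop 4 (fun c hc => HoldsOn.holds hA (((((((((((((((((((chkOn_spec hA cl5_3_0 c hc).append (chkOn_spec hA cl5_3_1 c hc)).append (chkOn_spec hA cl5_3_2 c hc)).append (chkOn_spec hA cl5_3_3 c hc)).append (chkOn_spec hA cl5_3_4 c hc)).append (chkOn_spec hA cl5_3_5 c hc)).append (chkOn_spec hA cl5_3_6 c hc)).append (chkOn_spec hA cl5_3_7 c hc)).append (chkOn_spec hA cl5_3_8 c hc)).append (chkOn_spec hA cl5_3_9 c hc)).append (chkOn_spec hA cl5_3_10 c hc)).append (chkOn_spec hA cl5_3_11 c hc)).append (chkOn_spec hA cl5_3_12 c hc)).append (chkOn_spec hA cl5_3_13 c hc)).append (chkOn_spec hA cl5_3_14 c hc)).append (chkOn_spec hA cl5_3_15 c hc)).append (chkOn_spec hA cl5_3_16 c hc)).append (chkOn_spec hA cl5_3_17 c hc)).append (chkOn_spec hA cl5_3_18 c hc)))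
  (fun c hc => HoldsOn.holds hA (((((((((((((((((((chkOn_spec hA cl5_4_0 c hc).append (chkOn_spec hA cl5_4_1 c hc)).append (chkOn_spec hA cl5_4_2 c hc)).append (chkOn_spec hA cl5_4_3 c hc)).append (chkOn_spec hA cl5_4_4 c hc)).append (chkOn_spec hA cl5_4_5 c hc)).append (chkOn_spec hA cl5_4_6 c hc)).append (chkOn_spec hA cl5_4_7 c hc)).append (chkOn_spec hA cl5_4_8 c hc)).append (chkOn_spec hA cl5_4_9 c hc)).append (chkOn_spec hA cl5_4_10 c hc)).append (chkOn_spec hA cl5_4_11 c hc)).append (chkOn_spec hA cl5_4_12 c hc)).append (chkOn_spec hA cl5_4_13 c hc)).append (chkOn_spec hA cl5_4_14 c hc)).append (chkOn_spec hA cl5_4_15 c hc)).append (chkOn_spec hA cl5_4_16 c hc)).append (chkOn_spec hA cl5_4_17 c hc)).append (chkOn_spec hA cl5_4_18 c hc)))))))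

theorem stab5 : StabIs A 7 9504 8 := stabIs_dc' hA stab6 ok5
  (forall_take_drop 1 (allL_spec ok5_0)
  (forall_take_drop 1 (allL_spec ok5_1)
  (forall_take_drop 1 (allL_spec ok5_2)
  (allL_spec ok5_3)))) cl5

theorem card5 : Nat.card (K A 7) = 23040 := card_K_step hA stab5 orb5 card6

theorem cl4 : ∀ c ∈ cl4_l, Holds A c :=
  (forall_take_drop 12 (fun c hc => HoldsOn.holds hA (((((((((((((((((((chkOn_spec hA cl4_0_0 c hc).append (chkOn_spec hA cl4_0_1 c hc)).append (chkOn_spec hA cl4_0_2 c hc)).append (chkOn_spec hA cl4_0_3 c hc)).append (chkOn_spec hA cl4_0_4 c hc)).append (chkOn_spec hA cl4_0_5 c hc)).append (chkOn_spec hA cl4_0_6 c hc)).append (chkOn_spec hA cl4_0_7 c hc)).append (chkOn_spec hA cl4_0_8 c hc)).append (chkOn_spec hA cl4_0_9 c hc)).append (chkOn_spec hA cl4_0_10 c hc)).append (chkOn_spec hA cl4_0_11 c hc)).append (chkOn_spec hA cl4_0_12 c hc)).append (chkOn_spec hA cl4_0_13 c hc)).append (chkOn_spec hA cl4_0_14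 c hc)).append (chkOn_spec hA cl4_0_15 c hc)).append (chkOn_spec hA cl4_0_16 c hc)).append (chkOn_spec hA cl4_0_17 c hc)).append (chkOn_spec hA cl4_0_18 c hc)))
  (forall_take_drop 5 (fun c hc => HoldsOn.holds hA (((((((((((((((((((chkOn_spec hA cl4_1_0 c hc).append (chkOn_spec hA cl4_1_1 c hc)).append (chkOn_spec hA cl4_1_2 c hc)).append (chkOn_spec hA cl4_1_3 c hc)).append (chkOn_spec hA cl4_1_4 c hc)).append (chkOn_spec hA cl4_1_5 c hc)).append (chkOn_spec hA cl4_1_6 c hc)).append (chkOn_spec hA cl4_1_7 c hc)).append (chkOn_spec hA cl4_1_8 c hc)).append (chkOn_spec hA cl4_1_9 c hc)).append (chkOn_spec hA cl4_1_10 c hc)).append (chkOn_spec hA cl4_1_11 c hc)).append (chkOn_spec hA cl4_1_12 c hc)).append (chkOn_spec hA cl4_1_13 c hc)).append (chkOn_spec hA cl4_1_14 c hc)).append (chkOn_spec hA cl4_1_15 c hc)).append (chkOn_spec hA cl4_1_16 c hc)).append (chkOn_spec hA cl4_1_17 c hc)).append (chkOn_spec hA cl4_1_18 c hc)))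
  (forall_take_drop 4 (fun c hc => HoldsOn.holds hA (((((((((((((((((((chkOn_spec hA cl4_2_0 c hc).append (chkOn_spec hA cl4_2_1 c hc)).append (chkOn_spec hA cl4_2_2 c hc)).append (chkOn_spec hA cl4_2_3 c hc)).append (chkOn_spec hA cl4_2_4 c hc)).append (chkOn_spec hA cl4_2_5 c hc)).append (chkOn_spec hA cl4_2_6 c hc)).append (chkOn_spec hA cl4_2_7 c hc)).append (chkOn_spec hA cl4_2_8 c hc)).append (chkOn_spec hA cl4_2_9 c hc)).append (chkOn_spec hA cl4_2_10 c hc)).append (chkOn_spec hA cl4_2_11 c hc)).append (chkOn_spec hA cl4_2_12 c hc)).append (chkOn_spec hA cl4_2_13 c hc)).append (chkOn_spec hA cl4_2_14 c hc)).append (chkOn_spec hA cl4_2_15 c hc)).append (chkOn_spec hA cl4_2_16 c hc)).append (chkOn_spec hA cl4_2_17 c hc)).append (chkOn_spec hA cl4_2_18 c hc)))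
  (forall_take_drop 3 (fun c hc => HoldsOn.holds hA (((((((((((((((((((chkOn_spec hA cl4_3_0 c hc).append (chkOn_spec hA cl4_3_1 c hc)).append (chkOn_spec hA cl4_3_2 c hc)).append (chkOn_spec hA cl4_3_3 c hc)).append (chkOn_spec hA cl4_3_4 c hc)).append (chkOn_spec hA cl4_3_5 c hc)).append (chkOn_spec hA cl4_3_6 c hc)).append (chkOn_spec hA cl4_3_7 c hc)).append (chkOn_spec hA cl4_3_8 c hc)).append (chkOn_spec hA cl4_3_9 c hc)).append (chkOn_spec hA cl4_3_10 c hc)).append (chkOn_spec hA cl4_3_11 c hc)).append (chkOn_spec hA cl4_3_12 c hc)).append (chkOn_spec hA cl4_3_13 c hc)).append (chkOn_spec hA cl4_3_14 c hc)).append (chkOn_spec hA cl4_3_15 c hc)).append (chkOn_spec hA cl4_3_16 c hc)).append (chkOn_spec hA cl4_3_17 c hc)).append (chkOn_spec hA cl4_3_18 c hc)))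
  (forall_take_drop 3 (fun c hc => HoldsOn.holds hA (((((((((((((((((((chkOn_spec hA cl4_4_0 c hc).append (chkOn_spec hA cl4_4_1 c hc)).append (chkOn_spec hA cl4_4_2 c hc)).append (chkOn_spec hA cl4_4_3 c hc)).append (chkOn_spec hA cl4_4_4 c hc)).append (chkOn_spec hA cl4_4_5 c hc)).append (chkOn_spec hA cl4_4_6 c hc)).append (chkOn_spec hA cl4_4_7 c hc)).append (chkOn_spec hA cl4_4_8 c hc)).append (chkOn_spec hA cl4_4_9 c hc)).append (chkOn_spec hA cl4_4_10 c hc)).append (chkOn_spec hA cl4_4_11 c hc)).append (chkOn_spec hA cl4_4_12 c hc)).append (chkOn_spec hA cl4_4_13 c hc)).append (chkOn_spec hA cl4_4_14 c hc)).append (chkOn_spec hA cl4_4_15 c hc)).append (chkOn_spec hA cl4_4_16 c hc)).append (chkOn_spec hA cl4_4_17 c hc)).append (chkOn_spec hA cl4_4_18 c hc)))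
  (forall_take_drop 3 (fun c hc => HoldsOn.holds hA (((((((((((((((((((chkOn_spec hA cl4_5_0 c hc).append (chkOn_spec hA cl4_5_1 c hc)).append (chkOn_spec hA cl4_5_2 c hc)).append (chkOn_spec hA cl4_5_3 c hc)).append (chkOn_spec hA cl4_5_4 c hc)).append (chkOn_spec hA cl4_5_5 c hc)).append (chkOn_spec hA cl4_5_6 c hc)).append (chkOn_spec hA cl4_5_7 c hc)).append (chkOn_spec hA cl4_5_8 c hc)).append (chkOn_spec hA cl4_5_9 c hc)).append (chkOn_spec hA cl4_5_10 c hc)).append (chkOn_spec hA cl4_5_11 c hc)).append (chkOn_spec hA cl4_5_12 c hc)).append (chkOn_spec hA cl4_5_13 c hc)).append (chkOn_spec hA cl4_5_14 c hc)).append (chkOn_spec hA cl4_5_15 c hc)).append (chkOn_spec hA cl4_5_16 c hc)).append (chkOn_spec hA cl4_5_17 c hc)).append (chkOn_spec hA cl4_5_18 c hc)))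
  (forall_take_drop 2 (fun c hc => HoldsOn.holds hA (((((((((((((((((((chkOn_spec hA cl4_6_0 c hc).append (chkOn_spec hA cl4_6_1 c hc)).append (chkOn_spec hA cl4_6_2 c hc)).append (chkOn_spec hA cl4_6_3 c hc)).append (chkOn_spec hA cl4_6_4 c hc)).append (chkOn_spec hA cl4_6_5 c hc)).append (chkOn_spec hA cl4_6_6 c hc)).append (chkOn_spec hA cl4_6_7 c hc)).append (chkOn_spec hA cl4_6_8 c hc)).append (chkOn_spec hA cl4_6_9 c hc)).append (chkOn_spec hA cl4_6_10 c hc)).append (chkOn_spec hA cl4_6_11 c hc)).append (chkOn_spec hA cl4_6_12 c hc)).append (chkOn_spec hA cl4_6_13 c hc)).append (chkOn_spec hA cl4_6_14 c hc)).append (chkOn_spec hA cl4_6_15 c hc)).append (chkOn_spec hA cl4_6_16 c hc)).append (chkOn_spec hA cl4_6_17 c hc)).append (chkOn_spec hA cl4_6_18 c hc)))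
  (forall_take_drop 3 (fun c hc => HoldsOn.holds hA (((((((((((((((((((chkOn_spec hA cl4_7_0 c hc).append (chkOn_spec hA cl4_7_1 c hc)).append (chkOn_spec hA cl4_7_2 c hc)).append (chkOn_spec hA cl4_7_3 c hc)).append (chkOn_spec hA cl4_7_4 c hc)).append (chkOn_spec hA cl4_7_5 c hc)).append (chkOn_spec hA cl4_7_6 c hc)).append (chkOn_spec hA cl4_7_7 c hc)).append (chkOn_spec hA cl4_7_8 c hc)).append (chkOn_spec hA cl4_7_9 c hc)).append (chkOn_spec hA cl4_7_10 c hc)).append (chkOn_spec hA cl4_7_11 c hc)).append (chkOn_spec hA cl4_7_12 c hc)).append (chkOn_spec hA cl4_7_13 c hc)).append (chkOn_spec hA cl4_7_14 c hc)).append (chkOn_spec hA cl4_7_15 c hc)).append (chkOn_spec hA cl4_7_16 c hc)).append (chkOn_spec hA cl4_7_17 c hc)).append (chkOn_spec hA cl4_7_18 c hc)))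
  (fun c hc => HoldsOn.holds hA (((((((((((((((((((chkOn_spec hA cl4_8_0 c hc).append (chkOn_spec hA cl4_8_1 c hc)).append (chkOn_spec hA cl4_8_2 c hc)).append (chkOn_spec hA cl4_8_3 c hc)).append (chkOn_spec hA cl4_8_4 c hc)).append (chkOn_spec hA cl4_8_5 c hc)).append (chkOn_spec hA cl4_8_6 c hc)).append (chkOn_spec hA cl4_8_7 c hc)).append (chkOn_spec hA cl4_8_8 c hc)).append (chkOn_spec hA cl4_8_9 c hc)).append (chkOn_spec hA cl4_8_10 c hc)).append (chkOn_spec hA cl4_8_11 c hc)).append (chkOn_spec hA cl4_8_12 c hc)).append (chkOn_spec hA cl4_8_13 c hc)).append (chkOn_spec hA cl4_8_14 c hc)).append (chkOn_spec hA cl4_8_15 c hc)).append (chkOn_spec hA cl4_8_16 c hc)).append (chkOn_spec hA cl4_8_17 c hc)).append (chkOn_spec hA cl4_8_18 c hc)))))))))))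

theorem stab4 : StabIs A 6 7709 7 := stabIs_dc' hA stab5 ok4
  (forall_take_drop 1 (allL_spec ok4_0)
  (forall_take_drop 1 (allL_spec ok4_1)
  (forall_take_drop 1 (allL_spec ok4_2)
  (forall_take_drop 1 (allL_spec ok4_3)
  (allL_spec ok4_4))))) cl4

theorem card4 : Nat.card (K A 6) = 13063680 := card_K_step hA stab4 orb4 card5

theorem cl3 : ∀ c ∈ cl3_l, Holds A c :=
  (forall_take_drop 4 (fun c hc => HoldsOn.holds hA (((((((((((((((((((chkOn_spec hA cl3_0_0 c hc).append (chkOn_spec hA cl3_0_1 c hc)).append (chkOn_spec hA cl3_0_2 c hc)).append (chkOn_spec hA cl3_0_3 c hc)).append (chkOn_spec hA cl3_0_4 c hc)).append (chkOn_spec hA cl3_0_5 c hc)).append (chkOn_spec hA cl3_0_6 c hc)).append (chkOn_spec hA cl3_0_7 c hc)).append (chkOn_spec hA cl3_0_8 c hc)).append (chkOn_spec hA cl3_0_9 c hc)).append (chkOn_spec hA cl3_0_10 c hc)).append (chkOn_spec hA cl3_0_11 c hc)).append (chkOn_spec hA cl3_0_12 c hc)).append (chkOn_spec hA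 cl3_0_13 c hc)).append (chkOn_spec hA cl3_0_14 c hc)).append (chkOn_spec hA cl3_0_15 c hc)).append (chkOn_spec hA cl3_0_16 c hc)).append (chkOn_spec hA cl3_0_17 c hc)).append (chkOn_spec hA cl3_0_18 c hc)))
  (forall_take_drop 11 (fun c hc => HoldsOn.holds hA (((((((((((((((((((chkOn_spec hA cl3_1_0 c hc).append (chkOn_spec hA cl3_1_1 c hc)).append (chkOn_spec hA cl3_1_2 c hc)).append (chkOn_spec hA cl3_1_3 c hc)).append (chkOn_spec hA cl3_1_4 c hc)).append (chkOn_spec hA cl3_1_5 c hc)).append (chkOn_spec hA cl3_1_6 c hc)).append (chkOn_spec hA cl3_1_7 c hc)).append (chkOn_spec hA cl3_1_8 c hc)).append (chkOn_spec hA cl3_1_9 c hc)).append (chkOn_spec hA cl3_1_10 c hc)).append (chkOn_spec hA cl3_1_11 c hc)).append (chkOn_spec hA cl3_1_12 c hc)).append (chkOn_spec hA cl3_1_13 c hc)).append (chkOn_spec hA cl3_1_14 c hc)).append (chkOn_spec hA cl3_1_15 c hc)).append (chkOn_spec hA cl3_1_16 c hc)).append (chkOn_spec hA cl3_1_17 c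 hc)).append (chkOn_spec hA cl3_1_18 c hc)))
  (forall_take_drop 3 (fun c hc => HoldsOn.holds hA (((((((((((((((((((chkOn_spec hA cl3_2_0 c hc).append (chkOn_spec hA cl3_2_1 c hc)).append (chkOn_spec hA cl3_2_2 c hc)).append (chkOn_spec hA cl3_2_3 c hc)).append (chkOn_spec hA cl3_2_4 c hc)).append (chkOn_spec hA cl3_2_5 c hc)).append (chkOn_spec hA cl3_2_6 c hc)).append (chkOn_spec hA cl3_2_7 c hc)).append (chkOn_spec hA cl3_2_8 c hc)).append (chkOn_spec hA cl3_2_9 c hc)).append (chkOn_spec hA cl3_2_10 c hc)).append (chkOn_spec hA cl3_2_11 c hc)).append (chkOn_spec hA cl3_2_12 c hc)).append (chkOn_spec hA cl3_2_13 c hc)).append (chkOn_spec hA cl3_2_14 c hc)).append (chkOn_spec hA cl3_2_15 c hc)).append (chkOn_spec hA cl3_2_16 c hc)).append (chkOn_spec hA cl3_2_17 c hc)).append (chkOn_spec hA cl3_2_18 c hc)))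
  (forall_take_drop 2 (fun c hc => HoldsOn.holds hA (((((((((((((((((((chkOn_spec hA cl3_3_0 c hc).append (chkOn_spec hA cl3_3_1 c hc)).append (chkOn_spec hA cl3_3_2 c hc)).append (chkOn_spec hA cl3_3_3 c hc)).append (chkOn_spec hA cl3_3_4 c hc)).append (chkOn_spec hA cl3_3_5 c hc)).append (chkOn_spec hA cl3_3_6 c hc)).append (chkOn_spec hA cl3_3_7 c hc)).append (chkOn_spec hA cl3_3_8 c hc)).append (chkOn_spec hA cl3_3_9 c hc)).append (chkOn_spec hA cl3_3_10 c hc)).append (chkOn_spec hA cl3_3_11 c hc)).append (chkOn_spec hA cl3_3_12 c hc)).append (chkOn_spec hA cl3_3_13 c hc)).append (chkOn_spec hA cl3_3_14 c hc)).append (chkOn_spec hA cl3_3_15 c hc)).append (chkOn_spec hA cl3_3_16 c hc)).append (chkOn_spec hA cl3_3_17 c hc)).append (chkOn_spec hA cl3_3_18 c hc)))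
  (forall_take_drop 2 (fun c hc => HoldsOn.holds hA (((((((((((((((((((chkOn_spec hA cl3_4_0 c hc).append (chkOn_spec hA cl3_4_1 c hc)).append (chkOn_spec hA cl3_4_2 c hc)).append (chkOn_spec hA cl3_4_3 c hc)).append (chkOn_spec hA cl3_4_4 c hc)).append (chkOn_spec hA cl3_4_5 c hc)).append (chkOn_spec hA cl3_4_6 c hc)).append (chkOn_spec hA cl3_4_7 c hc)).append (chkOn_spec hA cl3_4_8 c hc)).append (chkOn_spec hA cl3_4_9 c hc)).append (chkOn_spec hA cl3_4_10 c hc)).append (chkOn_spec hA cl3_4_11 c hc)).append (chkOn_spec hA cl3_4_12 c hc)).append (chkOn_spec hA cl3_4_13 c hc)).append (chkOn_spec hA cl3_4_14 c hc)).append (chkOn_spec hA cl3_4_15 c hc)).append (chkOn_spec hA cl3_4_16 c hc)).append (chkOn_spec hA cl3_4_17 c hc)).append (chkOn_spec hA cl3_4_18 c hc)))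
  (forall_take_drop 2 (fun c hc => HoldsOn.holds hA (((((((((((((((((((chkOn_spec hA cl3_5_0 c hc).append (chkOn_spec hA cl3_5_1 c hc)).append (chkOn_spec hA cl3_5_2 c hc)).append (chkOn_spec hA cl3_5_3 c hc)).append (chkOn_spec hA cl3_5_4 c hc)).append (chkOn_spec hA cl3_5_5 c hc)).append (chkOn_spec hA cl3_5_6 c hc)).append (chkOn_spec hA cl3_5_7 c hc)).append (chkOn_spec hA cl3_5_8 c hc)).append (chkOn_spec hA cl3_5_9 c hc)).append (chkOn_spec hA cl3_5_10 c hc)).append (chkOn_spec hA cl3_5_11 c hc)).append (chkOn_spec hA cl3_5_12 c hc)).append (chkOn_spec hA cl3_5_13 c hc)).append (chkOn_spec hA cl3_5_14 c hc)).append (chkOn_spec hA cl3_5_15 c hc)).append (chkOn_spec hA cl3_5_16 c hc)).append (chkOn_spec hA cl3_5_17 c hc)).append (chkOn_spec hA cl3_5_18 c hc)))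
  (forall_take_drop 2 (fun c hc => HoldsOn.holds hA (((((((((((((((((((chkOn_spec hA cl3_6_0 c hc).append (chkOn_spec hA cl3_6_1 c hc)).append (chkOn_spec hA cl3_6_2 c hc)).append (chkOn_spec hA cl3_6_3 c hc)).append (chkOn_spec hA cl3_6_4 c hc)).append (chkOn_spec hA cl3_6_5 c hc)).append (chkOn_spec hA cl3_6_6 c hc)).append (chkOn_spec hA cl3_6_7 c hc)).append (chkOn_spec hA cl3_6_8 c hc)).append (chkOn_spec hA cl3_6_9 c hc)).append (chkOn_spec hA cl3_6_10 c hc)).append (chkOn_spec hA cl3_6_11 c hc)).append (chkOn_spec hA cl3_6_12 c hc)).append (chkOn_spec hA cl3_6_13 c hc)).append (chkOn_spec hA cl3_6_14 c hc)).append (chkOn_spec hA cl3_6_15 c hc)).append (chkOn_spec hA cl3_6_16 c hc)).append (chkOn_spec hA cl3_6_17 c hc)).append (chkOn_spec hA cl3_6_18 c hc)))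
  (forall_take_drop 2 (fun c hc => HoldsOn.holds hA (((((((((((((((((((chkOn_spec hA cl3_7_0 c hc).append (chkOn_spec hA cl3_7_1 c hc)).append (chkOn_spec hA cl3_7_2 c hc)).append (chkOn_spec hA cl3_7_3 c hc)).append (chkOn_spec hA cl3_7_4 c hc)).append (chkOn_spec hA cl3_7_5 c hc)).append (chkOn_spec hA cl3_7_6 c hc)).append (chkOn_spec hA cl3_7_7 c hc)).append (chkOn_spec hA cl3_7_8 c hc)).append (chkOn_spec hA cl3_7_9 c hc)).append (chkOn_spec hA cl3_7_10 c hc)).append (chkOn_spec hA cl3_7_11 c hc)).append (chkOn_spec hA cl3_7_12 c hc)).append (chkOn_spec hA cl3_7_13 c hc)).append (chkOn_spec hA cl3_7_14 c hc)).append (chkOn_spec hA cl3_7_15 c hc)).append (chkOn_spec hA cl3_7_16 c hc)).append (chkOn_spec hA cl3_7_17 c hc)).append (chkOn_spec hA cl3_7_18 c hc)))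
  (forall_take_drop 2 (fun c hc => HoldsOn.holds hA (((((((((((((((((((chkOn_spec hA cl3_8_0 c hc).append (chkOn_spec hA cl3_8_1 c hc)).append (chkOn_spec hA cl3_8_2 c hc)).append (chkOn_spec hA cl3_8_3 c hc)).append (chkOn_spec hA cl3_8_4 c hc)).append (chkOn_spec hA cl3_8_5 c hc)).append (chkOn_spec hA cl3_8_6 c hc)).append (chkOn_spec hA cl3_8_7 c hc)).append (chkOn_spec hA cl3_8_8 c hc)).append (chkOn_spec hA cl3_8_9 c hc)).append (chkOn_spec hA cl3_8_10 c hc)).append (chkOn_spec hA cl3_8_11 c hc)).append (chkOn_spec hA cl3_8_12 c hc)).append (chkOn_spec hA cl3_8_13 c hc)).append (chkOn_spec hA cl3_8_14 c hc)).append (chkOn_spec hA cl3_8_15 c hc)).append (chkOn_spec hA cl3_8_16 c hc)).append (chkOn_spec hA cl3_8_17 c hc)).append (chkOn_spec hA cl3_8_18 c hc)))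
  (forall_take_drop 2 (fun c hc => HoldsOn.holds hA (((((((((((((((((((chkOn_spec hA cl3_9_0 c hc).append (chkOn_spec hA cl3_9_1 c hc)).append (chkOn_spec hA cl3_9_2 c hc)).append (chkOn_spec hA cl3_9_3 c hc)).append (chkOn_spec hA cl3_9_4 c hc)).append (chkOn_spec hA cl3_9_5 c hc)).append (chkOn_spec hA cl3_9_6 c hc)).append (chkOn_spec hA cl3_9_7 c hc)).append (chkOn_spec hA cl3_9_8 c hc)).append (chkOn_spec hA cl3_9_9 c hc)).append (chkOn_spec hA cl3_9_10 c hc)).append (chkOn_spec hA cl3_9_11 c hc)).append (chkOn_spec hA cl3_9_12 c hc)).append (chkOn_spec hA cl3_9_13 c hc)).append (chkOn_spec hA cl3_9_14 c hc)).append (chkOn_spec hA cl3_9_15 c hc)).append (chkOn_spec hA cl3_9_16 c hc)).append (chkOn_spec hA cl3_9_17 c hc)).append (chkOn_spec hA cl3_9_18 c hc)))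
  (forall_take_drop 2 (fun c hc => HoldsOn.holds hA (((((((((((((((((((chkOn_spec hA cl3_10_0 c hc).append (chkOn_spec hA cl3_10_1 c hc)).append (chkOn_spec hA cl3_10_2 c hc)).append (chkOn_spec hA cl3_10_3 c hc)).append (chkOn_spec hA cl3_10_4 c hc)).append (chkOn_spec hA cl3_10_5 c hc)).append (chkOn_spec hA cl3_10_6 c hc)).append (chkOn_spec hA cl3_10_7 c hc)).append (chkOn_spec hA cl3_10_8 c hc)).append (chkOn_spec hA cl3_10_9 c hc)).append (chkOn_spec hA cl3_10_10 c hc)).append (chkOn_spec hA cl3_10_11 c hc)).append (chkOn_spec hA cl3_10_12 c hc)).append (chkOn_spec hA cl3_10_13 c hc)).append (chkOn_spec hA cl3_10_14 c hc)).append (chkOn_spec hA cl3_10_15 c hc)).append (chkOn_spec hA cl3_10_16 c hc)).append (chkOn_spec hA cl3_10_17 c hc)).append (chkOn_spec hA cl3_10_18 c hc)))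
  (forall_take_drop 2 (fun c hc => HoldsOn.holds hA (((((((((((((((((((chkOn_spec hA cl3_11_0 c hc).append (chkOn_spec hA cl3_11_1 c hc)).append (chkOn_spec hA cl3_11_2 c hc)).append (chkOn_spec hA cl3_11_3 c hc)).append (chkOn_spec hA cl3_11_4 c hc)).append (chkOn_spec hA cl3_11_5 c hc)).append (chkOn_spec hA cl3_11_6 c hc)).append (chkOn_spec hA cl3_11_7 c hc)).append (chkOn_spec hA cl3_11_8 c hc)).append (chkOn_spec hA cl3_11_9 c hc)).append (chkOn_spec hA cl3_11_10 c hc)).append (chkOn_spec hA cl3_11_11 c hc)).append (chkOn_spec hA cl3_11_12 c hc)).append (chkOn_spec hA cl3_11_13 c hc)).append (chkOn_spec hA cl3_11_14 c hc)).append (chkOn_spec hA cl3_11_15 c hc)).append (chkOn_spec hA cl3_11_16 c hc)).append (chkOn_spec hA cl3_11_17 c hc)).append (chkOn_spec hA cl3_11_18 c hc)))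
  (fun c hc => HoldsOn.holds hA (((((((((((((((((((chkOn_spec hA cl3_12_0 c hc).append (chkOn_spec hA cl3_12_1 c hc)).append (chkOn_spec hA cl3_12_2 c hc)).append (chkOn_spec hA cl3_12_3 c hc)).append (chkOn_spec hA cl3_12_4 c hc)).append (chkOn_spec hA cl3_12_5 c hc)).append (chkOn_spec hA cl3_12_6 c hc)).append (chkOn_spec hA cl3_12_7 c hc)).append (chkOn_spec hA cl3_12_8 c hc)).append (chkOn_spec hA cl3_12_9 c hc)).append (chkOn_spec hA cl3_12_10 c hc)).append (chkOn_spec hA cl3_12_11 c hc)).append (chkOn_spec hA cl3_12_12 c hc)).append (chkOn_spec hA cl3_12_13 c hc)).append (chkOn_spec hA cl3_12_14 c hc)).append (chkOn_spec hA cl3_12_15 c hc)).append (chkOn_spec hA cl3_12_16 c hc)).append (chkOn_spec hA cl3_12_17 c hc)).append (chkOn_spec hA cl3_12_18 c hc)))))))))))))))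

theorem stab3 : StabIs A 5 2853 6 := stabIs_dc' hA stab4 ok3
  (forall_take_drop 1 (allL_spec ok3_0)
  (forall_take_drop 1 (allL_spec ok3_1)
  (forall_take_drop 1 (allL_spec ok3_2)
  (forall_take_drop 1 (allL_spec ok3_3)
  (allL_spec ok3_4))))) cl3

theorem card3 : Nat.card (K A 5) = 36787322880 := card_K_step hA stab3 orb3 card4

theorem cl2 : ∀ c ∈ cl2_l, Holds A c :=
  (forall_take_drop 2 (fun c hc => HoldsOn.holds hA (((((((((((((((((((chkOn_spec hA cl2_0_0 c hc).append (chkOn_spec hA cl2_0_1 c hc)).append (chkOn_spec hA cl2_0_2 c hc)).append (chkOn_spec hA cl2_0_3 c hc)).append (chkOn_spec hA cl2_0_4 c hc)).append (chkOn_spec hA cl2_0_5 c hc)).append (chkOn_spec hA cl2_0_6 c hc)).append (chkOn_spec hA cl2_0_7 c hc)).append (chkOn_spec hA cl2_0_8 c hc)).append (chkOn_spec hA cl2_0_9 c hc)).append (chkOn_spec hA cl2_0_10 c hc)).append (chkOn_spec hA cl2_0_11 c hc)).append (chkOn_spec hA cl2_0_12 c hc)).append (chkOn_spec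 hA cl2_0_13 c hc)).append (chkOn_spec hA cl2_0_14 c hc)).append (chkOn_spec hA cl2_0_15 c hc)).append (chkOn_spec hA cl2_0_16 c hc)).append (chkOn_spec hA cl2_0_17 c hc)).append (chkOn_spec hA cl2_0_18 c hc)))
  (forall_take_drop 3 (fun c hc => HoldsOn.holds hA (((((((((((((((((((chkOn_spec hA cl2_1_0 c hc).append (chkOn_spec hA cl2_1_1 c hc)).append (chkOn_spec hA cl2_1_2 c hc)).append (chkOn_spec hA cl2_1_3 c hc)).append (chkOn_spec hA cl2_1_4 c hc)).append (chkOn_spec hA cl2_1_5 c hc)).append (chkOn_spec hA cl2_1_6 c hc)).append (chkOn_spec hA cl2_1_7 c hc)).append (chkOn_spec hA cl2_1_8 c hc)).append (chkOn_spec hA cl2_1_9 c hc)).append (chkOn_spec hA cl2_1_10 c hc)).append (chkOn_spec hA cl2_1_11 c hc)).append (chkOn_spec hA cl2_1_12 c hc)).append (chkOn_spec hA cl2_1_13 c hc)).append (chkOn_spec hA cl2_1_14 c hc)).append (chkOn_spec hA cl2_1_15 c hc)).append (chkOn_spec hA cl2_1_16 c hc)).append (chkOn_spec hA cl2_1_17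 c hc)).append (chkOn_spec hA cl2_1_18 c hc)))
  (forall_take_drop 11 (fun c hc => HoldsOn.holds hA (((((((((((((((((((chkOn_spec hA cl2_2_0 c hc).append (chkOn_spec hA cl2_2_1 c hc)).append (chkOn_spec hA cl2_2_2 c hc)).append (chkOn_spec hA cl2_2_3 c hc)).append (chkOn_spec hA cl2_2_4 c hc)).append (chkOn_spec hA cl2_2_5 c hc)).append (chkOn_spec hA cl2_2_6 c hc)).append (chkOn_spec hA cl2_2_7 c hc)).append (chkOn_spec hA cl2_2_8 c hc)).append (chkOn_spec hA cl2_2_9 c hc)).append (chkOn_spec hA cl2_2_10 c hc)).append (chkOn_spec hA cl2_2_11 c hc)).append (chkOn_spec hA cl2_2_12 c hc)).append (chkOn_spec hA cl2_2_13 c hc)).append (chkOn_spec hA cl2_2_14 c hc)).append (chkOn_spec hA cl2_2_15 c hc)).append (chkOn_spec hA cl2_2_16 c hc)).append (chkOn_spec hA cl2_2_17 c hc)).append (chkOn_spec hA cl2_2_18 c hc)))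
  (forall_take_drop 2 (fun c hc => HoldsOn.holds hA (((((((((((((((((((chkOn_spec hA cl2_3_0 c hc).append (chkOn_spec hA cl2_3_1 c hc)).append (chkOn_spec hA cl2_3_2 c hc)).append (chkOn_spec hA cl2_3_3 c hc)).append (chkOn_spec hA cl2_3_4 c hc)).append (chkOn_spec hA cl2_3_5 c hc)).append (chkOn_spec hA cl2_3_6 c hc)).append (chkOn_spec hA cl2_3_7 c hc)).append (chkOn_spec hA cl2_3_8 c hc)).append (chkOn_spec hA cl2_3_9 c hc)).append (chkOn_spec hA cl2_3_10 c hc)).append (chkOn_spec hA cl2_3_11 c hc)).append (chkOn_spec hA cl2_3_12 c hc)).append (chkOn_spec hA cl2_3_13 c hc)).append (chkOn_spec hA cl2_3_14 c hc)).append (chkOn_spec hA cl2_3_15 c hc)).append (chkOn_spec hA cl2_3_16 c hc)).append (chkOn_spec hA cl2_3_17 c hc)).append (chkOn_spec hA cl2_3_18 c hc)))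
  (forall_take_drop 2 (fun c hc => HoldsOn.holds hA (((((((((((((((((((chkOn_spec hA cl2_4_0 c hc).append (chkOn_spec hA cl2_4_1 c hc)).append (chkOn_spec hA cl2_4_2 c hc)).append (chkOn_spec hA cl2_4_3 c hc)).append (chkOn_spec hA cl2_4_4 c hc)).append (chkOn_spec hA cl2_4_5 c hc)).append (chkOn_spec hA cl2_4_6 c hc)).append (chkOn_spec hA cl2_4_7 c hc)).append (chkOn_spec hA cl2_4_8 c hc)).append (chkOn_spec hA cl2_4_9 c hc)).append (chkOn_spec hA cl2_4_10 c hc)).append (chkOn_spec hA cl2_4_11 c hc)).append (chkOn_spec hA cl2_4_12 c hc)).append (chkOn_spec hA cl2_4_13 c hc)).append (chkOn_spec hA cl2_4_14 c hc)).append (chkOn_spec hA cl2_4_15 c hc)).append (chkOn_spec hA cl2_4_16 c hc)).append (chkOn_spec hA cl2_4_17 c hc)).append (chkOn_spec hA cl2_4_18 c hc)))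
  (forall_take_drop 2 (fun c hc => HoldsOn.holds hA (((((((((((((((((((chkOn_spec hA cl2_5_0 c hc).append (chkOn_spec hA cl2_5_1 c hc)).append (chkOn_spec hA cl2_5_2 c hc)).append (chkOn_spec hA cl2_5_3 c hc)).append (chkOn_spec hA cl2_5_4 c hc)).append (chkOn_spec hA cl2_5_5 c hc)).append (chkOn_spec hA cl2_5_6 c hc)).append (chkOn_spec hA cl2_5_7 c hc)).append (chkOn_spec hA cl2_5_8 c hc)).append (chkOn_spec hA cl2_5_9 c hc)).append (chkOn_spec hA cl2_5_10 c hc)).append (chkOn_spec hA cl2_5_11 c hc)).append (chkOn_spec hA cl2_5_12 c hc)).append (chkOn_spec hA cl2_5_13 c hc)).append (chkOn_spec hA cl2_5_14 c hc)).append (chkOn_spec hA cl2_5_15 c hc)).append (chkOn_spec hA cl2_5_16 c hc)).append (chkOn_spec hA cl2_5_17 c hc)).append (chkOn_spec hA cl2_5_18 c hc)))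
  (forall_take_drop 1 (fun c hc => HoldsOn.holds hA (((((((((((((((((((chkOn_spec hA cl2_6_0 c hc).append (chkOn_spec hA cl2_6_1 c hc)).append (chkOn_spec hA cl2_6_2 c hc)).append (chkOn_spec hA cl2_6_3 c hc)).append (chkOn_spec hA cl2_6_4 c hc)).append (chkOn_spec hA cl2_6_5 c hc)).append (chkOn_spec hA cl2_6_6 c hc)).append (chkOn_spec hA cl2_6_7 c hc)).append (chkOn_spec hA cl2_6_8 c hc)).append (chkOn_spec hA cl2_6_9 c hc)).append (chkOn_spec hA cl2_6_10 c hc)).append (chkOn_spec hA cl2_6_11 c hc)).append (chkOn_spec hA cl2_6_12 c hc)).append (chkOn_spec hA cl2_6_13 c hc)).append (chkOn_spec hA cl2_6_14 c hc)).append (chkOn_spec hA cl2_6_15 c hc)).append (chkOn_spec hA cl2_6_16 c hc)).append (chkOn_spec hA cl2_6_17 c hc)).append (chkOn_spec hA cl2_6_18 c hc)))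
  (forall_take_drop 1 (fun c hc => HoldsOn.holds hA (((((((((((((((((((chkOn_spec hA cl2_7_0 c hc).append (chkOn_spec hA cl2_7_1 c hc)).append (chkOn_spec hA cl2_7_2 c hc)).append (chkOn_spec hA cl2_7_3 c hc)).append (chkOn_spec hA cl2_7_4 c hc)).append (chkOn_spec hA cl2_7_5 c hc)).append (chkOn_spec hA cl2_7_6 c hc)).append (chkOn_spec hA cl2_7_7 c hc)).append (chkOn_spec hA cl2_7_8 c hc)).append (chkOn_spec hA cl2_7_9 c hc)).append (chkOn_spec hA cl2_7_10 c hc)).append (chkOn_spec hA cl2_7_11 c hc)).append (chkOn_spec hA cl2_7_12 c hc)).append (chkOn_spec hA cl2_7_13 c hc)).append (chkOn_spec hA cl2_7_14 c hc)).append (chkOn_spec hA cl2_7_15 c hc)).append (chkOn_spec hA cl2_7_16 c hc)).append (chkOn_spec hA cl2_7_17 c hc)).append (chkOn_spec hA cl2_7_18 c hc)))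
  (forall_take_drop 2 (fun c hc => HoldsOn.holds hA (((((((((((((((((((chkOn_spec hA cl2_8_0 c hc).append (chkOn_spec hA cl2_8_1 c hc)).append (chkOn_spec hA cl2_8_2 c hc)).append (chkOn_spec hA cl2_8_3 c hc)).append (chkOn_spec hA cl2_8_4 c hc)).append (chkOn_spec hA cl2_8_5 c hc)).append (chkOn_spec hA cl2_8_6 c hc)).append (chkOn_spec hA cl2_8_7 c hc)).append (chkOn_spec hA cl2_8_8 c hc)).append (chkOn_spec hA cl2_8_9 c hc)).append (chkOn_spec hA cl2_8_10 c hc)).append (chkOn_spec hA cl2_8_11 c hc)).append (chkOn_spec hA cl2_8_12 c hc)).append (chkOn_spec hA cl2_8_13 c hc)).append (chkOn_spec hA cl2_8_14 c hc)).append (chkOn_spec hA cl2_8_15 c hc)).append (chkOn_spec hA cl2_8_16 c hc)).append (chkOn_spec hA cl2_8_17 c hc)).append (chkOn_spec hA cl2_8_18 c hc)))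
  (fun c hc => HoldsOn.holds hA (((((((((((((((((((chkOn_spec hA cl2_9_0 c hc).append (chkOn_spec hA cl2_9_1 c hc)).append (chkOn_spec hA cl2_9_2 c hc)).append (chkOn_spec hA cl2_9_3 c hc)).append (chkOn_spec hA cl2_9_4 c hc)).append (chkOn_spec hA cl2_9_5 c hc)).append (chkOn_spec hA cl2_9_6 c hc)).append (chkOn_spec hA cl2_9_7 c hc)).append (chkOn_spec hA cl2_9_8 c hc)).append (chkOn_spec hA cl2_9_9 c hc)).append (chkOn_spec hA cl2_9_10 c hc)).append (chkOn_spec hA cl2_9_11 c hc)).append (chkOn_spec hA cl2_9_12 c hc)).append (chkOn_spec hA cl2_9_13 c hc)).append (chkOn_spec hA cl2_9_14 c hc)).append (chkOn_spec hA cl2_9_15 c hc)).append (chkOn_spec hA cl2_9_16 c hc)).append (chkOn_spec hA cl2_9_17 c hc)).append (chkOn_spec hA cl2_9_18 c hc))))))))))))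

theorem stab2 : StabIs A 4 584 5 := stabIs_dc' hA stab3 ok2
  (forall_take_drop 1 (allL_spec ok2_0)
  (forall_take_drop 1 (allL_spec ok2_1)
  (allL_spec ok2_2))) cl2

theorem card2 : Nat.card (K A 4) = 129123503308800 := card_K_step hA stab2 orb2 card3

theorem cl1 : ∀ c ∈ cl1_l, Holds A c :=
  (forall_take_drop 2 (fun c hc => HoldsOn.holds hA (((((((((((((((((((chkOn_spec hA cl1_0_0 c hc).append (chkOn_spec hA cl1_0_1 c hc)).append (chkOn_spec hA cl1_0_2 c hc)).append (chkOn_spec hA cl1_0_3 c hc)).append (chkOn_spec hA cl1_0_4 c hc)).append (chkOn_spec hA cl1_0_5 c hc)).append (chkOn_spec hA cl1_0_6 c hc)).append (chkOn_spec hA cl1_0_7 c hc)).append (chkOn_spec hA cl1_0_8 c hc)).append (chkOn_spec hA cl1_0_9 c hc)).append (chkOn_spec hA cl1_0_10 c hc)).append (chkOn_spec hA cl1_0_11 c hc)).append (chkOn_spec hA cl1_0_12 c hc)).append (chkOn_spec hA cl1_0_13 c hc)).append (chkOn_spec hA cl1_0_14 c hc)).append (chkOn_spec hA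 cl1_0_15 c hc)).append (chkOn_spec hA cl1_0_16 c hc)).append (chkOn_spec hA cl1_0_17 c hc)).append (chkOn_spec hA cl1_0_18 c hc)))
  (forall_take_drop 2 (fun c hc => HoldsOn.holds hA (((((((((((((((((((chkOn_spec hA cl1_1_0 c hc).append (chkOn_spec hA cl1_1_1 c hc)).append (chkOn_spec hA cl1_1_2 c hc)).append (chkOn_spec hA cl1_1_3 c hc)).append (chkOn_spec hA cl1_1_4 c hc)).append (chkOn_spec hA cl1_1_5 c hc)).append (chkOn_spec hA cl1_1_6 c hc)).append (chkOn_spec hA cl1_1_7 c hc)).append (chkOn_spec hA cl1_1_8 c hc)).append (chkOn_spec hA cl1_1_9 c hc)).append (chkOn_spec hA cl1_1_10 c hc)).append (chkOn_spec hA cl1_1_11 c hc)).append (chkOn_spec hA cl1_1_12 c hc)).append (chkOn_spec hA cl1_1_13 c hc)).append (chkOn_spec hA cl1_1_14 c hc)).append (chkOn_spec hA cl1_1_15 c hc)).append (chkOn_spec hA cl1_1_16 c hc)).append (chkOn_spec hA cl1_1_17 c hc)).append (chkOn_spec hA cl1_1_18 c hc)))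
  (forall_take_drop 2 (fun c hc => HoldsOn.holds hA (((((((((((((((((((chkOn_spec hA cl1_2_0 c hc).append (chkOn_spec hA cl1_2_1 c hc)).append (chkOn_spec hA cl1_2_2 c hc)).append (chkOn_spec hA cl1_2_3 c hc)).append (chkOn_spec hA cl1_2_4 c hc)).append (chkOn_spec hA cl1_2_5 c hc)).append (chkOn_spec hA cl1_2_6 c hc)).append (chkOn_spec hA cl1_2_7 c hc)).append (chkOn_spec hA cl1_2_8 c hc)).append (chkOn_spec hA cl1_2_9 c hc)).append (chkOn_spec hA cl1_2_10 c hc)).append (chkOn_spec hA cl1_2_11 c hc)).append (chkOn_spec hA cl1_2_12 c hc)).append (chkOn_spec hA cl1_2_13 c hc)).append (chkOn_spec hA cl1_2_14 c hc)).append (chkOn_spec hA cl1_2_15 c hc)).append (chkOn_spec hA cl1_2_16 c hc)).append (chkOn_spec hA cl1_2_17 c hc)).append (chkOn_spec hA cl1_2_18 c hc)))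
  (forall_take_drop 8 (fun c hc => HoldsOn.holds hA (((((((((((((((((((chkOn_spec hA cl1_3_0 c hc).append (chkOn_spec hA cl1_3_1 c hc)).append (chkOn_spec hA cl1_3_2 c hc)).append (chkOn_spec hA cl1_3_3 c hc)).append (chkOn_spec hA cl1_3_4 c hc)).append (chkOn_spec hA cl1_3_5 c hc)).append (chkOn_spec hA cl1_3_6 c hc)).append (chkOn_spec hA cl1_3_7 c hc)).append (chkOn_spec hA cl1_3_8 c hc)).append (chkOn_spec hA cl1_3_9 c hc)).append (chkOn_spec hA cl1_3_10 c hc)).append (chkOn_spec hA cl1_3_11 c hc)).append (chkOn_spec hA cl1_3_12 c hc)).append (chkOn_spec hA cl1_3_13 c hc)).append (chkOn_spec hA cl1_3_14 c hc)).append (chkOn_spec hA cl1_3_15 c hc)).append (chkOn_spec hA cl1_3_16 c hc)).append (chkOn_spec hA cl1_3_17 c hc)).append (chkOn_spec hA cl1_3_18 c hc)))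
  (forall_take_drop 6 (fun c hc => HoldsOn.holds hA (((((((((((((((((((chkOn_spec hA cl1_4_0 c hc).append (chkOn_spec hA cl1_4_1 c hc)).append (chkOn_spec hA cl1_4_2 c hc)).append (chkOn_spec hA cl1_4_3 c hc)).append (chkOn_spec hA cl1_4_4 c hc)).append (chkOn_spec hA cl1_4_5 c hc)).append (chkOn_spec hA cl1_4_6 c hc)).append (chkOn_spec hA cl1_4_7 c hc)).append (chkOn_spec hA cl1_4_8 c hc)).append (chkOn_spec hA cl1_4_9 c hc)).append (chkOn_spec hA cl1_4_10 c hc)).append (chkOn_spec hA cl1_4_11 c hc)).append (chkOn_spec hA cl1_4_12 c hc)).append (chkOn_spec hA cl1_4_13 c hc)).append (chkOn_spec hA cl1_4_14 c hc)).append (chkOn_spec hA cl1_4_15 c hc)).append (chkOn_spec hA cl1_4_16 c hc)).append (chkOn_spec hA cl1_4_17 c hc)).append (chkOn_spec hA cl1_4_18 c hc)))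
  (forall_take_drop 2 (fun c hc => HoldsOn.holds hA (((((((((((((((((((chkOn_spec hA cl1_5_0 c hc).append (chkOn_spec hA cl1_5_1 c hc)).append (chkOn_spec hA cl1_5_2 c hc)).append (chkOn_spec hA cl1_5_3 c hc)).append (chkOn_spec hA cl1_5_4 c hc)).append (chkOn_spec hA cl1_5_5 c hc)).append (chkOn_spec hA cl1_5_6 c hc)).append (chkOn_spec hA cl1_5_7 c hc)).append (chkOn_spec hA cl1_5_8 c hc)).append (chkOn_spec hA cl1_5_9 c hc)).append (chkOn_spec hA cl1_5_10 c hc)).append (chkOn_spec hA cl1_5_11 c hc)).append (chkOn_spec hA cl1_5_12 c hc)).append (chkOn_spec hA cl1_5_13 c hc)).append (chkOn_spec hA cl1_5_14 c hc)).append (chkOn_spec hA cl1_5_15 c hc)).append (chkOn_spec hA cl1_5_16 c hc)).append (chkOn_spec hA cl1_5_17 c hc)).append (chkOn_spec hA cl1_5_18 c hc)))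
  (forall_take_drop 1 (fun c hc => HoldsOn.holds hA (((((((((((((((((((chkOn_spec hA cl1_6_0 c hc).append (chkOn_spec hA cl1_6_1 c hc)).append (chkOn_spec hA cl1_6_2 c hc)).append (chkOn_spec hA cl1_6_3 c hc)).append (chkOn_spec hA cl1_6_4 c hc)).append (chkOn_spec hA cl1_6_5 c hc)).append (chkOn_spec hA cl1_6_6 c hc)).append (chkOn_spec hA cl1_6_7 c hc)).append (chkOn_spec hA cl1_6_8 c hc)).append (chkOn_spec hA cl1_6_9 c hc)).append (chkOn_spec hA cl1_6_10 c hc)).append (chkOn_spec hA cl1_6_11 c hc)).append (chkOn_spec hA cl1_6_12 c hc)).append (chkOn_spec hA cl1_6_13 c hc)).append (chkOn_spec hA cl1_6_14 c hc)).append (chkOn_spec hA cl1_6_15 c hc)).append (chkOn_spec hA cl1_6_16 c hc)).append (chkOn_spec hA cl1_6_17 c hc)).append (chkOn_spec hA cl1_6_18 c hc)))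
  (forall_take_drop 1 (fun c hc => HoldsOn.holds hA (((((((((((((((((((chkOn_spec hA cl1_7_0 c hc).append (chkOn_spec hA cl1_7_1 c hc)).append (chkOn_spec hA cl1_7_2 c hc)).append (chkOn_spec hA cl1_7_3 c hc)).append (chkOn_spec hA cl1_7_4 c hc)).append (chkOn_spec hA cl1_7_5 c hc)).append (chkOn_spec hA cl1_7_6 c hc)).append (chkOn_spec hA cl1_7_7 c hc)).append (chkOn_spec hA cl1_7_8 c hc)).append (chkOn_spec hA cl1_7_9 c hc)).append (chkOn_spec hA cl1_7_10 c hc)).append (chkOn_spec hA cl1_7_11 c hc)).append (chkOn_spec hA cl1_7_12 c hc)).append (chkOn_spec hA cl1_7_13 c hc)).append (chkOn_spec hA cl1_7_14 c hc)).append (chkOn_spec hA cl1_7_15 c hc)).append (chkOn_spec hA cl1_7_16 c hc)).append (chkOn_spec hA cl1_7_17 c hc)).append (chkOn_spec hA cl1_7_18 c hc)))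
  (forall_take_drop 2 (fun c hc => HoldsOn.holds hA (((((((((((((((((((chkOn_spec hA cl1_8_0 c hc).append (chkOn_spec hA cl1_8_1 c hc)).append (chkOn_spec hA cl1_8_2 c hc)).append (chkOn_spec hA cl1_8_3 c hc)).append (chkOn_spec hA cl1_8_4 c hc)).append (chkOn_spec hA cl1_8_5 c hc)).append (chkOn_spec hA cl1_8_6 c hc)).append (chkOn_spec hA cl1_8_7 c hc)).append (chkOn_spec hA cl1_8_8 c hc)).append (chkOn_spec hA cl1_8_9 c hc)).append (chkOn_spec hA cl1_8_10 c hc)).append (chkOn_spec hA cl1_8_11 c hc)).append (chkOn_spec hA cl1_8_12 c hc)).append (chkOn_spec hA cl1_8_13 c hc)).append (chkOn_spec hA cl1_8_14 c hc)).append (chkOn_spec hA cl1_8_15 c hc)).append (chkOn_spec hA cl1_8_16 c hc)).append (chkOn_spec hA cl1_8_17 c hc)).append (chkOn_spec hA cl1_8_18 c hc)))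
  (fun c hc => HoldsOn.holds hA (((((((((((((((((((chkOn_spec hA cl1_9_0 c hc).append (chkOn_spec hA cl1_9_1 c hc)).append (chkOn_spec hA cl1_9_2 c hc)).append (chkOn_spec hA cl1_9_3 c hc)).append (chkOn_spec hA cl1_9_4 c hc)).append (chkOn_spec hA cl1_9_5 c hc)).append (chkOn_spec hA cl1_9_6 c hc)).append (chkOn_spec hA cl1_9_7 c hc)).append (chkOn_spec hA cl1_9_8 c hc)).append (chkOn_spec hA cl1_9_9 c hc)).append (chkOn_spec hA cl1_9_10 c hc)).append (chkOn_spec hA cl1_9_11 c hc)).append (chkOn_spec hA cl1_9_12 c hc)).append (chkOn_spec hA cl1_9_13 c hc)).append (chkOn_spec hA cl1_9_14 c hc)).append (chkOn_spec hA cl1_9_15 c hc)).append (chkOn_spec hA cl1_9_16 c hc)).append (chkOn_spec hA cl1_9_17 c hc)).append (chkOn_spec hA cl1_9_18 c hc))))))))))))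

theorem stab1 : StabIs A 3 25121 4 := stabIs_dc' hA stab2 ok1
  (forall_take_drop 1 (allL_spec ok1_0)
  (forall_take_drop 1 (allL_spec ok1_1)
  (allL_spec ok1_2))) cl1

theorem card1 : Nat.card (K A 3) = 4089470473293004800 := card_K_step hA stab1 orb1 card2

theorem cl0 : ∀ c ∈ cl0_l, Holds A c :=
  (forall_take_drop 1 (fun c hc => HoldsOn.holds hA (((((((((((((((((((chkOn_spec hA cl0_0_0 c hc).append (chkOn_spec hA cl0_0_1 c hc)).append (chkOn_spec hA cl0_0_2 c hc)).append (chkOn_spec hA cl0_0_3 c hc)).append (chkOn_spec hA cl0_0_4 c hc)).append (chkOn_spec hA cl0_0_5 c hc)).append (chkOn_spec hA cl0_0_6 c hc)).append (chkOn_spec hA cl0_0_7 c hc)).append (chkOn_spec hA cl0_0_8 c hc)).append (chkOn_spec hA cl0_0_9 c hc)).append (chkOn_spec hA cl0_0_10 c hc)).append (chkOn_spec hA cl0_0_11 c hc)).append (chkOn_spec hA cl0_0_12 c hc)).append (chkOn_spec hA cl0_0_13 c hc)).append (chkOn_spec hA cl0_0_14 c hc)).append (chkOn_spec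 hA cl0_0_15 c hc)).append (chkOn_spec hA cl0_0_16 c hc)).append (chkOn_spec hA cl0_0_17 c hc)).append (chkOn_spec hA cl0_0_18 c hc)))
  (forall_take_drop 2 (fun c hc => HoldsOn.holds hA (((((((((((((((((((chkOn_spec hA cl0_1_0 c hc).append (chkOn_spec hA cl0_1_1 c hc)).append (chkOn_spec hA cl0_1_2 c hc)).append (chkOn_spec hA cl0_1_3 c hc)).append (chkOn_spec hA cl0_1_4 c hc)).append (chkOn_spec hA cl0_1_5 c hc)).append (chkOn_spec hA cl0_1_6 c hc)).append (chkOn_spec hA cl0_1_7 c hc)).append (chkOn_spec hA cl0_1_8 c hc)).append (chkOn_spec hA cl0_1_9 c hc)).append (chkOn_spec hA cl0_1_10 c hc)).append (chkOn_spec hA cl0_1_11 c hc)).append (chkOn_spec hA cl0_1_12 c hc)).append (chkOn_spec hA cl0_1_13 c hc)).append (chkOn_spec hA cl0_1_14 c hc)).append (chkOn_spec hA cl0_1_15 c hc)).append (chkOn_spec hA cl0_1_16 c hc)).append (chkOn_spec hA cl0_1_17 c hc)).append (chkOn_spec hA cl0_1_18 c hc)))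
  (forall_take_drop 2 (fun c hc => HoldsOn.holds hA (((((((((((((((((((chkOn_spec hA cl0_2_0 c hc).append (chkOn_spec hA cl0_2_1 c hc)).append (chkOn_spec hA cl0_2_2 c hc)).append (chkOn_spec hA cl0_2_3 c hc)).append (chkOn_spec hA cl0_2_4 c hc)).append (chkOn_spec hA cl0_2_5 c hc)).append (chkOn_spec hA cl0_2_6 c hc)).append (chkOn_spec hA cl0_2_7 c hc)).append (chkOn_spec hA cl0_2_8 c hc)).append (chkOn_spec hA cl0_2_9 c hc)).append (chkOn_spec hA cl0_2_10 c hc)).append (chkOn_spec hA cl0_2_11 c hc)).append (chkOn_spec hA cl0_2_12 c hc)).append (chkOn_spec hA cl0_2_13 c hc)).append (chkOn_spec hA cl0_2_14 c hc)).append (chkOn_spec hA cl0_2_15 c hc)).append (chkOn_spec hA cl0_2_16 c hc)).append (chkOn_spec hA cl0_2_17 c hc)).append (chkOn_spec hA cl0_2_18 c hc)))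
  (forall_take_drop 2 (fun c hc => HoldsOn.holds hA (((((((((((((((((((chkOn_spec hA cl0_3_0 c hc).append (chkOn_spec hA cl0_3_1 c hc)).append (chkOn_spec hA cl0_3_2 c hc)).append (chkOn_spec hA cl0_3_3 c hc)).append (chkOn_spec hA cl0_3_4 c hc)).append (chkOn_spec hA cl0_3_5 c hc)).append (chkOn_spec hA cl0_3_6 c hc)).append (chkOn_spec hA cl0_3_7 c hc)).append (chkOn_spec hA cl0_3_8 c hc)).append (chkOn_spec hA cl0_3_9 c hc)).append (chkOn_spec hA cl0_3_10 c hc)).append (chkOn_spec hA cl0_3_11 c hc)).append (chkOn_spec hA cl0_3_12 c hc)).append (chkOn_spec hA cl0_3_13 c hc)).append (chkOn_spec hA cl0_3_14 c hc)).append (chkOn_spec hA cl0_3_15 c hc)).append (chkOn_spec hA cl0_3_16 c hc)).append (chkOn_spec hA cl0_3_17 c hc)).append (chkOn_spec hA cl0_3_18 c hc)))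
  (forall_take_drop 5 (fun c hc => HoldsOn.holds hA (((((((((((((((((((chkOn_spec hA cl0_4_0 c hc).append (chkOn_spec hA cl0_4_1 c hc)).append (chkOn_spec hA cl0_4_2 c hc)).append (chkOn_spec hA cl0_4_3 c hc)).append (chkOn_spec hA cl0_4_4 c hc)).append (chkOn_spec hA cl0_4_5 c hc)).append (chkOn_spec hA cl0_4_6 c hc)).append (chkOn_spec hA cl0_4_7 c hc)).append (chkOn_spec hA cl0_4_8 c hc)).append (chkOn_spec hA cl0_4_9 c hc)).append (chkOn_spec hA cl0_4_10 c hc)).append (chkOn_spec hA cl0_4_11 c hc)).append (chkOn_spec hA cl0_4_12 c hc)).append (chkOn_spec hA cl0_4_13 c hc)).append (chkOn_spec hA cl0_4_14 c hc)).append (chkOn_spec hA cl0_4_15 c hc)).append (chkOn_spec hA cl0_4_16 c hc)).append (chkOn_spec hA cl0_4_17 c hc)).append (chkOn_spec hA cl0_4_18 c hc)))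
  (forall_take_drop 8 (fun c hc => HoldsOn.holds hA (((((((((((((((((((chkOn_spec hA cl0_5_0 c hc).append (chkOn_spec hA cl0_5_1 c hc)).append (chkOn_spec hA cl0_5_2 c hc)).append (chkOn_spec hA cl0_5_3 c hc)).append (chkOn_spec hA cl0_5_4 c hc)).append (chkOn_spec hA cl0_5_5 c hc)).append (chkOn_spec hA cl0_5_6 c hc)).append (chkOn_spec hA cl0_5_7 c hc)).append (chkOn_spec hA cl0_5_8 c hc)).append (chkOn_spec hA cl0_5_9 c hc)).append (chkOn_spec hA cl0_5_10 c hc)).append (chkOn_spec hA cl0_5_11 c hc)).append (chkOn_spec hA cl0_5_12 c hc)).append (chkOn_spec hA cl0_5_13 c hc)).append (chkOn_spec hA cl0_5_14 c hc)).append (chkOn_spec hA cl0_5_15 c hc)).append (chkOn_spec hA cl0_5_16 c hc)).append (chkOn_spec hA cl0_5_17 c hc)).append (chkOn_spec hA cl0_5_18 c hc)))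
  (forall_take_drop 1 (fun c hc => HoldsOn.holds hA (((((((((((((((((((chkOn_spec hA cl0_6_0 c hc).append (chkOn_spec hA cl0_6_1 c hc)).append (chkOn_spec hA cl0_6_2 c hc)).append (chkOn_spec hA cl0_6_3 c hc)).append (chkOn_spec hA cl0_6_4 c hc)).append (chkOn_spec hA cl0_6_5 c hc)).append (chkOn_spec hA cl0_6_6 c hc)).append (chkOn_spec hA cl0_6_7 c hc)).append (chkOn_spec hA cl0_6_8 c hc)).append (chkOn_spec hA cl0_6_9 c hc)).append (chkOn_spec hA cl0_6_10 c hc)).append (chkOn_spec hA cl0_6_11 c hc)).append (chkOn_spec hA cl0_6_12 c hc)).append (chkOn_spec hA cl0_6_13 c hc)).append (chkOn_spec hA cl0_6_14 c hc)).append (chkOn_spec hA cl0_6_15 c hc)).append (chkOn_spec hA cl0_6_16 c hc)).append (chkOn_spec hA cl0_6_17 c hc)).append (chkOn_spec hA cl0_6_18 c hc)))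
  (forall_take_drop 2 (fun c hc => HoldsOn.holds hA (((((((((((((((((((chkOn_spec hA cl0_7_0 c hc).append (chkOn_spec hA cl0_7_1 c hc)).append (chkOn_spec hA cl0_7_2 c hc)).append (chkOn_spec hA cl0_7_3 c hc)).append (chkOn_spec hA cl0_7_4 c hc)).append (chkOn_spec hA cl0_7_5 c hc)).append (chkOn_spec hA cl0_7_6 c hc)).append (chkOn_spec hA cl0_7_7 c hc)).append (chkOn_spec hA cl0_7_8 c hc)).append (chkOn_spec hA cl0_7_9 c hc)).append (chkOn_spec hA cl0_7_10 c hc)).append (chkOn_spec hA cl0_7_11 c hc)).append (chkOn_spec hA cl0_7_12 c hc)).append (chkOn_spec hA cl0_7_13 c hc)).append (chkOn_spec hA cl0_7_14 c hc)).append (chkOn_spec hA cl0_7_15 c hc)).append (chkOn_spec hA cl0_7_16 c hc)).append (chkOn_spec hA cl0_7_17 c hc)).append (chkOn_spec hA cl0_7_18 c hc)))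
  (forall_take_drop 1 (fun c hc => HoldsOn.holds hA (((((((((((((((((((chkOn_spec hA cl0_8_0 c hc).append (chkOn_spec hA cl0_8_1 c hc)).append (chkOn_spec hA cl0_8_2 c hc)).append (chkOn_spec hA cl0_8_3 c hc)).append (chkOn_spec hA cl0_8_4 c hc)).append (chkOn_spec hA cl0_8_5 c hc)).append (chkOn_spec hA cl0_8_6 c hc)).append (chkOn_spec hA cl0_8_7 c hc)).append (chkOn_spec hA cl0_8_8 c hc)).append (chkOn_spec hA cl0_8_9 c hc)).append (chkOn_spec hA cl0_8_10 c hc)).append (chkOn_spec hA cl0_8_11 c hc)).append (chkOn_spec hA cl0_8_12 c hc)).append (chkOn_spec hA cl0_8_13 c hc)).append (chkOn_spec hA cl0_8_14 c hc)).append (chkOn_spec hA cl0_8_15 c hc)).append (chkOn_spec hA cl0_8_16 c hc)).append (chkOn_spec hA cl0_8_17 c hc)).append (chkOn_spec hA cl0_8_18 c hc)))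
  (forall_take_drop 1 (fun c hc => HoldsOn.holds hA (((((((((((((((((((chkOn_spec hA cl0_9_0 c hc).append (chkOn_spec hA cl0_9_1 c hc)).append (chkOn_spec hA cl0_9_2 c hc)).append (chkOn_spec hA cl0_9_3 c hc)).append (chkOn_spec hA cl0_9_4 c hc)).append (chkOn_spec hA cl0_9_5 c hc)).append (chkOn_spec hA cl0_9_6 c hc)).append (chkOn_spec hA cl0_9_7 c hc)).append (chkOn_spec hA cl0_9_8 c hc)).append (chkOn_spec hA cl0_9_9 c hc)).append (chkOn_spec hA cl0_9_10 c hc)).append (chkOn_spec hA cl0_9_11 c hc)).append (chkOn_spec hA cl0_9_12 c hc)).append (chkOn_spec hA cl0_9_13 c hc)).append (chkOn_spec hA cl0_9_14 c hc)).append (chkOn_spec hA cl0_9_15 c hc)).append (chkOn_spec hA cl0_9_16 c hc)).append (chkOn_spec hA cl0_9_17 c hc)).append (chkOn_spec hA cl0_9_18 c hc)))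
  (forall_take_drop 1 (fun c hc => HoldsOn.holds hA (((((((((((((((((((chkOn_spec hA cl0_10_0 c hc).append (chkOn_spec hA cl0_10_1 c hc)).append (chkOn_spec hA cl0_10_2 c hc)).append (chkOn_spec hA cl0_10_3 c hc)).append (chkOn_spec hA cl0_10_4 c hc)).append (chkOn_spec hA cl0_10_5 c hc)).append (chkOn_spec hA cl0_10_6 c hc)).append (chkOn_spec hA cl0_10_7 c hc)).append (chkOn_spec hA cl0_10_8 c hc)).append (chkOn_spec hA cl0_10_9 c hc)).append (chkOn_spec hA cl0_10_10 c hc)).append (chkOn_spec hA cl0_10_11 c hc)).append (chkOn_spec hA cl0_10_12 c hc)).append (chkOn_spec hA cl0_10_13 c hc)).append (chkOn_spec hA cl0_10_14 c hc)).append (chkOn_spec hA cl0_10_15 c hc)).append (chkOn_spec hA cl0_10_16 c hc)).append (chkOn_spec hA cl0_10_17 c hc)).append (chkOn_spec hA cl0_10_18 c hc)))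
  (forall_take_drop 1 (fun c hc => HoldsOn.holds hA (((((((((((((((((((chkOn_spec hA cl0_11_0 c hc).append (chkOn_spec hA cl0_11_1 c hc)).append (chkOn_spec hA cl0_11_2 c hc)).append (chkOn_spec hA cl0_11_3 c hc)).append (chkOn_spec hA cl0_11_4 c hc)).append (chkOn_spec hA cl0_11_5 c hc)).append (chkOn_spec hA cl0_11_6 c hc)).append (chkOn_spec hA cl0_11_7 c hc)).append (chkOn_spec hA cl0_11_8 c hc)).append (chkOn_spec hA cl0_11_9 c hc)).append (chkOn_spec hA cl0_11_10 c hc)).append (chkOn_spec hA cl0_11_11 c hc)).append (chkOn_spec hA cl0_11_12 c hc)).append (chkOn_spec hA cl0_11_13 c hc)).append (chkOn_spec hA cl0_11_14 c hc)).append (chkOn_spec hA cl0_11_15 c hc)).append (chkOn_spec hA cl0_11_16 c hc)).append (chkOn_spec hA cl0_11_17 c hc)).append (chkOn_spec hA cl0_11_18 c hc)))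
  (forall_take_drop 1 (fun c hc => HoldsOn.holds hA (((((((((((((((((((chkOn_spec hA cl0_12_0 c hc).append (chkOn_spec hA cl0_12_1 c hc)).append (chkOn_spec hA cl0_12_2 c hc)).append (chkOn_spec hA cl0_12_3 c hc)).append (chkOn_spec hA cl0_12_4 c hc)).append (chkOn_spec hA cl0_12_5 c hc)).append (chkOn_spec hA cl0_12_6 c hc)).append (chkOn_spec hA cl0_12_7 c hc)).append (chkOn_spec hA cl0_12_8 c hc)).append (chkOn_spec hA cl0_12_9 c hc)).append (chkOn_spec hA cl0_12_10 c hc)).append (chkOn_spec hA cl0_12_11 c hc)).append (chkOn_spec hA cl0_12_12 c hc)).append (chkOn_spec hA cl0_12_13 c hc)).append (chkOn_spec hA cl0_12_14 c hc)).append (chkOn_spec hA cl0_12_15 c hc)).append (chkOn_spec hA cl0_12_16 c hc)).append (chkOn_spec hA cl0_12_17 c hc)).append (chkOn_spec hA cl0_12_18 c hc)))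
  (fun c hc => HoldsOn.holds hA (((((((((((((((((((chkOn_spec hA cl0_13_0 c hc).append (chkOn_spec hA cl0_13_1 c hc)).append (chkOn_spec hA cl0_13_2 c hc)).append (chkOn_spec hA cl0_13_3 c hc)).append (chkOn_spec hA cl0_13_4 c hc)).append (chkOn_spec hA cl0_13_5 c hc)).append (chkOn_spec hA cl0_13_6 c hc)).append (chkOn_spec hA cl0_13_7 c hc)).append (chkOn_spec hA cl0_13_8 c hc)).append (chkOn_spec hA cl0_13_9 c hc)).append (chkOn_spec hA cl0_13_10 c hc)).append (chkOn_spec hA cl0_13_11 c hc)).append (chkOn_spec hA cl0_13_12 c hc)).append (chkOn_spec hA cl0_13_13 c hc)).append (chkOn_spec hA cl0_13_14 c hc)).append (chkOn_spec hA cl0_13_15 c hc)).append (chkOn_spec hA cl0_13_16 c hc)).append (chkOn_spec hA cl0_13_17 c hc)).append (chkOn_spec hA cl0_13_18 c hc))))))))))))))))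

theorem stab0 : StabIs A 2 31671 3 := stabIs_dc' hA stab1 ok0
  (forall_take_drop 1 (allL_spec ok0_0)
  (forall_take_drop 1 (allL_spec ok0_1)
  (allL_spec ok0_2))) cl0

theorem card0 : Nat.card (K A 2) = 1255205709190661721292800 := card_K_step hA stab0 orb0 card1

theorem fixTriv0 {B : Set ℕ} (h0 : 31671 ∈ B) (h1 : 25121 ∈ B) (h2 : 584 ∈ B) (h3 : 2853 ∈ B) (h4 : 7709 ∈ B) (h5 : 9504 ∈ B) (h6 : 11293 ∈ B) (h7 : 550 ∈ B) (h8 : 31254 ∈ B) (h9 : 0 ∈ B) : FixTriv (K A 2) B :=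
  fixTriv_step stab0 h0 <| fixTriv_step stab1 h1 <| fixTriv_step stab2 h2 <| fixTriv_step stab3 h3 <| fixTriv_step stab4 h4 <| fixTriv_step stab5 h5 <| fixTriv_step stab6 h6 <| fixTriv_step stab7 h7 <| fixTriv_step stab8 h8 <| fixTriv_step stab9 h9 <| fixTriv_last A (le_of_eq hlen) B

theorem fixTriv1 {B : Set ℕ} (h1 : 25121 ∈ B) (h2 : 584 ∈ B) (h3 : 2853 ∈ B) (h4 : 7709 ∈ B) (h5 : 9504 ∈ B) (h6 : 11293 ∈ B) (h7 : 550 ∈ B) (h8 : 31254 ∈ B) (h9 : 0 ∈ B) : FixTriv (K A 3) B :=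
  fixTriv_step stab1 h1 <| fixTriv_step stab2 h2 <| fixTriv_step stab3 h3 <| fixTriv_step stab4 h4 <| fixTriv_step stab5 h5 <| fixTriv_step stab6 h6 <| fixTriv_step stab7 h7 <| fixTriv_step stab8 h8 <| fixTriv_step stab9 h9 <| fixTriv_last A (le_of_eq hlen) B

theorem fixTriv2 {B : Set ℕ} (h2 : 584 ∈ B) (h3 : 2853 ∈ B) (h4 : 7709 ∈ B) (h5 : 9504 ∈ B) (h6 : 11293 ∈ B) (h7 : 550 ∈ B) (h8 : 31254 ∈ B) (h9 : 0 ∈ B) : FixTriv (K A 4) B :=
  fixTriv_step stab2 h2 <| fixTriv_step stab3 h3 <| fixTriv_step stab4 h4 <| fixTriv_step stab5 h5 <| fixTriv_step stab6 h6 <| fixTriv_step stab7 h7 <| fixTriv_step stab8 h8 <| fixTriv_step stab9 h9 <| fixTriv_last A (le_of_eq hlen) B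

theorem fixTriv3 {B : Set ℕ} (h3 : 2853 ∈ B) (h4 : 7709 ∈ B) (h5 : 9504 ∈ B) (h6 : 11293 ∈ B) (h7 : 550 ∈ B) (h8 : 31254 ∈ B) (h9 : 0 ∈ B) : FixTriv (K A 5) B :=
  fixTriv_step stab3 h3 <| fixTriv_step stab4 h4 <| fixTriv_step stab5 h5 <| fixTriv_step stab6 h6 <| fixTriv_step stab7 h7 <| fixTriv_step stab8 h8 <| fixTriv_step stab9 h9 <| fixTriv_last A (le_of_eq hlen) B

theorem fixTriv4 {B : Set ℕ} (h4 : 7709 ∈ B) (h5 : 9504 ∈ B) (h6 : 11293 ∈ B) (h7 : 550 ∈ B) (h8 : 31254 ∈ B) (h9 : 0 ∈ B) : FixTriv (K A 6) B :=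
  fixTriv_step stab4 h4 <| fixTriv_step stab5 h5 <| fixTriv_step stab6 h6 <| fixTriv_step stab7 h7 <| fixTriv_step stab8 h8 <| fixTriv_step stab9 h9 <| fixTriv_last A (le_of_eq hlen) B

theorem fixTriv5 {B : Set ℕ} (h5 : 9504 ∈ B) (h6 : 11293 ∈ B) (h7 : 550 ∈ B) (h8 : 31254 ∈ B) (h9 : 0 ∈ B) : FixTriv (K A 7) B :=
  fixTriv_step stab5 h5 <| fixTriv_step stab6 h6 <| fixTriv_step stab7 h7 <| fixTriv_step stab8 h8 <| fixTriv_step stab9 h9 <| fixTriv_last A (le_of_eq hlen) B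

theorem fixTriv6 {B : Set ℕ} (h6 : 11293 ∈ B) (h7 : 550 ∈ B) (h8 : 31254 ∈ B) (h9 : 0 ∈ B) : FixTriv (K A 8) B :=
  fixTriv_step stab6 h6 <| fixTriv_step stab7 h7 <| fixTriv_step stab8 h8 <| fixTriv_step stab9 h9 <| fixTriv_last A (le_of_eq hlen) B

theorem fixTriv7 {B : Set ℕ} (h7 : 550 ∈ B) (h8 : 31254 ∈ B) (h9 : 0 ∈ B) : FixTriv (K A 9) B :=
  fixTriv_step stab7 h7 <| fixTriv_step stab8 h8 <| fixTriv_step stab9 h9 <| fixTriv_last A (le_of_eq hlen) B

theorem fixTriv8 {B : Set ℕ} (h8 : 31254 ∈ B) (h9 : 0 ∈ B) : FixTriv (K A 10) B :=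
  fixTriv_step stab8 h8 <| fixTriv_step stab9 h9 <| fixTriv_last A (le_of_eq hlen) B

theorem fixTriv9 {B : Set ℕ} (h9 : 0 ∈ B) : FixTriv (K A 12) B :=
  fixTriv_step stab9 h9 <| fixTriv_last A (le_of_eq hlen) B

theorem max0 (L : Subgroup (Equiv.Perm ℕ)) (h1 : K A 3 ≤ L) (h2 : L ≤ K A 2) : L = K A 3 ∨ L = K A 2 :=
  max_spec hA stab0 maxok0 h1 h2

theorem zcls0 : ∀ c ∈ zcls0_l, Holds A c :=
  (forall_take_drop 1 (fun c hc => HoldsOn.holds hA (((((((((((((((((((chkOn_spec hA zcls0_0_0 c hc).append (chkOn_spec hA zcls0_0_1 c hc)).append (chkOn_spec hA zcls0_0_2 c hc)).append (chkOn_spec hA zcls0_0_3 c hc)).append (chkOn_spec hA zcls0_0_4 c hc)).append (chkOn_spec hA zcls0_0_5 c hc)).append (chkOn_spec hA zcls0_0_6 c hc)).append (chkOn_spec hA zcls0_0_7 c hc)).append (chkOn_spec hA zcls0_0_8 c hc)).append (chkOn_spec hA zcls0_0_9 c hc)).append (chkOn_spec hA zcls0_0_10 c hc)).append (chkOn_spec hA zcls0_0_11 c hc)).append (chkOn_spec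 hA zcls0_0_12 c hc)).append (chkOn_spec hA zcls0_0_13 c hc)).append (chkOn_spec hA zcls0_0_14 c hc)).append (chkOn_spec hA zcls0_0_15 c hc)).append (chkOn_spec hA zcls0_0_16 c hc)).append (chkOn_spec hA zcls0_0_17 c hc)).append (chkOn_spec hA zcls0_0_18 c hc)))
  (forall_take_drop 1 (fun c hc => HoldsOn.holds hA (((((((((((((((((((chkOn_spec hA zcls0_1_0 c hc).append (chkOn_spec hA zcls0_1_1 c hc)).append (chkOn_spec hA zcls0_1_2 c hc)).append (chkOn_spec hA zcls0_1_3 c hc)).append (chkOn_spec hA zcls0_1_4 c hc)).append (chkOn_spec hA zcls0_1_5 c hc)).append (chkOn_spec hA zcls0_1_6 c hc)).append (chkOn_spec hA zcls0_1_7 c hc)).append (chkOn_spec hA zcls0_1_8 c hc)).append (chkOn_spec hA zcls0_1_9 c hc)).append (chkOn_spec hA zcls0_1_10 c hc)).append (chkOn_spec hA zcls0_1_11 c hc)).append (chkOn_spec hA zcls0_1_12 c hc)).append (chkOn_spec hA zcls0_1_13 c hc)).append (chkOn_spec hA zcls0_1_14 c hc)).append (chkOn_spec hA zcls0_1_15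 c hc)).append (chkOn_spec hA zcls0_1_16 c hc)).append (chkOn_spec hA zcls0_1_17 c hc)).append (chkOn_spec hA zcls0_1_18 c hc)))
  (forall_take_drop 1 (fun c hc => HoldsOn.holds hA (((((((((((((((((((chkOn_spec hA zcls0_2_0 c hc).append (chkOn_spec hA zcls0_2_1 c hc)).append (chkOn_spec hA zcls0_2_2 c hc)).append (chkOn_spec hA zcls0_2_3 c hc)).append (chkOn_spec hA zcls0_2_4 c hc)).append (chkOn_spec hA zcls0_2_5 c hc)).append (chkOn_spec hA zcls0_2_6 c hc)).append (chkOn_spec hA zcls0_2_7 c hc)).append (chkOn_spec hA zcls0_2_8 c hc)).append (chkOn_spec hA zcls0_2_9 c hc)).append (chkOn_spec hA zcls0_2_10 c hc)).append (chkOn_spec hA zcls0_2_11 c hc)).append (chkOn_spec hA zcls0_2_12 c hc)).append (chkOn_spec hA zcls0_2_13 c hc)).append (chkOn_spec hA zcls0_2_14 c hc)).append (chkOn_spec hA zcls0_2_15 c hc)).append (chkOn_spec hA zcls0_2_16 c hc)).append (chkOn_spec hA zcls0_2_17 c hc)).append (chkOn_spec hA zcls0_2_18 c hc)))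
  (fun c hc => HoldsOn.holds hA (((((((((((((((((((chkOn_spec hA zcls0_3_0 c hc).append (chkOn_spec hA zcls0_3_1 c hc)).append (chkOn_spec hA zcls0_3_2 c hc)).append (chkOn_spec hA zcls0_3_3 c hc)).append (chkOn_spec hA zcls0_3_4 c hc)).append (chkOn_spec hA zcls0_3_5 c hc)).append (chkOn_spec hA zcls0_3_6 c hc)).append (chkOn_spec hA zcls0_3_7 c hc)).append (chkOn_spec hA zcls0_3_8 c hc)).append (chkOn_spec hA zcls0_3_9 c hc)).append (chkOn_spec hA zcls0_3_10 c hc)).append (chkOn_spec hA zcls0_3_11 c hc)).append (chkOn_spec hA zcls0_3_12 c hc)).append (chkOn_spec hA zcls0_3_13 c hc)).append (chkOn_spec hA zcls0_3_14 c hc)).append (chkOn_spec hA zcls0_3_15 c hc)).append (chkOn_spec hA zcls0_3_16 c hc)).append (chkOn_spec hA zcls0_3_17 c hc)).append (chkOn_spec hA zcls0_3_18 c hc))))))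

theorem ncls0 (M : Subgroup (Equiv.Perm ℕ)) (hM : ∀ σ ∈ K A 2, ∀ n ∈ M, σ * n * σ⁻¹ ∈ M) (hy : pp A [0x02161c2e0a20] ∈ M) : K A 2 ≤ M :=
  have hz := z_mem hM hy (zc := zcs0) (by decide +kernel) zcls0
  ncl_step hA stab0 ncloks0_0 (by decide) hM (sub_z hz (by decide +kernel)) <|
  ncl_step hA stab1 ncloks0_1 (by decide) hM (sub_z hz (by decide +kernel)) <|
  ncl_step hA stab2 ncloks0_2 (by decide) hM (sub_z hz (by decide +kernel)) <|
  ncl_step hA stab3 ncloks0_3 (by decide) hM (sub_z hz (by decide +kernel)) <|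
  ncl_step hA stab4 ncloks0_4 (by decide) hM (sub_z hz (by decide +kernel)) <|
  ncl_step hA stab5 ncloks0_5 (by decide) hM (sub_z hz (by decide +kernel)) <|
  ncl_step hA stab6 ncloks0_6 (by decide) hM (sub_z hz (by decide +kernel)) <|
  ncl_step hA stab7 ncloks0_7 (by decide) hM (sub_z hz (by decide +kernel)) <|
  ncl_step hA stab8 ncloks0_8 (by decide) hM (sub_z hz (by decide +kernel)) <|
  ncl_step hA stab9 ncloks0_9 (by decide) hM (sub_z hz (by decide +kernel)) <|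
  K_last_le A (le_of_eq hlen) M

theorem yp0 : ∀ c ∈ yp0_l, Holds A c :=
  (fun c hc => HoldsOn.holds hA (((((((((((((((((((chkOn_spec hA yp0_0_0 c hc).append (chkOn_spec hA yp0_0_1 c hc)).append (chkOn_spec hA yp0_0_2 c hc)).append (chkOn_spec hA yp0_0_3 c hc)).append (chkOn_spec hA yp0_0_4 c hc)).append (chkOn_spec hA yp0_0_5 c hc)).append (chkOn_spec hA yp0_0_6 c hc)).append (chkOn_spec hA yp0_0_7 c hc)).append (chkOn_spec hA yp0_0_8 c hc)).append (chkOn_spec hA yp0_0_9 c hc)).append (chkOn_spec hA yp0_0_10 c hc)).append (chkOn_spec hA yp0_0_11 c hc)).append (chkOn_spec hA yp0_0_12 c hc)).append (chkOn_spec hA yp0_0_13 c hc)).append (chkOn_spec hA yp0_0_14 c hc)).append (chkOn_spec hA yp0_0_15 c hc)).append (chkOn_spec hA yp0_0_16 c hc)).append (chkOn_spec hA yp0_0_17 c hc)).append (chkOn_spec hA yp0_0_18 c hc)))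

theorem simple0 : IsSimpleGroup (K A 2) :=
  isSimpleGroup_K hA stab0 (exists_moved hA (j := 2) (by decide +kernel)) max0 (fixTriv0
    (mem_orbit_of_word hA (w := 1) (by decide +kernel))
    (mem_orbit_of_word hA (w := 0x105) (by decide +kernel))
    (mem_orbit_of_word hA (w := 0x10507) (by decide +kernel))
    (mem_orbit_of_word hA (w := 0x1050709) (by decide +kernel))
    (mem_orbit_of_word hA (w := 0x10507090b) (by decide +kernel))
    (mem_orbit_of_word hA (w := 0x10507090b0d) (by decide +kernel))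
    (mem_orbit_of_word hA (w := 0x1040e140609) (by decide +kernel))
    (mem_orbit_of_word hA (w := 0x104060d0905) (by decide +kernel))
    (mem_orbit_of_word hA (w := 0x1040b11060f) (by decide +kernel))
    (mem_orbit_of_word hA (w := 0x1040708100f0a) (by decide +kernel)))
    (p := 29) (e := 1) (by norm_num) (by rw [card1]; norm_num) (pp_mem (l := [0x02161c2e0a20]) (by decide +kernel))
    (pow_of_claim yp0) ncls0

theorem tcomm : ∀ c ∈ tcomm_l, Holds A c :=
  (fun c hc => HoldsOn.holds hA (((((((((((((((((((chkOn_spec hA tcomm_0_0 c hc).append (chkOn_spec hA tcomm_0_1 c hc)).append (chkOn_spec hA tcomm_0_2 c hc)).append (chkOn_spec hA tcomm_0_3 c hc)).append (chkOn_spec hA tcomm_0_4 c hc)).append (chkOn_spec hA tcomm_0_5 c hc)).append (chkOn_spec hA tcomm_0_6 c hc)).append (chkOn_spec hA tcomm_0_7 c hc)).append (chkOn_spec hA tcomm_0_8 c hc)).append (chkOn_spec hA tcomm_0_9 c hc)).append (chkOn_spec hA tcomm_0_10 c hc)).append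 (chkOn_spec hA tcomm_0_11 c hc)).append (chkOn_spec hA tcomm_0_12 c hc)).append (chkOn_spec hA tcomm_0_13 c hc)).append (chkOn_spec hA tcomm_0_14 c hc)).append (chkOn_spec hA tcomm_0_15 c hc)).append (chkOn_spec hA tcomm_0_16 c hc)).append (chkOn_spec hA tcomm_0_17 c hc)).append (chkOn_spec hA tcomm_0_18 c hc)))

theorem ttr : ∀ c ∈ ttr_l, Holds A c :=
  (fun c hc => HoldsOn.holds hA (((((((((((((((((((chkOn_spec hA ttr_0_0 c hc).append (chkOn_spec hA ttr_0_1 c hc)).append (chkOn_spec hA ttr_0_2 c hc)).append (chkOn_spec hA ttr_0_3 c hc)).append (chkOn_spec hA ttr_0_4 c hc)).append (chkOn_spec hA ttr_0_5 c hc)).append (chkOn_spec hA ttr_0_6 c hc)).append (chkOn_spec hA ttr_0_7 c hc)).append (chkOn_spec hA ttr_0_8 c hc)).append (chkOn_spec hA ttr_0_9 c hc)).append (chkOn_spec hA ttr_0_10 c hc)).append (chkOn_spec hA ttr_0_11 c hc)).append (chkOn_spec hA ttr_0_12 c hc)).append (chkOn_spec hA ttr_0_13 c hc)).append (chkOn_spec hA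 ttr_0_14 c hc)).append (chkOn_spec hA ttr_0_15 c hc)).append (chkOn_spec hA ttr_0_16 c hc)).append (chkOn_spec hA ttr_0_17 c hc)).append (chkOn_spec hA ttr_0_18 c hc)))

theorem tsq : ∀ c ∈ tsq_l, Holds A c :=
  (fun c hc => HoldsOn.holds hA (((((((((((((((((((chkOn_spec hA tsq_0_0 c hc).append (chkOn_spec hA tsq_0_1 c hc)).append (chkOn_spec hA tsq_0_2 c hc)).append (chkOn_spec hA tsq_0_3 c hc)).append (chkOn_spec hA tsq_0_4 c hc)).append (chkOn_spec hA tsq_0_5 c hc)).append (chkOn_spec hA tsq_0_6 c hc)).append (chkOn_spec hA tsq_0_7 c hc)).append (chkOn_spec hA tsq_0_8 c hc)).append (chkOn_spec hA tsq_0_9 c hc)).append (chkOn_spec hA tsq_0_10 c hc)).append (chkOn_spec hA tsq_0_11 c hc)).append (chkOn_spec hA tsq_0_12 c hc)).append (chkOn_spec hA tsq_0_13 c hc)).append (chkOn_spec hA tsq_0_14 c hc)).append (chkOn_spec hA tsq_0_15 c hc)).append (chkOn_spec hA tsq_0_16 c hc)).append (chkOn_spec hA tsq_0_17 c hc)).append (chkOn_spec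 hA tsq_0_18 c hc)))

theorem tnorm : ∀ c ∈ tnorm_l, Holds A c :=
  (fun c hc => HoldsOn.holds hA (((((((((((((((((((chkOn_spec hA tnorm_0_0 c hc).append (chkOn_spec hA tnorm_0_1 c hc)).append (chkOn_spec hA tnorm_0_2 c hc)).append (chkOn_spec hA tnorm_0_3 c hc)).append (chkOn_spec hA tnorm_0_4 c hc)).append (chkOn_spec hA tnorm_0_5 c hc)).append (chkOn_spec hA tnorm_0_6 c hc)).append (chkOn_spec hA tnorm_0_7 c hc)).append (chkOn_spec hA tnorm_0_8 c hc)).append (chkOn_spec hA tnorm_0_9 c hc)).append (chkOn_spec hA tnorm_0_10 c hc)).append (chkOn_spec hA tnorm_0_11 c hc)).append (chkOn_spec hA tnorm_0_12 c hc)).append (chkOn_spec hA tnorm_0_13 c hc)).append (chkOn_spec hA tnorm_0_14 c hc)).append (chkOn_spec hA tnorm_0_15 c hc)).append (chkOn_spec hA tnorm_0_16 c hc)).append (chkOn_spec hA tnorm_0_17 c hc)).append (chkOn_spec hA tnorm_0_18 c hc)))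


end Cfsg.Agent.Spor.Fi24
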